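import Cfsg.Agent.H42.ALDefs

/-!
# Standard subgroups that cover `L₃(4)` or `G₂(4)` (project AC): definitions, interfaces

The proofs on paper are in `stubs/notes/h42_ac.md`.
-/

set_option autoImplicit false

namespace Cfsg.Agent.H42.AL

open Cfsg Subgroup Cfsg.Agent.H28 Cfsg.Agent.H30
open Cfsg.Agent.H8 (IsSylowIn)
open Cfsg.Agent.H42.AS (om)
open scoped commutatorElement

universe u

variable {G H : Type u} [Group G] [Group H]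

/-! ### Centre of odd order: the primed versions of `Rel`, `Glob`, `Par`, `Fa` -/

namespace RD

variable (D : RD G)

structure Rel' : Prop where
  ee : ∀ t u, D.xe (t + u) = D.xe t * D.xe u
  bb : ∀ t u, D.xb (t + u) = D.xb t * D.xb u
  vv : ∀ t u, D.xv (t + u) = D.xv t * D.xv u
  be : ∀ t u, D.xb t * D.xe u = D.xe u * D.xv (t * u) * D.xb t
  bv : ∀ t u, D.xb t * D.xv u = D.xv u * D.xb t
  ev : ∀ t u, D.xe t * D.xv u = D.xv u * D.xe t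
  ne2 : D.ne * D.ne = 1
  nb2 : D.nb * D.nb = 1
  neb : ∀ t, D.ne * D.xb t = D.xv t * D.ne
  nbe : ∀ t, D.nb * D.xe t = D.xv t * D.nb
  ne3 : (D.ne * D.xe 1) ^ 3 = 1
  nb3 : (D.nb * D.xb 1) ^ 3 = 1
  zK : D.swap.rho⁻¹ * D.rho ∈ D.K
  r3 : D.rho ^ 3 = 1
  r3' : D.swap.rho ^ 3 = 1
  re : ∀ t, D.rho * D.xe t = D.xe (om * t) * D.rho
  rb : ∀ t, D.rho * D.xb t = D.xb (om * t) * D.rho
  rv : ∀ t, D.rho * D.xv t = D.xv (om ^ 2 * t) * D.rho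
  ner : D.ne * D.swap.rho * D.ne = D.swap.rho ^ 2
  nbr : D.nb * D.rho * D.nb = D.rho ^ 2
  nf : ∀ t1 t2 t3, D.xe t1 * D.xb t2 * D.xv t3 = 1 → t1 = 0 ∧ t2 = 0 ∧ t3 = 0

structure Glob' : Prop where
  qs : ∀ J : Subgroup G, J ≤ D.A → D.A ≤ normalizer (J : Set G) → J ≤ D.K ∨ J = D.A
  perf : ⁅D.A, D.A⁆ = D.A
  inv : ∀ a ∈ D.A, a * a = 1 → a ≠ 1 → ∃ y ∈ D.A, y * a * y⁻¹ = D.xv 1
  centV : ∀ t, t ≠ 0 → ∀ a ∈ D.A, a * D.xv t = D.xv t * a → ∃ u ∈ D.U, ∃ k ∈ D.K, a = u * k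
  normV : ∀ a ∈ D.A, a ∈ normalizer (D.V : Set G) →
    ∃ i : ℕ, ∃ u ∈ D.U, ∃ k ∈ D.K, a * D.rho ^ i = u * k
  out : ∀ g ∈ D.N, ∃ a ∈ D.A, ∃ l m fr, D.St D (a * g) l m fr ∨ D.St D.swap (a * g) l m fr

structure Par' : Prop where
  AKo : ∀ a ∈ D.A, a ∈ D.K → Odd (orderOf a)
  AK : ∀ a ∈ D.A, a ∈ D.K → ∀ n : ℕ, a ^ 2 ^ n = 1 → a = 1
  unf : ∀ u ∈ D.U, ∃ t1 t2 t3, u = D.xe t1 * D.xb t2 * D.xv t3
  cardU : Nat.card D.U = 64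
  syl : IsSylowIn 2 D.U D.A
  invU : ∀ u ∈ D.U, u * u = 1 → u ∈ D.E1 ∨ u ∈ D.E2
  genU : ∀ H : Subgroup G, D.U ≤ H → (∀ a ∈ D.A, a * D.xe 1 = D.xe 1 * a → a ∈ H) →
    (∀ a ∈ D.A, a * D.xb 1 = D.xb 1 * a → a ∈ H) → D.A ≤ H
  nrmU : ∀ J : Subgroup G, D.U ≤ normalizer (J : Set G) → (∃ x ∈ J, x ∈ D.U ∧ x ∉ D.V) → D.V ≤ J
  oddU : ∀ J : Subgroup G, J ≤ D.A → Odd (Nat.card J) → D.U ≤ normalizer (J : Set G) → J ≤ D.K
  stK : ∀ g, D.St D g 1 1 false → g ∈ D.K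
  nU : ∀ g ∈ D.N, g ∈ normalizer (D.V : Set G) →
    ∃ u ∈ D.U, ∃ l m fr, D.St D (u * g) l m fr ∨ D.St D.swap (u * g) l m fr
  cU : ∀ g ∈ D.N, (∀ u ∈ D.U, g * u = u * g) → ∃ t, ∃ k ∈ D.K, g = D.xv t * k
  cUV : ∀ g ∈ D.N, (∀ u ∈ D.U, ⁅g, u⁆ ∈ D.V) → ∃ u ∈ D.U, ∃ k ∈ D.K, g = u * k
  o3 : ∀ g ∈ D.N, g ^ 3 = 1 → g * D.xv 1 = D.xv 1 * g → g ∈ D.K ∨ D.U ≤ ⁅zpowers g, D.U⁆
  comm2 : ∀ z ∈ ⁅D.N, D.N⁆, (∃ n : ℕ, z ^ 2 ^ n = 1) → ∃ a ∈ D.A, ∃ k ∈ D.K, z = a * k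
  outinv : ∀ g ∈ D.N, g * g ∈ D.K → (∀ a ∈ D.A, a * g ∉ D.K) → ∃ x ∈ D.A, ∃ y ∈ D.A, ∃ a ∈ D.A,
    g * x = x * g ∧ g * y = y * g ∧ ⁅x, y⁆ ≠ 1 ∧ ⁅x, y⁆ * ⁅x, y⁆ = 1 ∧ a * g * a⁻¹ = ⁅x, y⁆ * g
  out4 : ∀ g ∈ D.N, ∀ h ∈ D.N, g * g ∈ D.K → h * h ∈ D.K → g * h * (g * h) ∈ D.K →
    (∀ a ∈ D.A, a * g ∉ D.K ∧ a * h ∉ D.K ∧ a * (g * h) ∉ D.K) →
    ∀ x ∈ D.A, ∀ y ∈ D.A, x * x = 1 → y * y = 1 → x * y = y * x → x ≠ 1 → y ≠ 1 → x ≠ y →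
    ¬ (g * x = x * g ∧ g * y = y * g ∧ h * x = x * h ∧ h * y = y * h)

structure Fa' : Prop where
  rel : D.Rel'
  glob : D.Glob'
  par : D.Par'

end RD

def PreStmt' : Prop :=
  ∀ (G : Type u) [Group G] [Finite G] (D : RD G), D.Fa' → IsStandardSubgroup D.A →
    ¬ PRankLE 2 1 D.K →
    (∃ g, g ∉ D.N ∧ Even (Nat.card ↥(D.K.map (MulAut.conj g).toMonoidHom ⊓ D.N))) →
    ∃ R, PD D R

def WAStmt' : Prop :=
  ∀ (G : Type u) [Group G] [Finite G] (D : RD G) (R : Subgroup G), D.Fa' → PD D R →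
    ∃ O r f c, WA D R O r f c

def WBStmt' : Prop :=
  ∀ (G : Type u) [Group G] [Finite G] (D : RD G) (R O : Subgroup G) (r f : F4 → G) (c : F4),
    D.Fa' → PD D R → WA D R O r f c → ∃ v v', WB D r f v ∧ WB D.swap r f v'

def W4Stmt' : Prop :=
  ∀ (G : Type u) [Group G] [Finite G] (D : RD G) (R O : Subgroup G) (r f : F4 → G) (c l : F4),
    D.Fa' → WA D R O r f c → (∀ s t, f (s + t) = f s * f t) → l ≠ 0 → ∃ W π, W4 D r f l W π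

def VOneStmt' : Prop :=
  ∀ (G : Type u) [Group G] [Finite G] (D : RD G) (R O W : Subgroup G) (r f : F4 → G)
    (c v v' : F4) (π : G → N4 × N4), D.Fa' → PD D R → WA D R O r f c → WB D r f v →
    WB D.swap r f v' → W4 D r f 1 W π → v * v' = 1

def PhiStmt' : Prop :=
  ∀ (G : Type u) [Group G] [Finite G] (D : RD G) (R Od W : Subgroup G) (r f : F4 → G)
    (c v v' : F4) (π : G → N4 × N4), D.Fa' → PD D R → WA D R Od r f c → WB D r f v →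
    WB D.swap r f v' → v * v' = 1 → W4 D r f v W π → ∃ Φ, PhiD D.V W Od π Φ

def HDStmt' : Prop :=
  ∀ (G : Type u) [Group G] [Finite G] (D : RD G) (R Od W : Subgroup G) (r f : F4 → G)
    (c v v' : F4) (π : G → N4 × N4) (Φ : G → O q4), D.Fa' → PD D R → WA D R Od r f c →
    WB D r f v → WB D.swap r f v' → v * v' = 1 → W4 D r f v W π → PhiD D.V W Od π Φ →
    ∃ C : WD G, WC C W Od

/-! ### Arbitrary centre -/

/-- `p` is the map of `N(A)` onto `N(A) / C(A)`, and `B` is the image of `A`. -/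
structure Cov (A : Subgroup G) (B : Subgroup H) (p : G → H) : Prop where
  std : IsStandardSubgroup A
  mul : ∀ a ∈ normalizer (A : Set G), ∀ b ∈ normalizer (A : Set G), p (a * b) = p a * p b
  ker : ∀ a ∈ normalizer (A : Set G), p a = 1 ↔ a ∈ centralizer (A : Set G)
  surj : ∀ h, ∃ a ∈ normalizer (A : Set G), p a = h
  img : ∀ h, h ∈ B ↔ ∃ a ∈ A, p a = h
  faith : centralizer (B : Set H) = ⊥
  nrm : normalizer (B : Set H) = ⊤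

/-- The lifts `D` of the root data `B`, and the central elements `χ`. -/
structure Lf (D : RD G) (B : RD H) (p : G → H) (χ : F4 → G) : Prop where
  cov : Cov D.A B.A p
  fa : B.Fa
  pe : ∀ t, p (D.xe t) = B.xe t
  pb : ∀ t, p (D.xb t) = B.xb t
  pv : ∀ t, p (D.xv t) = B.xv t
  pne : p D.ne = B.ne
  pnb : p D.nb = B.nb
  ee : ∀ t u, D.xe (t + u) = D.xe t * D.xe u
  bb : ∀ t u, D.xb (t + u) = D.xb t * D.xb u
  vv : ∀ t u, D.xv (t + u) = D.xv t * D.xv u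
  be : ∀ t u, D.xb t * D.xe u = D.xe u * D.xv (t * u) * χ (t * u ^ 2) * D.xb t
  ve : ∀ s t, D.xv s * D.xe t = D.xe t * D.xv s * χ (s * t) ^ 2
  vb : ∀ s t, D.xv s * D.xb t = D.xb t * D.xv s * χ (s ^ 2 * t ^ 2) ^ 2
  ne2 : D.ne * D.ne = 1
  nb2 : D.nb * D.nb = 1
  neb : ∀ t, D.ne * D.xb t = D.xv t * D.ne
  nbe : ∀ t, D.nb * D.xe t = D.xv t * D.nb
  ne3 : (D.ne * D.xe 1) ^ 3 = 1
  nb3 : (D.nb * D.xb 1) ^ 3 = 1
  zK : D.swap.rho⁻¹ * D.rho ∈ D.K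
  r3 : D.rho ^ 3 = 1
  r3' : D.swap.rho ^ 3 = 1
  re : ∀ t, D.rho * D.xe t = D.xe (om * t) * D.rho
  rb : ∀ t, D.rho * D.xb t = D.xb (om * t) * D.rho
  rv : ∀ t, D.rho * D.xv t = D.xv (om ^ 2 * t) * D.rho
  ner : D.ne * D.swap.rho * D.ne = D.swap.rho ^ 2
  nbr : D.nb * D.rho * D.nb = D.rho ^ 2
  χA : ∀ x, χ x ∈ D.U
  χK : ∀ x, χ x ∈ D.K
  χ0 : χ 0 = 1
  χ4 : ∀ x, χ x ^ 4 = 1
  χ3 : ∀ x, χ x * χ (om * x) * χ (om ^ 2 * x) = 1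
  χadd : ∀ x y, χ (x + y) = χ x * χ y * χ (x ^ 2 * y ^ 2) ^ 2
  unf : ∀ u ∈ D.U, ∃ t1 t2 t3, ∃ z ∈ closure (Set.range χ), u = D.xe t1 * D.xb t2 * D.xv t3 * z
  gen : ∀ z ∈ D.A, z ∈ D.K → ∀ n : ℕ, z ^ 2 ^ n = 1 → z ∈ closure (Set.range χ)
  st : ∀ g ∈ D.N, ∀ l m fr, B.St B (p g) l m fr → D.St D g l m fr
  st' : ∀ g ∈ D.N, ∀ l m fr, B.St B.swap (p g) l m fr → D.St D.swap g l m fr
  χst : ∀ g l m fr, D.St D g l m fr → ∀ x, g * χ x * g⁻¹ = χ (m * l ^ 2 * pw fr x)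
  χsw : ∀ g l m fr, D.St D.swap g l m fr → ∀ x, g * χ x * g⁻¹ = (χ (l * m ^ 2 * pw fr x ^ 2))⁻¹

def LfStmt : Prop :=
  ∀ (G H : Type u) [Group G] [Finite G] [Group H] [Finite H] (A : Subgroup G) (B : RD H)
    (p : G → H), Cov A B.A p → B.Fa → ∃ D χ, D.A = A ∧ Lf D B p χ

def ParStmt' : Prop :=
  ∀ (G H : Type u) [Group G] [Finite G] [Group H] [Finite H] (D : RD G) (B : RD H) (p : G → H)
    (χ : F4 → G), Lf D B p χ → (∀ x, χ x = 1) → D.Fa'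

/-- Outer involutions in standard form. -/
def StfStmt : Prop :=
  ∀ (G : Type u) [Group G] [Finite G] (D : RD G), D.Fa → ∀ g ∈ D.N, g * g ∈ D.K →
    (∀ a ∈ D.A, a * g ∉ D.K) → ∃ a ∈ D.A, ∃ l m, D.St D (a * g * a⁻¹) l m true ∨
      (D.St D.swap (a * g * a⁻¹) l m false ∧ l * m = 1) ∨ D.St D.swap (a * g * a⁻¹) l l true

/-- Elementary abelian subgroups of rank four. -/
def RkStmt : Prop :=
  ∀ (G : Type u) [Group G] [Finite G] (D : RD G), D.Fa → D.K = ⊥ → ∀ F : Subgroup G, F ≤ D.N →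
    F ≤ normalizer (D.V : Set G) → (∀ x ∈ F, x * x = 1) → 16 ≤ Nat.card F → F = D.E1 ∨ F = D.E2

/-- An involution of another conjugate of `K` induces an inner automorphism on `A`. -/
def In (D : RD G) : Prop :=
  ∃ g, g ∉ D.N ∧ ∃ k ∈ D.K, k * k = 1 ∧ g⁻¹ * (D.xv 1 * k) * g ∈ D.K

def S1Stmt : Prop :=
  ∀ (G H : Type u) [Group G] [Finite G] [Group H] [Finite H] (D : RD G) (B : RD H) (p : G → H)
    (χ : F4 → G), Lf D B p χ →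
    (∃ g, g ∉ D.N ∧ Even (Nat.card ↥(D.K.map (MulAut.conj g).toMonoidHom ⊓ D.N))) → In D

def X4Stmt : Prop :=
  ∀ (G H : Type u) [Group G] [Finite G] [Group H] [Finite H] (D : RD G) (B : RD H) (p : G → H)
    (χ : F4 → G), Lf D B p χ → ¬ PRankLE 2 1 D.K → (∃ x, χ x ^ 2 ≠ 1) → In D → False

def X2Stmt : Prop :=
  ∀ (G H : Type u) [Group G] [Finite G] [Group H] [Finite H] (D : RD G) (B : RD H) (p : G → H)
    (χ : F4 → G), Lf D B p χ → (∀ x, χ x ^ 2 = 1) → (∃ x, χ x ≠ 1) → (∃ x, x ≠ 0 ∧ χ x = 1) →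
    In D → False

def XAStmt : Prop :=
  ∀ (G H : Type u) [Group G] [Finite G] [Group H] [Finite H] (D : RD G) (B : RD H) (p : G → H)
    (χ : F4 → G), Lf D B p χ → (∀ x, χ x ^ 2 = 1) → (∃ x, χ x ≠ 1) → In D →
    ∃ g, (∃ a ∈ D.A, g * a * g⁻¹ ∉ D.N) ∧
      ∀ z ∈ D.A, z ∈ D.K → Odd (orderOf z) → g⁻¹ * z * g ∈ D.K

/-! ### The double cover of `G₂(4)` -/

structure GC (A : Subgroup G) (B : AS.RD H) (p : G → H) (c : G) : Prop where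
  cov : Cov A B.A p
  fa : B.Fa
  cA : c ∈ A
  cK : c ∈ centralizer (A : Set G)
  c1 : c ≠ 1
  cen : ∀ z ∈ A, z ∈ centralizer (A : Set G) → z = 1 ∨ z = c

structure GD (A : Subgroup G) (B : AS.RD H) (p : G → H) : Prop where
  g1 : ∀ a ∈ A, ∀ x ∈ A, p a ∈ B.P → p x ∈ B.V → a * x = x * a
  g1s : ∀ a ∈ A, ∀ x ∈ A, p a ∈ B.PS → p x ∈ B.X → a * x = x * a
  g2 : ∀ x ∈ A, p x ∈ B.V → x * x = 1
  g3 : ∀ w ∈ A, ∀ s, s ≠ 0 → p w = B.xv s →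
    ∃ b ∈ A, ∃ e ∈ A, ∃ t u, p b = B.xb t ∧ p e = B.xe u ∧ ⁅b, e⁆ = w

def GDStmt : Prop :=
  ∀ (G H : Type u) [Group G] [Finite G] [Group H] [Finite H] (A : Subgroup G) (B : AS.RD H)
    (p : G → H) (c : G), GC A B p c → Nat.card B.A = 251596800 → GD A B p

def GXStmt : Prop :=
  ∀ (G H : Type u) [Group G] [Finite G] [Group H] [Finite H] (A : Subgroup G) (B : AS.RD H)
    (p : G → H) (c : G), GC A B p c → GD A B p →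
    (∃ g, g ∉ normalizer (A : Set G) ∧ Even (Nat.card ↥((centralizer (A : Set G)).map
      (MulAut.conj g).toMonoidHom ⊓ normalizer (A : Set G)))) → False

end Cfsg.Agent.H42.AL
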