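import Cfsg.Agent.H42.ASDefs

/-!
# A standard subgroup `G₂(4)` whose centralizer has `2`-rank one (project AS): interfaces

The proofs on paper are in `stubs/notes/h42_asspor.md`, part II.
-/

set_option autoImplicit false

namespace Cfsg.Agent.H42.AS

open Cfsg Subgroup Cfsg.Agent.H28

universe u

variable {G : Type u} [Group G]

/-- Long root elements commuting with `V`. -/
def LC (D : RD G) : Prop :=
  ∀ y ∈ D.P, y ∉ D.V → (∃ a ∈ D.A, y = a * D.xv 1 * a⁻¹) → ∃ p ∈ D.P, ∃ t, p * y * p⁻¹ = D.xe t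

def LCStmt : Prop := ∀ (G : Type u) [Group G] [Finite G] (D : RD G), D.Fa → LC D

/-- `C_K(t) = ⟨t⟩ × O` and `t ∼ t v`. -/
structure RP (D : RD G) (t : G) (O : Subgroup G) : Prop where
  std : IsStandardSubgroup D.A
  tK : t ∈ D.K
  t1 : t ≠ 1
  t2 : t * t = 1
  OK : O ≤ D.K
  oddO : Odd (Nat.card O)
  Ot : ∀ o ∈ O, o * t = t * o
  cKt : ∀ k ∈ D.K, k * t = t * k → k ∈ O ∨ t * k ∈ O
  ct : ∀ g, g * t = t * g → g ∈ normalizer (D.A : Set G)
  cV : ∀ g ∈ normalizer (D.A : Set G), (∀ x, g * D.xv x = D.xv x * g) →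
    ∃ k ∈ D.K, ∃ p ∈ D.P, g = k * p
  mov : ∃ g ∈ normalizer (D.V : Set G), g * t * g⁻¹ = t * D.xv 1
  noD : ∀ g, g * t * g⁻¹ ∉ D.V

def RPStmt : Prop :=
  ∀ (G : Type u) [Group G] [Finite G] (D : RD G) (t : G), D.Fa → IsStandardSubgroup D.A →
    PRankLE 2 1 D.K → t ∈ D.K → orderOf t = 2 →
    (∃ g, g * t * g⁻¹ ≠ t ∧ g * t * g⁻¹ * t = t * (g * t * g⁻¹)) → ∃ O, RP D t O

/-- The double of `V`. -/
structure RA (D : RD G) (t : G) (O : Subgroup G) (f : F4 → G) (c : F4) : Prop where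
  f0 : f 0 = 1
  fP : ∀ x, ∀ p ∈ D.P, f x * p = p * f x
  ft : ∀ x, f x * t = t * D.xv x * f x
  ff : ∀ x y, f x * f y = f y * f x
  fsq : ∀ x, f x * f x = D.xv (c * x)
  f3 : f 1 * f om * f (om ^ 2) = 1
  rf : ∀ x, D.rho * f x = f (om ^ 2 * x) * D.rho
  fO : ∀ o ∈ O, ∀ x, o * f x = f x * o

def RAStmt : Prop :=
  ∀ (G : Type u) [Group G] [Finite G] (D : RD G) (t : G) (O : Subgroup G), D.Fa → RP D t O →
    ∃ f c, RA D t O f c

/-- The double of `V`. -/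
def Vs (D : RD G) (f : F4 → G) : Subgroup G := closure (Set.range f ∪ Set.range D.xv)

/-- The double of `X_b`. -/
def bE (D : RD G) (f : F4 → G) (β : F4) : G := D.na * sE D f β * D.na

/-- The complement to `Q_A` in its double. -/
def Ms (D : RD G) (f : F4 → G) : Subgroup G :=
  Vs D f ⊔ closure {y | ∃ l ∈ D.L, ∃ β, y = l * sE D f β * l⁻¹}

/-- The double of `Q_A`. -/
structure RQ (D : RD G) (t : G) (f cs ds : F4 → G) : Prop where
  f_add : ∀ x y, f (x + y) = f x * f y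
  sf : ∀ β x, sE D f β * f x = f x * sE D f β
  sb : ∀ β x, sE D f β * D.xb x = f (β * x) * D.xb x * sE D f β
  cM : ∀ x, cs x ∈ Ms D f
  dM : ∀ x, ds x ∈ Ms D f
  mnf : ∀ m ∈ Ms D f, ∃ x1 x2 x3 x4, ∃ y ∈ Vs D f, m = bE D f x1 * cs x2 * ds x3 * sE D f x4 * y
  mcomm : ∀ m ∈ Ms D f, ∀ m' ∈ Ms D f, m * m' * m⁻¹ * m'⁻¹ ∈ Vs D f
  msq : ∀ m ∈ Ms D f, m * m ∈ Vs D f
  ct : ∀ x, cs x * t = t * D.xc x * cs x
  dt : ∀ x, ds x * t = t * D.xd x * ds x
  cb : ∀ x y, cs x * D.xb y = D.xb y * cs x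
  cc : ∀ x y, cs x * D.xc y = D.xc y * cs x
  cd : ∀ x y, cs x * D.xd y = f (x * y) * D.xd y * cs x
  ce : ∀ x y, cs x * D.xe y = D.xe y * cs x
  db : ∀ x y, ds x * D.xb y = D.xb y * ds x
  dc : ∀ x y, ds x * D.xc y = f (x * y) * D.xc y * ds x
  dd : ∀ x y, ds x * D.xd y = D.xd y * ds x
  de : ∀ x y, ds x * D.xe y = D.xe y * ds x
  cs_s : ∀ x β, cs x * sE D f β = sE D f β * cs x
  ds_s : ∀ x β, ds x * sE D f β = sE D f β * ds x

def RQStmt : Prop :=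
  ∀ (G : Type u) [Group G] [Finite G] (D : RD G) (t : G) (O : Subgroup G) (f : F4 → G) (c : F4),
    D.Fa → RP D t O → RA D t O f c → ∃ cs ds, RQ D t f cs ds

/-- The double of the Sylow subgroup. -/
structure RU (D : RD G) (t : G) (Us : Subgroup G) : Prop where
  aU : ∀ x, D.xa x ∈ Us
  qU : D.QA ≤ Us
  two : IsPGroup 2 Us
  tn : t ∈ normalizer (Us : Set G)
  cU : ∀ x ∈ Us, x * t = t * x → x ∈ D.A
  inv : ∀ x ∈ Us, t * x * (t * x) = 1 → ∃ y ∈ Us, y * t * y⁻¹ = t * x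
  fn : ∀ g, g * t = t * g → D.Frob g → g ∈ normalizer (Us : Set G)
  finv : ∀ g, g * t = t * g → D.Frob g → g * g = 1 → ∀ x ∈ Us, g * x * (g * x) = 1 →
    ∃ y ∈ Us, y * g * y⁻¹ = g * x

def RUStmt : Prop :=
  ∀ (G : Type u) [Group G] [Finite G] (D : RD G) (t : G) (O : Subgroup G) (f cs ds : F4 → G)
    (c : F4), D.Fa → RP D t O → RA D t O f c → RQ D t f cs ds → ∃ Us, RU D t Us

/-- No pure four-group `⟨t, g⟩` with `g` a field automorphism. -/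
def PureStmt : Prop :=
  ∀ (G : Type u) [Group G] [Finite G] (D : RD G) (t : G) (O : Subgroup G) (f cs ds : F4 → G)
    (c : F4), D.Fa → LC D → RP D t O → RA D t O f c → RQ D t f cs ds →
    ∀ g, g * t = t * g → D.Frob g → g * g = 1 → IsConj t g → ¬ IsConj t (t * g)

def REndStmt : Prop :=
  ∀ (G : Type u) [Group G] [Finite G] (D : RD G) (t : G) (O Us : Subgroup G), D.Fa →
    Nat.card D.A = 251596800 → RP D t O → RU D t Us →
    (∀ g, g * t = t * g → D.Frob g → g * g = 1 → IsConj t g → ¬ IsConj t (t * g)) →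
    ∃ M : Subgroup G, M.index = 2

end Cfsg.Agent.H42.AS
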