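import Mathlib
import Cfsg.Agent.H28.Act
import Cfsg.Agent.H30.OrthBridge
import Cfsg.Agent.H8.SylowIn
import Cfsg.Prelude.Def_Local
import Cfsg.Prelude.Def_CaseTheorems
import Cfsg.Prelude.Def_ChevG2
import Cfsg.Prelude.Def_Involutions
import Cfsg.Prelude.Def_SporadicB

/-!
# A standard subgroup `G₂(4)` centralized by a four-group (project AS): definitions, interfaces

The proofs on paper are in `stubs/notes/h42_asspor.md`.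
-/

set_option autoImplicit false

namespace Cfsg.Agent.H42.AS

open Cfsg Subgroup Cfsg.Agent.H28 Cfsg.Agent.H30 QuadraticMap
open Cfsg.Agent.H8 (IsSylowIn)

universe u

/-- `ω² = 1 + ω`. -/
def om : F4 := ⟨0, 1⟩

/-! ### The group `G₂(4)` inside `G` -/

/-- Root elements for `a, b, a+b, 2a+b, 3a+b, 3a+2b` and the two fundamental reflections. -/
structure RD (G : Type u) where
  (xa xb xc xd xe xv : F4 → G)
  (na nb : G)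

variable {G : Type u} [Group G]

namespace RD

variable (D : RD G)

def A : Subgroup G := closure (Set.range D.xa ∪ Set.range D.xb ∪ {D.na, D.nb})
def K : Subgroup G := centralizer (D.A : Set G)
def V : Subgroup G := closure (Set.range D.xv)
def X : Subgroup G := closure (Set.range D.xd)
def QA : Subgroup G :=
  closure (Set.range D.xb ∪ Set.range D.xc ∪ Set.range D.xd ∪ Set.range D.xe ∪ Set.range D.xv)
def L : Subgroup G := closure (Set.range D.xa ∪ {D.na})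
/-- `C_A(V) = 4^(1+4) : A₅`. -/
def P : Subgroup G := D.QA ⊔ D.L
/-- `C_A(X)' = 2^4 : A₅`. -/
def PS : Subgroup G := closure (Set.range D.xe ∪ Set.range D.xv ∪ Set.range D.xb ∪ {D.nb})
def ha : G := D.xa om * D.na * D.xa (om ^ 2) * D.na * D.xa om * D.na
def hb : G := D.xb om * D.nb * D.xb (om ^ 2) * D.nb * D.xb om * D.nb
def rho : G := D.ha * D.hb * D.hb
/-- An element of order five in `L`. -/
def y5 : G := D.na * D.xa om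

/-- `g` induces the field automorphism. -/
def Frob (g : G) : Prop :=
  (∀ t, g * D.xa t * g⁻¹ = D.xa (t ^ 2) ∧ g * D.xb t * g⁻¹ = D.xb (t ^ 2) ∧
    g * D.xc t * g⁻¹ = D.xc (t ^ 2) ∧ g * D.xd t * g⁻¹ = D.xd (t ^ 2) ∧
    g * D.xe t * g⁻¹ = D.xe (t ^ 2) ∧ g * D.xv t * g⁻¹ = D.xv (t ^ 2)) ∧
  g * D.na = D.na * g ∧ g * D.nb = D.nb * g

/-- The relations. -/
structure Rel : Prop where
  aa : ∀ t u, D.xa (t + u) = D.xa t * D.xa u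
  bb : ∀ t u, D.xb (t + u) = D.xb t * D.xb u
  cc : ∀ t u, D.xc (t + u) = D.xc t * D.xc u
  dd : ∀ t u, D.xd (t + u) = D.xd t * D.xd u
  ee : ∀ t u, D.xe (t + u) = D.xe t * D.xe u
  vv : ∀ t u, D.xv (t + u) = D.xv t * D.xv u
  ab : ∀ t u, D.xa t * D.xb u = D.xb u * D.xc (t * u) * D.xd (t ^ 2 * u) * D.xe (t ^ 3 * u) *
    D.xv (t ^ 3 * u ^ 2) * D.xa t
  ac : ∀ t u, D.xa t * D.xc u = D.xc u * D.xe (t ^ 2 * u) * D.xv (t * u ^ 2) * D.xa t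
  ad : ∀ t u, D.xa t * D.xd u = D.xd u * D.xe (t * u) * D.xa t
  ae : ∀ t u, D.xa t * D.xe u = D.xe u * D.xa t
  av : ∀ t u, D.xa t * D.xv u = D.xv u * D.xa t
  bc : ∀ t u, D.xb t * D.xc u = D.xc u * D.xb t
  bd : ∀ t u, D.xb t * D.xd u = D.xd u * D.xb t
  be : ∀ t u, D.xb t * D.xe u = D.xe u * D.xv (t * u) * D.xb t
  bv : ∀ t u, D.xb t * D.xv u = D.xv u * D.xb t
  cd : ∀ t u, D.xc t * D.xd u = D.xd u * D.xv (t * u) * D.xc t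
  ce : ∀ t u, D.xc t * D.xe u = D.xe u * D.xc t
  cv : ∀ t u, D.xc t * D.xv u = D.xv u * D.xc t
  de : ∀ t u, D.xd t * D.xe u = D.xe u * D.xd t
  dv : ∀ t u, D.xd t * D.xv u = D.xv u * D.xd t
  ev : ∀ t u, D.xe t * D.xv u = D.xv u * D.xe t
  na2 : D.na * D.na = 1
  nb2 : D.nb * D.nb = 1
  nab : ∀ t, D.na * D.xb t = D.xe t * D.na
  nac : ∀ t, D.na * D.xc t = D.xd t * D.na
  nav : ∀ t, D.na * D.xv t = D.xv t * D.na
  nba : ∀ t, D.nb * D.xa t = D.xc t * D.nb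
  nbd : ∀ t, D.nb * D.xd t = D.xd t * D.nb
  nbe : ∀ t, D.nb * D.xe t = D.xv t * D.nb
  na3 : (D.na * D.xa 1) ^ 3 = 1
  nb3 : (D.nb * D.xb 1) ^ 3 = 1
  nah : D.na * D.ha = D.ha ^ 2 * D.na
  nbh : D.nb * D.hb = D.hb ^ 2 * D.nb
  hb3 : D.hb ^ 3 = 1
  hbb : ∀ t, D.hb * D.xb t = D.xb (om ^ 2 * t) * D.hb
  hbe : ∀ t, D.hb * D.xe t = D.xe (om ^ 2 * t) * D.hb
  hbv : ∀ t, D.hb * D.xv t = D.xv (om * t) * D.hb
  ha3 : D.ha ^ 3 = 1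
  haa : ∀ t, D.ha * D.xa t = D.xa (om ^ 2 * t) * D.ha
  hab : ∀ t, D.ha * D.xb t = D.xb t * D.ha
  hac : ∀ t, D.ha * D.xc t = D.xc (om ^ 2 * t) * D.ha
  had : ∀ t, D.ha * D.xd t = D.xd (om * t) * D.ha
  hae : ∀ t, D.ha * D.xe t = D.xe t * D.ha
  hav : ∀ t, D.ha * D.xv t = D.xv t * D.ha
  r3 : D.rho ^ 3 = 1
  ra : ∀ t, D.rho * D.xa t = D.xa t * D.rho
  rb : ∀ t, D.rho * D.xb t = D.xb (om * t) * D.rho
  rc : ∀ t, D.rho * D.xc t = D.xc (om * t) * D.rho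
  rd : ∀ t, D.rho * D.xd t = D.xd (om * t) * D.rho
  re : ∀ t, D.rho * D.xe t = D.xe (om * t) * D.rho
  rv : ∀ t, D.rho * D.xv t = D.xv (om ^ 2 * t) * D.rho
  rn : D.rho * D.na = D.na * D.rho
  nbr : D.nb * D.rho * D.nb = D.rho ^ 2 * D.ha ^ 2
  y55 : D.y5 ^ 5 = 1
  nf : ∀ t0 t1 t2 t3 t4 t5, D.xa t0 * D.xb t1 * D.xc t2 * D.xd t3 * D.xe t4 * D.xv t5 = 1 →
    t0 = 0 ∧ t1 = 0 ∧ t2 = 0 ∧ t3 = 0 ∧ t4 = 0 ∧ t5 = 0

/-- Facts about the parabolic subgroups. -/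
structure Par : Prop where
  qnf : ∀ g ∈ D.QA, ∃ t1 t2 t3 t4 t5, g = D.xb t1 * D.xc t2 * D.xd t3 * D.xe t4 * D.xv t5
  lnf : ∀ l ∈ D.L, ∃ t u, ∃ i : ℕ, l = D.xa t * D.ha ^ i ∨ l = D.xa t * D.ha ^ i * D.na * D.xa u
  pnf : ∀ p ∈ D.P, ∃ q ∈ D.QA, ∃ l ∈ D.L, p = q * l
  cardP : Nat.card D.P = 61440
  cardPS : Nat.card D.PS = 960
  cardXS : Nat.card ↥(D.X ⊔ D.PS) = 3840
  perfP : ⁅D.P, D.P⁆ = D.P
  perfPS : ⁅D.PS, D.PS⁆ = D.PS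
  perfL : ⁅D.L, D.L⁆ = D.L
  normP : ∀ N : Subgroup G, D.P ≤ normalizer (N : Set G) → (∃ g ∈ N, g ∈ D.P ∧ g ∉ D.V) →
    ∃ t, t ≠ 0 ∧ D.xb t ∈ N
  normS : ∀ N : Subgroup G, D.X ⊔ D.PS ≤ normalizer (N : Set G) →
    (∃ g ∈ N, g ∈ D.X ⊔ D.PS ∧ g ∉ D.X) → ∃ t, t ≠ 0 ∧ D.xv t ∈ N
  o2P : ∀ N : Subgroup G, N ≤ D.P → D.P ≤ normalizer (N : Set G) → IsPGroup 2 N → N ≤ D.QA
  cardL : Nat.card D.L = 60
  cQA : ∀ p ∈ D.P, (∀ q ∈ D.QA, p * q = q * p) → p ∈ D.V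
  cQV : ∀ p ∈ D.P, (∀ q ∈ D.QA, p * q * p⁻¹ * q⁻¹ ∈ D.V) → p ∈ D.QA
  cPS : ∀ p ∈ D.P, (∀ q ∈ D.PS, p * q = q * p) → (∃ k : ℕ, p ^ 2 ^ k = 1) → p ∈ D.X
  fy : ∀ u ∈ D.QA, u ∉ D.V → ∃ i : ℕ, ¬ Commute u (D.y5 ^ i * u * (D.y5 ^ i)⁻¹)
  cy : ∀ u ∈ D.QA, ∃ w ∈ D.QA, ∃ t, u = w⁻¹ * (D.y5 * w * D.y5⁻¹) * D.xv t
  cy5 : ∀ p ∈ D.P, p * D.y5 = D.y5 * p → ∃ t, ∃ i : ℕ, p = D.xv t * D.y5 ^ i
  nofrob : ∀ p ∈ D.P, p * D.xb 1 * p⁻¹ * (D.xb 1)⁻¹ ∈ D.V → p * D.xe 1 * p⁻¹ * (D.xe 1)⁻¹ ∈ D.V →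
    ¬ ∀ t, p * (D.xd (t ^ 2) * D.xc t) * p⁻¹ * (D.xd t * D.xc (t ^ 2))⁻¹ ∈ D.V

/-- Global facts about `A` and its automorphisms. -/
structure Glob : Prop where
  simple : IsSimpleGroup D.A
  inv : ∀ a ∈ D.A, a * a = 1 → a ≠ 1 → ∃ y ∈ D.A, y * a * y⁻¹ = D.xv 1 ∨ y * a * y⁻¹ = D.xd 1
  centV : ∀ t, t ≠ 0 → ∀ a ∈ D.A, a * D.xv t = D.xv t * a → a ∈ D.P
  centX : ∀ t, t ≠ 0 → ∀ a ∈ D.A, a * D.xd t = D.xd t * a → a ∈ D.X ⊔ D.PS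
  genP : ∀ t, t ≠ 0 → ∀ H : Subgroup G, D.P ≤ H → (∀ a ∈ D.A, a * D.xb t = D.xb t * a → a ∈ H) →
    D.A ≤ H
  normV : ∀ a ∈ D.A, a ∈ normalizer (D.V : Set G) → ∃ i : ℕ, a * D.rho ^ i ∈ D.P
  out : ∀ g ∈ normalizer (D.A : Set G), ∃ a ∈ D.A, a * g ∈ D.K ∨ D.Frob (a * g)
  outinv : ∀ g ∈ normalizer (D.A : Set G), g * g ∈ D.K → (∀ a ∈ D.A, a * g ∉ D.K) →
    ∃ a ∈ D.A, D.Frob (a * g * a⁻¹)

structure Fa : Prop where
  rel : D.Rel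
  par : D.Par
  glob : D.Glob

end RD

/-- The root data of `G₂(4)` with its relations and global facts. -/
def FactStmt : Prop :=
  ∀ (G : Type u) [Group G] [Finite G] (A : Subgroup G),
    Nonempty (A ≃* Lie.chevG2.group F4) → ∃ D : RD G, D.A = A ∧ D.Rel ∧ (D.Par → D.Glob)

/-- The parabolic facts follow from the relations. -/
def ParStmt : Prop :=
  ∀ (G : Type u) [Group G] [Finite G] (D : RD G), D.Rel → D.Par

/-! ### The four-group `R` -/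

/-- `R` is a Sylow `2`-subgroup of `K`, a four-group with a second conjugate in `R V`. -/
structure PD (D : RD G) (R : Subgroup G) : Prop where
  std : IsStandardSubgroup D.A
  syl : IsSylowIn 2 R D.K
  card : Nat.card R = 4
  sq : ∀ x ∈ R, x * x = 1
  mov : ∃ g, g ∈ normalizer ((R ⊔ D.V : Subgroup G) : Set G) ∧ g ∈ normalizer (D.V : Set G) ∧
    g ∉ normalizer (R : Set G)
  noD : ∀ g, ∀ k ∈ D.K, g * k * g⁻¹ ∈ D.V → k = 1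

def PreStmt : Prop :=
  ∀ (G : Type u) [Group G] [Finite G] (D : RD G), D.Fa → IsStandardSubgroup D.A →
    ¬ PRankLE 2 1 D.K →
    (∃ g, g ∉ normalizer (D.A : Set G) ∧
      Even (Nat.card ↥(D.K.map (MulAut.conj g).toMonoidHom ⊓ normalizer (D.A : Set G)))) →
    ∃ R, PD D R

/-- The translations of `E = R V`. -/
structure WA (D : RD G) (R O : Subgroup G) (r f : F4 → G) (c : F4) : Prop where
  OK : O ≤ D.K
  oddO : Odd (Nat.card O)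
  OR : ∀ o ∈ O, ∀ x ∈ R, o * x = x * o
  cKR : ∀ k ∈ D.K, (∀ x ∈ R, k * x = x * k) → ∃ x ∈ R, ∃ o ∈ O, k = x * o
  nR : normalizer (R : Set G) ≤ normalizer (D.A : Set G)
  cr : ∀ s, s ≠ 0 → ∀ g, g * r s = r s * g → g ∈ normalizer (D.A : Set G)
  cV : ∀ g ∈ normalizer (D.A : Set G), (∀ t, g * D.xv t = D.xv t * g) →
    ∃ k ∈ D.K, ∃ p ∈ D.P, g = k * p
  r_add : ∀ s t, r (s + t) = r s * r t
  r_inj : ∀ s, r s = 1 → s = 0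
  r_mem : ∀ x, x ∈ R ↔ ∃ s, r s = x
  f0 : f 0 = 1
  fP : ∀ t, ∀ p ∈ D.P, f t * p = p * f t
  fr : ∀ t s, f t * r s = r s * D.xv (s * t) * f t
  ff : ∀ t s, f t * f s = f s * f t
  fsq : ∀ t, f t * f t = D.xv (c * t)
  f3 : f 1 * f om * f (om ^ 2) = 1
  rf : ∀ t, D.rho * f t = f (om ^ 2 * t) * D.rho
  nE : ∀ g, (∀ s, ∃ s' t, g * r s * g⁻¹ = r s' * D.xv t) →
    ∃ t, (f t)⁻¹ * g ∈ normalizer (R : Set G)
  fI : ∀ k ∈ D.K, Odd (orderOf k) → (∃ s, s ≠ 0 ∧ k * r s = r s * k) → ∀ t, f t * k = k * f t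

def WAStmt : Prop :=
  ∀ (G : Type u) [Group G] [Finite G] (D : RD G) (R : Subgroup G), D.Fa → PD D R →
    ∃ O r f c, WA D R O r f c

/-- The translations of `R X_{3a+b}`. -/
def sE (D : RD G) (f : F4 → G) (β : F4) : G := D.nb * f β * D.nb

/-- The action of the second translation group, with a parameter `v` (which is `1`). -/
structure WB (D : RD G) (r f : F4 → G) (v : F4) : Prop where
  f_add : ∀ s t, f (s + t) = f s * f t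
  sf : ∀ β t, ∃ x, sE D f β * f t * (sE D f β)⁻¹ = f t * D.xe (v * β ^ 2 * t) * D.xv x
  sb : ∀ β t, ∃ x, sE D f β * D.xb t * (sE D f β)⁻¹ =
    r (v * β ^ 2 * t) * f (β * t) * D.xe (v * β ^ 3 * t) * D.xb t * D.xv x

def WBStmt : Prop :=
  ∀ (G : Type u) [Group G] [Finite G] (D : RD G) (R O : Subgroup G) (r f : F4 → G) (c : F4),
    D.Fa → PD D R → WA D R O r f c → ∃ v, WB D r f v

/-! ### The group `W = 4^(1+6)` -/

abbrev N6 : Type := Fin 3 ⊕ Fin 3 → ZMod 2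

/-- The real form. -/
noncomputable abbrev q6 : QuadraticForm (ZMod 2) N6 := qPlus (ZMod 2) 3

/-- `(n₁, n₂)` stands for `n₁ + ω n₂`; scalar multiplication. -/
def sm (t : F4) (x : N6 × N6) : N6 × N6 :=
  (t.re • x.1 + t.im • x.2, t.im • x.1 + (t.re + t.im) • x.2)

/-- The quadratic form over `F₄`. -/
noncomputable def qq (x : N6 × N6) : F4 := ⟨q6 x.1 + q6 x.2, polar q6 x.1 x.2 + q6 x.2⟩

/-- Its polar form. -/
noncomputable def bq (x y : N6 × N6) : F4 :=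
  ⟨polar q6 x.1 y.1 + polar q6 x.2 y.2, polar q6 x.1 y.2 + polar q6 x.2 y.1 + polar q6 x.2 y.2⟩

def vE : N6 := Sum.elim ![1, 0, 0] ![0, 0, 0]
def vF : N6 := Sum.elim ![0, 0, 0] ![1, 0, 0]
/-- `vP, vP'` and `vT, vT'` span orthogonal anisotropic planes in the perp of `vE, vF`. -/
def vP : N6 := Sum.elim ![0, 1, 1] ![0, 0, 1]
def vP' : N6 := Sum.elim ![0, 0, 1] ![0, 1, 1]
def vT : N6 := Sum.elim ![0, 0, 1] ![0, 0, 1]
def vT' : N6 := Sum.elim ![0, 1, 1] ![0, 1, 0]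

/-- Coordinates on `W = Q_A R ⟨f⟩`. -/
structure W6 (D : RD G) (r f : F4 → G) (W : Subgroup G) (π : G → N6 × N6) : Prop where
  W_eq : W = D.QA ⊔ closure (Set.range r ∪ Set.range f)
  wnf : ∀ a ∈ W, ∃ s t, ∃ q ∈ D.QA, a = r s * f t * q
  π_mul : ∀ a ∈ W, ∀ b ∈ W, π (a * b) = π a + π b
  π_ker : ∀ a ∈ W, π a = 0 ↔ ∃ s, D.xv s = a
  π_surj : ∀ x, ∃ a ∈ W, π a = x
  sq : ∀ a ∈ W, a * a = D.xv (qq (π a))
  comm : ∀ a ∈ W, ∀ b ∈ W, a * b = D.xv (bq (π a) (π b)) * (b * a)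
  πr : ∀ s, π (r s) = sm s (vP', vP)
  πf : ∀ s, π (f s) = sm s (vP + vP', vP)
  πe : ∀ s, π (D.xe s) = sm s (vE, 0)
  πb : ∀ s, π (D.xb s) = sm s (vF, 0)
  πd : ∀ s, π (D.xd s) = sm s (vT', vT)
  πc : ∀ s, π (D.xc s) = sm s (vT + vT', vT)

def W6Stmt : Prop :=
  ∀ (G : Type u) [Group G] [Finite G] (D : RD G) (R O : Subgroup G) (r f : F4 → G) (c : F4),
    D.Fa → WA D R O r f c → (∀ s t, f (s + t) = f s * f t) → ∃ W π, W6 D r f W π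

def VOneStmt : Prop :=
  ∀ (G : Type u) [Group G] [Finite G] (D : RD G) (R O W : Subgroup G) (r f : F4 → G) (c v : F4)
    (π : G → N6 × N6), D.Fa → PD D R → WA D R O r f c → WB D r f v → W6 D r f W π → v = 1

/-- The action of `C(V) ∩ N(W)` on `W / V`. -/
structure PhiD (V W Od : Subgroup G) (π : G → N6 × N6) (Φ : G → O q6) : Prop where
  Φ_mul : ∀ g ∈ centralizer (V : Set G) ⊓ normalizer (W : Set G),
    ∀ h ∈ centralizer (V : Set G) ⊓ normalizer (W : Set G), Φ (g * h) = Φ g * Φ h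
  act : ∀ g ∈ centralizer (V : Set G) ⊓ normalizer (W : Set G), ∀ a ∈ W,
    π (g * a * g⁻¹) = ((Φ g).1 (π a).1, (Φ g).1 (π a).2)
  Φ_mem : ∀ g ∈ centralizer (V : Set G) ⊓ normalizer (W : Set G),
    Φ g ∈ kerDS (qPlus_nondegenerate 3)
  Φ_surj : ∀ φ ∈ kerDS (qPlus_nondegenerate (F := ZMod 2) 3),
    ∃ g ∈ centralizer (V : Set G) ⊓ normalizer (W : Set G), Φ g = φ ∧ ∀ o ∈ Od, o * g = g * o
  Φ_ker : ∀ g ∈ centralizer (V : Set G) ⊓ normalizer (W : Set G), Φ g = 1 →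
    ∃ a ∈ W, ∃ o ∈ Od, g = a * o

def PhiStmt : Prop :=
  ∀ (G : Type u) [Group G] [Finite G] (D : RD G) (R Od W : Subgroup G) (r f : F4 → G) (c : F4)
    (π : G → N6 × N6), D.Fa → PD D R → WA D R Od r f c → WB D r f 1 → W6 D r f W π →
    ∃ Φ, PhiD D.V W Od π Φ

/-- The data around `V` and `W`. -/
structure WD (G : Type u) where
  (v e b r : F4 → G)
  (f1 n t : G)
  (π : G → N6 × N6)
  (Φ : G → O q6)

variable (C : WD G) (W Od : Subgroup G)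

def WD.V : Subgroup G := closure (Set.range C.v)

def WD.M0 : Subgroup G := centralizer (C.V : Set G) ⊓ normalizer (W : Set G)

structure WC : Prop where
  v_add : ∀ s t, C.v (s + t) = C.v s * C.v t
  v_inj : ∀ s, C.v s = 1 → s = 0
  vW : ∀ s, C.v s ∈ W
  π_mul : ∀ a ∈ W, ∀ b ∈ W, C.π (a * b) = C.π a + C.π b
  π_ker : ∀ a ∈ W, C.π a = 0 ↔ ∃ s, C.v s = a
  π_surj : ∀ x, ∃ a ∈ W, C.π a = x
  sq : ∀ a ∈ W, a * a = C.v (qq (C.π a))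
  comm : ∀ a ∈ W, ∀ b ∈ W, a * b = C.v (bq (C.π a) (C.π b)) * (b * a)
  phi : PhiD C.V W Od C.π C.Φ
  odd : Odd (Nat.card Od)
  OW : ∀ o ∈ Od, ∀ a ∈ W, o * a = a * o
  oddn : ∀ B : Subgroup G, B ≤ centralizer (C.V : Set G) →
    centralizer (C.V : Set G) ≤ normalizer (B : Set G) → Odd (Nat.card B) → B ≤ Od
  tM : C.t ∈ C.M0 W
  tW : C.t ∉ W
  t2 : C.t * C.t = 1
  e_add : ∀ s t, C.e (s + t) = C.e s * C.e t
  eW : ∀ s, C.e s ∈ W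
  πe : ∀ s, C.π (C.e s) = sm s (vE, 0)
  bW : ∀ s, C.b s ∈ W
  πb : ∀ s, C.π (C.b s) = sm s (vF, 0)
  rW : ∀ s, C.r s ∈ W
  πr : ∀ s, C.π (C.r s) = sm s (vP', vP)
  fW : C.f1 ∈ W
  πf : C.π C.f1 = (vP + vP', vP)
  n2 : C.n * C.n = 1
  nO : ∀ o ∈ Od, o * C.n = C.n * o
  ne : ∀ s, C.n * C.e s = C.v s * C.n
  nr : ∀ s, C.n * C.r s = C.r s * C.n
  nf : C.n * C.f1 * C.n ∉ W
  tw : ∀ g ∈ normalizer (W : Set G), g ∈ normalizer (C.V : Set G) → g * C.v 1 = C.v 1 * g →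
    (∀ s, ∃ s', C.π (g * C.r s * g⁻¹) = C.π (C.r s')) →
    (∀ a ∈ W, (C.π a).2 = 0 → polar q6 (C.π a).1 vP = 0 → polar q6 (C.π a).1 vP' = 0 →
      C.π (g * a * g⁻¹) = C.π a) → g ∈ centralizer (C.V : Set G)
  vconj : IsConj (C.v 1) (C.v om)

def HDStmt : Prop :=
  ∀ (G : Type u) [Group G] [Finite G] (D : RD G) (R Od W : Subgroup G) (r f : F4 → G) (c : F4)
    (π : G → N6 × N6) (Φ : G → O q6), D.Fa → PD D R → WA D R Od r f c → WB D r f 1 →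
    W6 D r f W π → PhiD D.V W Od π Φ →
    WC ⟨D.xv, D.xe, D.xb, r, f 1, D.nb, D.xa 1, π, Φ⟩ W Od

def AlphaStmt : Prop :=
  ∀ (G : Type u) [Group G] [Finite G] (C : WD G) (W Od : Subgroup G), WC C W Od →
    normalizer (C.V : Set G) ≤ normalizer (W : Set G)

/-- `τ` completes `W_z` to the extraspecial group, `κ` moves `V` in `C(z)`. -/
structure TK (τ κ : G) : Prop where
  τW : τ ∈ normalizer (W : Set G)
  τ1 : τ * C.v 1 = C.v 1 * τ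
  τω : τ * C.v om = C.v (om ^ 2) * τ
  τ2 : ∃ k : ℕ, τ ^ 2 ^ k = 1
  τO : ∀ o ∈ Od, o * τ = τ * o
  τz : ∀ a ∈ W, (C.π a).2 = 0 → τ * a * τ⁻¹ = a ∨ τ * a * τ⁻¹ = a * C.v 1
  κ1 : κ * C.v 1 = C.v 1 * κ
  κω : κ * C.v om = C.e 1 * C.v om * κ
  κe : κ * C.e 1 = C.e 1 * κ

def TauStmt : Prop :=
  ∀ (G : Type u) [Group G] [Finite G] (C : WD G) (W Od : Subgroup G), WC C W Od →
    normalizer (C.V : Set G) ≤ normalizer (W : Set G) → ∃ τ κ, TK C W Od τ κ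

/-! ### The extraspecial group `Q` -/

section Q

variable {ι : Type} [Fintype ι] [DecidableEq ι] {q : QuadraticForm (ZMod 2) (ι → ZMod 2)}

/-- `Q` is extraspecial with centre `⟨z⟩` and form `q`; `Ψ` is the action of `C(z) ∩ N(Q)`. -/
structure Q0 (z v0 : G) (Q Od : Subgroup G) (π : G → ι → ZMod 2) (Ψ : G → O q) : Prop where
  z2 : orderOf z = 2
  zQ : z ∈ Q
  π_mul : ∀ a ∈ Q, ∀ b ∈ Q, π (a * b) = π a + π b
  π_ker : ∀ a ∈ Q, π a = 0 ↔ a = 1 ∨ a = z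
  π_surj : ∀ x, ∃ a ∈ Q, π a = x
  sq : ∀ a ∈ Q, a * a = z ^ (q (π a)).val
  comm : ∀ a ∈ Q, ∀ b ∈ Q, a * b = z ^ (polar q (π a) (π b)).val * (b * a)
  Ψ_mul : ∀ g ∈ centralizer {z} ⊓ normalizer (Q : Set G),
    ∀ h ∈ centralizer {z} ⊓ normalizer (Q : Set G), Ψ (g * h) = Ψ g * Ψ h
  act : ∀ g ∈ centralizer {z} ⊓ normalizer (Q : Set G), ∀ a ∈ Q, π (g * a * g⁻¹) = (Ψ g).1 (π a)
  Ψ_ker : ∀ g ∈ centralizer {z} ⊓ normalizer (Q : Set G), Ψ g = 1 → ∃ a ∈ Q, ∃ o ∈ Od, g = a * o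
  odd : Odd (Nat.card Od)
  OQ : ∀ o ∈ Od, ∀ a ∈ Q, o * a = a * o
  vQ : v0 ∈ Q
  v_ne : π v0 ≠ 0
  v_sing : q (π v0) = 0
  loc : ∀ g, g * z = z * g → g * v0 * g⁻¹ = v0 ∨ g * v0 * g⁻¹ = v0 * z → g ∈ normalizer (Q : Set G)
  nwc : IsConj z v0
  inv : ∃ r ∈ centralizer {z} ⊓ normalizer (Q : Set G), r ∉ Q ∧ r * r = 1 ∧ ∀ o ∈ Od, o * r = r * o

/-- The stabilizer of `v0` induces the stabilizer in `Ω`. -/
structure QP (hq : (polarBilin q).Nondegenerate) (z v0 : G) (Q Od : Subgroup G)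
    (π : G → ι → ZMod 2) (Ψ : G → O q) : Prop extends Q0 z v0 Q Od π Ψ where
  stab_mem : ∀ g ∈ centralizer {z} ⊓ normalizer (Q : Set G), (Ψ g).1 (π v0) = π v0 → Ψ g ∈ kerDS hq
  stab_surj : ∀ φ ∈ kerDS hq, φ.1 (π v0) = π v0 →
    ∃ g ∈ centralizer {z} ⊓ normalizer (Q : Set G), Ψ g = φ

/-- `C(z) ∩ N(Q)` induces `Ω`. -/
structure QC (hq : (polarBilin q).Nondegenerate) (z v0 : G) (Q Od : Subgroup G)
    (π : G → ι → ZMod 2) (Ψ : G → O q) : Prop extends Q0 z v0 Q Od π Ψ where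
  Ψ_mem : ∀ g ∈ centralizer {z} ⊓ normalizer (Q : Set G), Ψ g ∈ kerDS hq
  Ψ_surj : ∀ φ ∈ kerDS hq, ∃ g ∈ centralizer {z} ⊓ normalizer (Q : Set G), Ψ g = φ

end Q

def QAStmt : Prop :=
  ∀ (G : Type u) [Group G] [Finite G] (C : WD G) (W Od : Subgroup G) (τ κ : G), WC C W Od →
    normalizer (C.V : Set G) ≤ normalizer (W : Set G) → TK C W Od τ κ →
    ∃ Q π Ψ, QP (qPlus_nondegenerate (F := ZMod 2) 4) (C.v 1) (C.v om) Q Od π Ψ ∧ C.e 1 ∈ Q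

def QBStmt : Prop :=
  ∀ (G : Type u) [Group G] [Finite G] (z v0 u κ : G) (Q Od : Subgroup G)
    (π : G → Fin 4 ⊕ Fin 4 → ZMod 2) (Ψ : G → O (qPlus (ZMod 2) 4)),
    QP (qPlus_nondegenerate 4) z v0 Q Od π Ψ → u ∈ Q → π u ≠ π v0 → v0 * u = u * v0 →
    κ * z = z * κ → κ * v0 * κ⁻¹ = u → κ * u * κ⁻¹ = v0 →
    QC (qPlus_nondegenerate 4) z v0 Q Od π Ψ

/-- The two-`Q` lemma: conjugates of `v0` under `C(z)` that normalize `Q` lie in `Q`. -/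
def TQStmt : Prop :=
  ∀ (G : Type u) [Group G] [Finite G] (ι : Type) [Fintype ι] [DecidableEq ι]
    (q : QuadraticForm (ZMod 2) (ι → ZMod 2)) (hq : (polarBilin q).Nondegenerate) (z v0 : G)
    (Q Od : Subgroup G) (π : G → ι → ZMod 2) (Ψ : G → O q), 6 ≤ Fintype.card ι →
    QC hq z v0 Q Od π Ψ → ∀ c, c * z = z * c → c * v0 * c⁻¹ ∈ normalizer (Q : Set G) →
    c * v0 * c⁻¹ ∈ Q

/-- Goldschmidt's theorem modulo a central subgroup `Z` of `X`. -/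
def GLStmt : Prop :=
  ∀ (G : Type u) [Group G] [Finite G] (X T A Z : Subgroup G) (t : G), IsSylowIn 2 T X →
    A ≤ T → Z ≤ A → (∀ x ∈ X, ∀ z ∈ Z, x * z = z * x) → (∀ a ∈ A, a * a ∈ Z) →
    (∀ a ∈ A, ∀ x ∈ X, x * a * x⁻¹ ∈ T → x * a * x⁻¹ ∈ A) →
    (∀ s ∈ T, (∀ a ∈ A, s * a * s⁻¹ * a⁻¹ ∈ Z) → s ∈ A) →
    t ∈ T → t ∉ A → t * t ∈ Z →
    (∀ B : Subgroup G, B ≤ X ⊓ normalizer (A : Set G) →
      X ⊓ normalizer (A : Set G) ≤ normalizer (B : Set G) →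
      (∀ b ∈ B, ∀ a ∈ A, b * a * b⁻¹ * a⁻¹ ∈ Z) ∨
        ∃ b ∈ B, ∀ a ∈ A, (b⁻¹ * t) * a * (b⁻¹ * t)⁻¹ * a⁻¹ ∈ Z) →
    (∀ B : Subgroup G, B ≤ X → X ≤ normalizer (B : Set G) → Odd (Nat.card B) →
      ∀ b ∈ B, ∀ a ∈ A, b * a = a * b) →
    X ≤ normalizer (A : Set G)

def BetaStmt : Prop :=
  ∀ (G : Type u) [Group G] [Finite G] (ι : Type) [Fintype ι] [DecidableEq ι]
    (q : QuadraticForm (ZMod 2) (ι → ZMod 2)) (hq : (polarBilin q).Nondegenerate) (z v0 : G)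
    (Q Od : Subgroup G) (π : G → ι → ZMod 2) (Ψ : G → O q), 6 ≤ Fintype.card ι →
    QC hq z v0 Q Od π Ψ → centralizer {z} ≤ normalizer (Q : Set G)

/-- Holt's theorem, weak form (from S2901). -/
def HoltStmt : Prop :=
  ∀ (K : Type u) [Group K] [Finite K] [IsSimpleGroup K], ¬ IsMulCommutative K →
    ∀ (P : Subgroup K), P ≠ ⊤ → ∀ r ∈ P, IsTwoCentralInvolution r → centralizer {r} ≤ P →
    (∀ g : K, g * r * g⁻¹ ∈ P → ∃ h ∈ P, h * r * h⁻¹ = g * r * g⁻¹) →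
    (∃ S : Sylow 2 K, P = normalizer ((S : Subgroup K) : Set K)) ∨
      ∃ n : ℕ, 5 ≤ n ∧ Nonempty (P ≃* alternatingGroup (Fin (n - 1)))

def KillStmt : Prop :=
  ∀ (G : Type u) [Group G] [Finite G] [IsSimpleGroup G] (ι : Type) [Fintype ι] [DecidableEq ι]
    (q : QuadraticForm (ZMod 2) (ι → ZMod 2)) (hq : (polarBilin q).Nondegenerate) (z v0 : G)
    (Q Od : Subgroup G) (π : G → ι → ZMod 2) (Ψ : G → O q), 6 ≤ Fintype.card ι →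
    QC hq z v0 Q Od π Ψ → centralizer {z} ≤ normalizer (Q : Set G) → Od = ⊥

/-- The hypotheses of S1718 / S1719. -/
def FinStmt : Prop :=
  ∀ (G : Type u) [Group G] [Finite G] (ι : Type) [Fintype ι] [DecidableEq ι]
    (q : QuadraticForm (ZMod 2) (ι → ZMod 2)) (hq : (polarBilin q).Nondegenerate) (z v0 : G)
    (Q : Subgroup G) (π : G → ι → ZMod 2) (Ψ : G → O q), 6 ≤ Fintype.card ι →
    QC hq z v0 Q ⊥ π Ψ → centralizer {z} ≤ normalizer (Q : Set G) →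
    ∃ (Q' : Subgroup (centralizer ({z} : Set G))) (_ : Q'.Normal),
      generalizedFittingSubgroup (centralizer ({z} : Set G)) = Q' ∧ IsExtraspecial 2 Q' ∧
      Nat.card Q' = 2 ^ (Fintype.card ι + 1) ∧
      Nonempty ((centralizer ({z} : Set G)) ⧸ Q' ≃* Omega (ZMod 2) ⇑q) ∧
      ∃ g : G, (∃ hq : g * z * g⁻¹ ∈ centralizer ({z} : Set G),
        (⟨g * z * g⁻¹, hq⟩ : centralizer ({z} : Set G)) ∈ Q') ∧ g * z * g⁻¹ ≠ z

example : q6 vP = 1 ∧ q6 vP' = 1 ∧ polar q6 vP vP' = 1 ∧ q6 vT = 1 ∧ q6 vT' = 1 ∧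
    polar q6 vT vT' = 1 ∧ polar q6 vP vT = 0 ∧ polar q6 vP vT' = 0 ∧ polar q6 vP' vT = 0 ∧
    polar q6 vP' vT' = 0 := by
  simp only [polar_qPlus, qPlus_apply]
  decide

end Cfsg.Agent.H42.AS
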