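import Cfsg.Agent.H42.ASDefs

/-!
# A standard subgroup `L₃(4)` centralized by a four-group (project AL): definitions, interfaces

The proofs on paper are in `stubs/notes/h42_al.md`.
-/

set_option autoImplicit false

namespace Cfsg.Agent.H42.AL

open Cfsg Subgroup Cfsg.Agent.H28 Cfsg.Agent.H30 QuadraticMap
open Cfsg.Agent.H8 (IsSylowIn)
open Cfsg.Agent.H42.AS (om Q0 QC)
open scoped commutatorElement

universe u

/-- Root elements `E₂₃, E₁₂, E₁₃` and the reflections `(23)`, `(12)`. -/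
structure RD (G : Type u) where
  (xe xb xv : F4 → G)
  (ne nb : G)

variable {G : Type u} [Group G]

/-- The identity or the Frobenius map. -/
def pw (fr : Bool) (t : F4) : F4 := if fr then t ^ 2 else t

namespace RD

variable (D : RD G)

def A : Subgroup G := closure (Set.range D.xe ∪ Set.range D.xb ∪ {D.ne, D.nb})
def K : Subgroup G := centralizer (D.A : Set G)
def N : Subgroup G := normalizer (D.A : Set G)
def V : Subgroup G := closure (Set.range D.xv)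
def E1 : Subgroup G := closure (Set.range D.xe ∪ Set.range D.xv)
def E2 : Subgroup G := closure (Set.range D.xb ∪ Set.range D.xv)
def U : Subgroup G := closure (Set.range D.xe ∪ Set.range D.xb ∪ Set.range D.xv)
def he : G := D.xe om * D.ne * D.xe (om ^ 2) * D.ne * D.xe om * D.ne
def hb : G := D.xb om * D.nb * D.xb (om ^ 2) * D.nb * D.xb om * D.nb
def rho : G := D.hb * D.hb
/-- The graph symmetry of the data. -/
def swap : RD G := ⟨D.xb, D.xe, D.xv, D.nb, D.ne⟩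

/-- `g` maps the data `D` to `D'` (which is `D` or `D.swap`) in standard form. -/
structure St (D' : RD G) (g : G) (l m : F4) (fr : Bool) : Prop where
  l0 : l ≠ 0
  m0 : m ≠ 0
  e : ∀ t, g * D.xe t * g⁻¹ = D'.xe (l * pw fr t)
  b : ∀ t, g * D.xb t * g⁻¹ = D'.xb (m * pw fr t)
  v : ∀ t, g * D.xv t * g⁻¹ = D'.xv (l * m * pw fr t)
  e' : ∀ t, g * (D.ne * D.xe t * D.ne) * g⁻¹ = D'.ne * D'.xe (l ^ 2 * pw fr t) * D'.ne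
  b' : ∀ t, g * (D.nb * D.xb t * D.nb) * g⁻¹ = D'.nb * D'.xb (m ^ 2 * pw fr t) * D'.nb

structure Rel : Prop where
  ee : ∀ t u, D.xe (t + u) = D.xe t * D.xe u
  bb : ∀ t u, D.xb (t + u) = D.xb t * D.xb u
  vv : ∀ t u, D.xv (t + u) = D.xv t * D.xv u
  be : ∀ t u, D.xb t * D.xe u = D.xe u * D.xv (t * u) * D.xb t
  bv : ∀ t u, D.xb t * D.xv u = D.xv u * D.xb t
  ev : ∀ t u, D.xe t * D.xv u = D.xv u * D.xe t
  ne2 : D.ne * D.ne = 1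
  nb2 : D.nb * D.nb = 1
  neb : ∀ t, D.ne * D.xb t = D.xv t * D.ne
  nbe : ∀ t, D.nb * D.xe t = D.xv t * D.nb
  ne3 : (D.ne * D.xe 1) ^ 3 = 1
  nb3 : (D.nb * D.xb 1) ^ 3 = 1
  braid : D.ne * D.nb * D.ne = D.nb * D.ne * D.nb
  heb : D.he = D.hb
  r3 : D.rho ^ 3 = 1
  re : ∀ t, D.rho * D.xe t = D.xe (om * t) * D.rho
  rb : ∀ t, D.rho * D.xb t = D.xb (om * t) * D.rho
  rv : ∀ t, D.rho * D.xv t = D.xv (om ^ 2 * t) * D.rho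
  ner : D.ne * D.rho * D.ne = D.rho ^ 2
  nbr : D.nb * D.rho * D.nb = D.rho ^ 2
  nf : ∀ t1 t2 t3, D.xe t1 * D.xb t2 * D.xv t3 = 1 → t1 = 0 ∧ t2 = 0 ∧ t3 = 0

structure Glob : Prop where
  simple : IsSimpleGroup D.A
  card : Nat.card D.A = 20160
  inv : ∀ a ∈ D.A, a * a = 1 → a ≠ 1 → ∃ y ∈ D.A, y * a * y⁻¹ = D.xv 1
  centV : ∀ t, t ≠ 0 → ∀ a ∈ D.A, a * D.xv t = D.xv t * a → a ∈ D.U
  normV : ∀ a ∈ D.A, a ∈ normalizer (D.V : Set G) → ∃ i : ℕ, a * D.rho ^ i ∈ D.U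
  out : ∀ g ∈ D.N, ∃ a ∈ D.A, ∃ l m fr, D.St D (a * g) l m fr ∨ D.St D.swap (a * g) l m fr

/-- Consequences of `Rel` and `Glob`. -/
structure Par : Prop where
  AK : ∀ a ∈ D.A, a ∈ D.K → a = 1
  unf : ∀ u ∈ D.U, ∃ t1 t2 t3, u = D.xe t1 * D.xb t2 * D.xv t3
  cardU : Nat.card D.U = 64
  syl : IsSylowIn 2 D.U D.A
  invU : ∀ u ∈ D.U, u * u = 1 → u ∈ D.E1 ∨ u ∈ D.E2
  genU : ∀ H : Subgroup G, D.U ≤ H → (∀ a ∈ D.A, a * D.xe 1 = D.xe 1 * a → a ∈ H) →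
    (∀ a ∈ D.A, a * D.xb 1 = D.xb 1 * a → a ∈ H) → D.A ≤ H
  nrmU : ∀ J : Subgroup G, D.U ≤ normalizer (J : Set G) → (∃ x ∈ J, x ∈ D.U ∧ x ∉ D.V) → D.V ≤ J
  oddU : ∀ J : Subgroup G, J ≤ D.A → Odd (Nat.card J) → D.U ≤ normalizer (J : Set G) → J = ⊥
  stK : ∀ g, D.St D g 1 1 false → g ∈ D.K
  nU : ∀ g ∈ D.N, g ∈ normalizer (D.V : Set G) →
    ∃ u ∈ D.U, ∃ l m fr, D.St D (u * g) l m fr ∨ D.St D.swap (u * g) l m fr
  cU : ∀ g ∈ D.N, (∀ u ∈ D.U, g * u = u * g) → ∃ t, ∃ k ∈ D.K, g = D.xv t * k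
  cUV : ∀ g ∈ D.N, (∀ u ∈ D.U, ⁅g, u⁆ ∈ D.V) → ∃ u ∈ D.U, ∃ k ∈ D.K, g = u * k
  o3 : ∀ g ∈ D.N, g ^ 3 = 1 → g * D.xv 1 = D.xv 1 * g → g ∈ D.K ∨ D.U ≤ ⁅zpowers g, D.U⁆
  comm2 : ∀ z ∈ ⁅D.N, D.N⁆, (∃ n : ℕ, z ^ 2 ^ n = 1) → ∃ a ∈ D.A, ∃ k ∈ D.K, z = a * k
  outinv : ∀ g ∈ D.N, g * g ∈ D.K → (∀ a ∈ D.A, a * g ∉ D.K) → ∃ x ∈ D.A, ∃ y ∈ D.A, ∃ a ∈ D.A,
    g * x = x * g ∧ g * y = y * g ∧ ⁅x, y⁆ ≠ 1 ∧ ⁅x, y⁆ * ⁅x, y⁆ = 1 ∧ a * g * a⁻¹ = ⁅x, y⁆ * g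
  out4 : ∀ g ∈ D.N, ∀ h ∈ D.N, g * g ∈ D.K → h * h ∈ D.K → g * h * (g * h) ∈ D.K →
    (∀ a ∈ D.A, a * g ∉ D.K ∧ a * h ∉ D.K ∧ a * (g * h) ∉ D.K) →
    ∀ x ∈ D.A, ∀ y ∈ D.A, x * x = 1 → y * y = 1 → x * y = y * x → x ≠ 1 → y ≠ 1 → x ≠ y →
    ¬ (g * x = x * g ∧ g * y = y * g ∧ h * x = x * h ∧ h * y = y * h)

structure Fa : Prop where
  rel : D.Rel
  glob : D.Glob
  par : D.Par

end RD

def FactStmt : Prop :=
  ∀ (G : Type u) [Group G] [Finite G] (A : Subgroup G),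
    Nonempty (A ≃* Matrix.ProjectiveSpecialLinearGroup (Fin 3) F4) →
    ∃ D : RD G, D.A = A ∧ D.Rel ∧ D.Glob

def ParStmt : Prop :=
  ∀ (G : Type u) [Group G] [Finite G] (D : RD G), D.Rel → D.Glob → D.Par

/-! ### The four-group `R` -/

structure PD (D : RD G) (R : Subgroup G) : Prop where
  std : IsStandardSubgroup D.A
  syl : IsSylowIn 2 R D.K
  card : Nat.card R = 4
  sq : ∀ x ∈ R, x * x = 1
  mov : ∃ g, g ∈ normalizer ((R ⊔ D.V : Subgroup G) : Set G) ∧ g ∈ normalizer (D.V : Set G) ∧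
    g ∉ normalizer (R : Set G)
  noD : ∀ g, ∀ k ∈ D.K, k * k = 1 → g * k * g⁻¹ ∈ D.A → k = 1

def PreStmt : Prop :=
  ∀ (G : Type u) [Group G] [Finite G] (D : RD G), D.Fa → IsStandardSubgroup D.A →
    ¬ PRankLE 2 1 D.K →
    (∃ g, g ∉ D.N ∧ Even (Nat.card ↥(D.K.map (MulAut.conj g).toMonoidHom ⊓ D.N))) →
    ∃ R, PD D R

structure WA (D : RD G) (R O : Subgroup G) (r f : F4 → G) (c : F4) : Prop where
  OK : O ≤ D.K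
  oddO : Odd (Nat.card O)
  OR : ∀ o ∈ O, ∀ x ∈ R, o * x = x * o
  cKR : ∀ k ∈ D.K, (∀ x ∈ R, k * x = x * k) → ∃ x ∈ R, ∃ o ∈ O, k = x * o
  nR : normalizer (R : Set G) ≤ D.N
  cr : ∀ s, s ≠ 0 → ∀ g, g * r s = r s * g → g ∈ D.N
  r_add : ∀ s t, r (s + t) = r s * r t
  r_inj : ∀ s, r s = 1 → s = 0
  r_mem : ∀ x, x ∈ R ↔ ∃ s, r s = x
  f0 : f 0 = 1
  fU : ∀ t, ∀ p ∈ D.U, f t * p = p * f t
  fr : ∀ t s, f t * r s = r s * D.xv (s * t) * f t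
  ff : ∀ t s, f t * f s = f s * f t
  fsq : ∀ t, f t * f t = D.xv (c * t)
  f3 : f 1 * f om * f (om ^ 2) = 1
  rf : ∀ t, D.rho * f t = f (om ^ 2 * t) * D.rho
  nE : ∀ g, (∀ s, ∃ s' t, g * r s * g⁻¹ = r s' * D.xv t) →
    ∃ t, (f t)⁻¹ * g ∈ normalizer (R : Set G)
  fI : ∀ k ∈ D.K, Odd (orderOf k) → (∃ s, s ≠ 0 ∧ k * r s = r s * k) → ∀ t, f t * k = k * f t

def WAStmt : Prop :=
  ∀ (G : Type u) [Group G] [Finite G] (D : RD G) (R : Subgroup G), D.Fa → PD D R →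
    ∃ O r f c, WA D R O r f c

/-- The translations of `R X_e`; those of `R X_b` are `sE D.swap`. -/
def sE (D : RD G) (f : F4 → G) (β : F4) : G := D.nb * f β * D.nb

structure WB (D : RD G) (r f : F4 → G) (v : F4) : Prop where
  f_add : ∀ s t, f (s + t) = f s * f t
  sf : ∀ β t, ∃ x, sE D f β * f t * (sE D f β)⁻¹ = f t * D.xe (v * β ^ 2 * t) * D.xv x
  sb : ∀ β t, ∃ x, sE D f β * D.xb t * (sE D f β)⁻¹ =
    r (v * β ^ 2 * t) * f (β * t) * D.xe (v * β ^ 3 * t) * D.xb t * D.xv x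

def WBStmt : Prop :=
  ∀ (G : Type u) [Group G] [Finite G] (D : RD G) (R O : Subgroup G) (r f : F4 → G) (c : F4),
    D.Fa → PD D R → WA D R O r f c → ∃ v v', WB D r f v ∧ WB D.swap r f v'

/-! ### The group `W = 4^(1+4)` -/

abbrev N4 : Type := (Fin 1 ⊕ Fin 1) ⊕ Fin 2 → ZMod 2

noncomputable abbrev q4 : QuadraticForm (ZMod 2) N4 := qMinus (ZMod 2) 1 1 1

theorem hq4 : (polarBilin q4).Nondegenerate := qMinus_nondegenerate' 1 (by decide)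

noncomputable abbrev q6 : QuadraticForm (ZMod 2) ((Fin 2 ⊕ Fin 2) ⊕ Fin 2 → ZMod 2) :=
  qMinus (ZMod 2) 2 1 1

theorem hq6 : (polarBilin q6).Nondegenerate := qMinus_nondegenerate' 2 (by decide)

/-- `(n₁, n₂)` stands for `n₁ + ω n₂`; scalar multiplication. -/
def sm (t : F4) (x : N4 × N4) : N4 × N4 :=
  (t.re • x.1 + t.im • x.2, t.im • x.1 + (t.re + t.im) • x.2)

noncomputable def qq (x : N4 × N4) : F4 := ⟨q4 x.1 + q4 x.2, polar q4 x.1 x.2 + q4 x.2⟩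

noncomputable def bq (x y : N4 × N4) : F4 :=
  ⟨polar q4 x.1 y.1 + polar q4 x.2 y.2, polar q4 x.1 y.2 + polar q4 x.2 y.1 + polar q4 x.2 y.2⟩

def vE : N4 := Sum.elim (Sum.elim ![1] ![0]) ![0, 0]
def vF : N4 := Sum.elim (Sum.elim ![0] ![1]) ![0, 0]
def vP : N4 := Sum.elim (Sum.elim ![0] ![0]) ![1, 0]
def vP' : N4 := Sum.elim (Sum.elim ![0] ![0]) ![0, 1]

/-- Coordinates on `W = U R ⟨f⟩`, with a scaling parameter `l`. -/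
structure W4 (D : RD G) (r f : F4 → G) (l : F4) (W : Subgroup G) (π : G → N4 × N4) : Prop where
  W_eq : W = D.U ⊔ closure (Set.range r ∪ Set.range f)
  wnf : ∀ a ∈ W, ∃ s t, ∃ q ∈ D.U, a = r s * f t * q
  π_mul : ∀ a ∈ W, ∀ b ∈ W, π (a * b) = π a + π b
  π_ker : ∀ a ∈ W, π a = 0 ↔ ∃ s, D.xv s = a
  π_surj : ∀ x, ∃ a ∈ W, π a = x
  sq : ∀ a ∈ W, a * a = D.xv (qq (π a))
  comm : ∀ a ∈ W, ∀ b ∈ W, a * b = D.xv (bq (π a) (π b)) * (b * a)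
  πr : ∀ s, π (r s) = sm s (vP', vP)
  πf : ∀ s, π (f s) = sm s (vP + vP', vP)
  πe : ∀ s, π (D.xe s) = sm (l * s) (vE, 0)
  πb : ∀ s, π (D.xb s) = sm (l ^ 2 * s) (vF, 0)

def W4Stmt : Prop :=
  ∀ (G : Type u) [Group G] [Finite G] (D : RD G) (R O : Subgroup G) (r f : F4 → G) (c l : F4),
    D.Fa → WA D R O r f c → (∀ s t, f (s + t) = f s * f t) → l ≠ 0 → ∃ W π, W4 D r f l W π

def VOneStmt : Prop :=
  ∀ (G : Type u) [Group G] [Finite G] (D : RD G) (R O W : Subgroup G) (r f : F4 → G)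
    (c v v' : F4) (π : G → N4 × N4), D.Fa → PD D R → WA D R O r f c → WB D r f v →
    WB D.swap r f v' → W4 D r f 1 W π → v * v' = 1

/-- The action of `C(V) ∩ N(W)` on `W / V`; the image is `Ω₄⁻(2)` or `O₄⁻(2)`. -/
structure PhiD (V W Od : Subgroup G) (π : G → N4 × N4) (Φ : G → O q4) : Prop where
  Φ_mul : ∀ g ∈ centralizer (V : Set G) ⊓ normalizer (W : Set G),
    ∀ h ∈ centralizer (V : Set G) ⊓ normalizer (W : Set G), Φ (g * h) = Φ g * Φ h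
  act : ∀ g ∈ centralizer (V : Set G) ⊓ normalizer (W : Set G), ∀ a ∈ W,
    π (g * a * g⁻¹) = ((Φ g).1 (π a).1, (Φ g).1 (π a).2)
  Φ_surj : ∀ φ ∈ kerDS hq4,
    ∃ g ∈ centralizer (V : Set G) ⊓ normalizer (W : Set G), Φ g = φ ∧ ∀ o ∈ Od, o * g = g * o
  Φ_ker : ∀ g ∈ centralizer (V : Set G) ⊓ normalizer (W : Set G), Φ g = 1 →
    ∃ a ∈ W, ∃ o ∈ Od, g = a * o

def PhiStmt : Prop :=
  ∀ (G : Type u) [Group G] [Finite G] (D : RD G) (R Od W : Subgroup G) (r f : F4 → G)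
    (c v v' : F4) (π : G → N4 × N4), D.Fa → PD D R → WA D R Od r f c → WB D r f v →
    WB D.swap r f v' → v * v' = 1 → W4 D r f v W π → ∃ Φ, PhiD D.V W Od π Φ

/-- The data around `V` and `W`. -/
structure WD (G : Type u) where
  (v e b r f : F4 → G)
  (n1 n2 t : G)
  (π : G → N4 × N4)
  (Φ : G → O q4)

variable (C : WD G) (W Od : Subgroup G)

def WD.V : Subgroup G := closure (Set.range C.v)

def WD.M0 : Subgroup G := centralizer (C.V : Set G) ⊓ normalizer (W : Set G)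

structure WC : Prop where
  v_add : ∀ s t, C.v (s + t) = C.v s * C.v t
  v_inj : ∀ s, C.v s = 1 → s = 0
  vW : ∀ s, C.v s ∈ W
  π_mul : ∀ a ∈ W, ∀ b ∈ W, C.π (a * b) = C.π a + C.π b
  π_ker : ∀ a ∈ W, C.π a = 0 ↔ ∃ s, C.v s = a
  π_surj : ∀ x, ∃ a ∈ W, C.π a = x
  sq : ∀ a ∈ W, a * a = C.v (qq (C.π a))
  comm : ∀ a ∈ W, ∀ b ∈ W, a * b = C.v (bq (C.π a) (C.π b)) * (b * a)
  phi : PhiD C.V W Od C.π C.Φ
  odd : Odd (Nat.card Od)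
  OW : ∀ o ∈ Od, ∀ a ∈ W, o * a = a * o
  oddn : ∀ B : Subgroup G, B ≤ centralizer (C.V : Set G) →
    centralizer (C.V : Set G) ≤ normalizer (B : Set G) → Odd (Nat.card B) → B ≤ Od
  tM : C.t ∈ C.M0 W
  tW : C.t ∉ W
  t2 : C.t * C.t = 1
  tev : C.Φ C.t ∈ kerDS hq4
  tr : IsConj (C.r 1) C.t
  tO : ∀ o ∈ Od, o * C.t = C.t * o
  e_add : ∀ s t, C.e (s + t) = C.e s * C.e t
  eW : ∀ s, C.e s ∈ W
  πe : ∀ s, C.π (C.e s) = sm s (vE, 0)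
  b_add : ∀ s t, C.b (s + t) = C.b s * C.b t
  bW : ∀ s, C.b s ∈ W
  πb : ∀ s, C.π (C.b s) = sm s (vF, 0)
  rW : ∀ s, C.r s ∈ W
  πr : ∀ s, C.π (C.r s) = sm s (vP', vP)
  fW : ∀ s, C.f s ∈ W
  πf : ∀ s, C.π (C.f s) = sm s (vP + vP', vP)
  n12 : C.n1 * C.n1 = 1
  n1O : ∀ o ∈ Od, o * C.n1 = C.n1 * o
  n1e : ∀ s, C.n1 * C.e s = C.v s * C.n1
  n1r : ∀ s, C.n1 * C.r s = C.r s * C.n1
  n1f : C.n1 * C.f 1 * C.n1 ∉ W
  n22 : C.n2 * C.n2 = 1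
  n2O : ∀ o ∈ Od, o * C.n2 = C.n2 * o
  n2b : ∀ s, C.n2 * C.b s = C.v s * C.n2
  n2r : ∀ s, C.n2 * C.r s = C.r s * C.n2
  n2f : C.n2 * C.f 1 * C.n2 ∉ W
  vconj : ∀ s, s ≠ 0 → IsConj (C.v 1) (C.v s)
  noD : ¬ IsConj (C.v 1) (C.r 1)
  gam : ∀ g ∈ C.M0 W, C.Φ g ∉ kerDS hq4 → ∃ γ ∈ C.M0 W, C.Φ γ ∉ kerDS hq4 ∧ γ * γ = 1 ∧
    (∀ s, γ * C.r s = C.r s * γ) ∧ (∀ s, γ * C.f s = C.f s * γ) ∧ ¬ IsConj (C.r 1) γ

def HDStmt : Prop :=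
  ∀ (G : Type u) [Group G] [Finite G] (D : RD G) (R Od W : Subgroup G) (r f : F4 → G)
    (c v v' : F4) (π : G → N4 × N4) (Φ : G → O q4), D.Fa → PD D R → WA D R Od r f c →
    WB D r f v → WB D.swap r f v' → v * v' = 1 → W4 D r f v W π → PhiD D.V W Od π Φ →
    ∃ C : WD G, WC C W Od

def AlphaStmt : Prop :=
  ∀ (G : Type u) [Group G] [Finite G] (C : WD G) (W Od : Subgroup G), WC C W Od →
    normalizer (C.V : Set G) ≤ normalizer (W : Set G)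

structure TK (τ κ : G) : Prop where
  τW : τ ∈ normalizer (W : Set G)
  τ1 : τ * C.v 1 = C.v 1 * τ
  τω : τ * C.v om = C.v (om ^ 2) * τ
  τ2 : ∃ k : ℕ, τ ^ 2 ^ k = 1
  τO : ∀ o ∈ Od, o * τ = τ * o
  τz : ∀ a ∈ W, (C.π a).2 = 0 → τ * a * τ⁻¹ = a ∨ τ * a * τ⁻¹ = a * C.v 1
  κ1 : κ * C.v 1 = C.v 1 * κ
  κω : κ * C.v om = C.e 1 * C.v om * κ
  κe : κ * C.e 1 = C.e 1 * κ

def TauStmt : Prop :=
  ∀ (G : Type u) [Group G] [Finite G] (C : WD G) (W Od : Subgroup G), WC C W Od →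
    normalizer (C.V : Set G) ≤ normalizer (W : Set G) → ∃ τ κ, TK C W Od τ κ

/-- The extraspecial group `Q = 2^(1+6)` and its link with `W`. -/
structure QW (Q : Subgroup G) (ϖ : G → (Fin 2 ⊕ Fin 2) ⊕ Fin 2 → ZMod 2) (Ψ : G → O q6) : Prop
    extends Q0 (C.v 1) (C.v om) Q Od ϖ Ψ where
  stab_surj : ∀ φ ∈ kerDS hq6, φ.1 (ϖ (C.v om)) = ϖ (C.v om) →
    ∃ g ∈ centralizer {C.v 1} ⊓ normalizer (Q : Set G), Ψ g = φ
  eQ : C.e 1 ∈ Q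
  M0Q : C.M0 W ≤ normalizer (Q : Set G)
  par : ∀ g ∈ C.M0 W, Ψ g ∈ kerDS hq6 ↔ C.Φ g ∈ kerDS hq4
  split : ∀ g ∈ normalizer (C.V : Set G), g * C.v 1 = C.v 1 * g → ∃ a ∈ Q, g * a ∈ C.M0 W
  mv : ∃ a ∈ Q, a * C.v om ≠ C.v om * a
  triv : ∀ g ∈ C.M0 W, (∀ a ∈ Q, polar q6 (ϖ a) (ϖ (C.v om)) = 0 →
    ϖ (g * a * g⁻¹) = ϖ a ∨ ϖ (g * a * g⁻¹) = ϖ a + ϖ (C.v om)) → C.Φ g = 1

def QAStmt : Prop :=
  ∀ (G : Type u) [Group G] [Finite G] (C : WD G) (W Od : Subgroup G) (τ κ : G), WC C W Od →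
    normalizer (C.V : Set G) ≤ normalizer (W : Set G) → TK C W Od τ κ → ∃ Q ϖ Ψ, QW C W Od Q ϖ Ψ

def QBStmt : Prop :=
  ∀ (G : Type u) [Group G] [Finite G] (C : WD G) (W Od Q : Subgroup G) (τ κ : G)
    (ϖ : G → (Fin 2 ⊕ Fin 2) ⊕ Fin 2 → ZMod 2) (Ψ : G → O q6), WC C W Od → TK C W Od τ κ →
    QW C W Od Q ϖ Ψ →
    ∀ φ ∈ kerDS hq6, ∃ g ∈ centralizer {C.v 1} ⊓ normalizer (Q : Set G), Ψ g = φ

/-- No reflections, by Thompson's transfer lemma. -/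
def KGStmt : Prop :=
  ∀ (G : Type u) [Group G] [Finite G] (C : WD G) (W Od Q : Subgroup G)
    (ϖ : G → (Fin 2 ⊕ Fin 2) ⊕ Fin 2 → ZMod 2) (Ψ : G → O q6), (∀ M : Subgroup G, M.index ≠ 2) →
    WC C W Od → normalizer (C.V : Set G) ≤ normalizer (W : Set G) → QW C W Od Q ϖ Ψ →
    (∀ φ ∈ kerDS hq6, ∃ g ∈ centralizer {C.v 1} ⊓ normalizer (Q : Set G), Ψ g = φ) →
    QC hq6 (C.v 1) (C.v om) Q Od ϖ Ψ

example : q4 vP = 1 ∧ q4 vP' = 1 ∧ polar q4 vP vP' = 1 ∧ q4 vE = 0 ∧ q4 vF = 0 ∧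
    polar q4 vE vF = 1 ∧ polar q4 vP vE = 0 ∧ polar q4 vP' vF = 0 := by
  simp only [polar_qMinus, qMinus_apply]
  decide

end Cfsg.Agent.H42.AL
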