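import Cfsg.Agent.H42.ACDefs
import Cfsg.Agent.H52.Pump
import Cfsg.Agent.S1910

/-! Project AC: general lemmas on standard subgroups and on `Cov`. -/

set_option autoImplicit false
set_option linter.unusedSectionVars false

namespace Cfsg.Agent.H42.AC

open Cfsg Subgroup Cfsg.Agent.H8 Cfsg.Agent.H42.AL
open scoped Pointwise commutatorElement

universe u

variable {G : Type u} [Group G] {A : Subgroup G}

theorem perf (hs : IsStandardSubgroup A) : ⁅A, A⁆ = A := H52.IsQuasisimple.commutator_self hs.1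

theorem qs (hs : IsStandardSubgroup A) {J : Subgroup G} (h1 : J ≤ A)
    (h2 : A ≤ normalizer (J : Set G)) : J ≤ centralizer (A : Set G) ∨ J = A :=
  (H52.IsQuasisimple.eq_or_commutator_eq_bot hs.1 h1 h2).symm.imp_left
    commutator_eq_bot_iff_le_centralizer.1

theorem conj_A {g a : G} (hg : g ∈ normalizer (A : Set G)) (ha : a ∈ A) : g * a * g⁻¹ ∈ A :=
  (mem_normalizer_iff.1 hg a).1 ha

theorem conj_K (hs : IsStandardSubgroup A) {g k : G} (hg : g ∈ normalizer (A : Set G))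
    (hk : k ∈ centralizer (A : Set G)) : g * k * g⁻¹ ∈ centralizer (A : Set G) :=
  (mem_normalizer_iff.1 (hs.2.2.2 ▸ hg) k).1 hk

theorem K_N {k : G} (hk : k ∈ centralizer (A : Set G)) : k ∈ normalizer (A : Set G) :=
  centralizer_le_normalizer _ hk

theorem K_comm {k a : G} (hk : k ∈ centralizer (A : Set G)) (ha : a ∈ A) : a * k = k * a :=
  mem_centralizer_iff.1 hk a ha

/-- A `2`-element of `A K` is a product of `2`-elements. -/
theorem split2 [Finite G] {a k : G} (ha : a ∈ A) (hk : k ∈ centralizer (A : Set G)) {n : ℕ}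
    (h : (a * k) ^ 2 ^ n = 1) : ∃ a' ∈ A, ∃ k' ∈ centralizer (A : Set G), ∃ m : ℕ,
      a * k = a' * k' ∧ a' ^ 2 ^ m = 1 ∧ k' ^ 2 ^ m = 1 := by
  obtain ⟨i, d, hd, e⟩ := Nat.exists_eq_two_pow_mul_odd (Nat.card_pos (α := G)).ne'
  have hc : Commute a k := K_comm hk ha
  obtain ⟨j, hj⟩ : ∃ j, d * j % 2 ^ (n + 1) = 1 := by
    obtain ⟨j, -, hj⟩ := Nat.exists_mul_mod_eq_one_of_coprime (k := 2 ^ (n + 1)) (n := d)
      (Nat.Coprime.pow_right _ hd.coprime_two_right) (Nat.one_lt_two_pow (by omega))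
    exact ⟨j, hj⟩
  have k1 : ∀ x : G, (x ^ (d * j)) ^ 2 ^ i = 1 := fun x => by
    rw [← pow_mul, show d * j * 2 ^ i = 2 ^ i * d * j by ring, ← e, pow_mul, pow_card_eq_one',
      one_pow]
  refine ⟨_, pow_mem ha (d * j), _, pow_mem hk (d * j), i, ?_, k1 a, k1 k⟩
  rw [← hc.mul_pow, ← Nat.div_add_mod (d * j) (2 ^ (n + 1)), hj, pow_add, pow_mul, pow_succ 2 n,
    pow_mul, h, one_pow, one_pow, one_mul, pow_one]

variable [Finite G]

/-- Tight embedding. -/
theorem te (hs : IsStandardSubgroup A) {g x : G} (hx : x ∈ centralizer (A : Set G))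
    (hx' : g⁻¹ * x * g ∈ centralizer (A : Set G)) {n : ℕ} (h2 : x ^ 2 ^ n = 1) (h1 : x ≠ 1) :
    g ∈ normalizer (A : Set G) := by
  by_contra hg
  have ho := hs.2.1.2 g (hs.2.2.2 ▸ hg)
  have hm : x ∈ centralizer (A : Set G) ⊓
      (centralizer (A : Set G)).map (MulAut.conj g).toMonoidHom :=
    ⟨hx, _, hx', by simp [mul_assoc]⟩
  have d1 := orderOf_dvd_natCard (⟨x, hm⟩ : ↥(centralizer (A : Set G) ⊓
      (centralizer (A : Set G)).map (MulAut.conj g).toMonoidHom))
  rw [orderOf_mk] at d1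
  exact h1 (orderOf_eq_one_iff.1 (Nat.eq_one_of_dvd_coprimes
    (Nat.Coprime.pow_right n ho.coprime_two_right) d1 (orderOf_dvd_of_pow_eq_one h2)))

theorem te2 (hs : IsStandardSubgroup A) {g x : G} (hx : x ∈ centralizer (A : Set G))
    (hx' : g⁻¹ * x * g ∈ centralizer (A : Set G)) (h2 : x * x = 1) (h1 : x ≠ 1) :
    g ∈ normalizer (A : Set G) := te hs hx hx' (n := 1) (by rwa [pow_one, pow_two]) h1

/-- The centralizer of a `2`-element of `K` lies in `N`. -/
theorem cent_N (hs : IsStandardSubgroup A) {y x : G} (hx : x ∈ centralizer (A : Set G)) {n : ℕ}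
    (h2 : x ^ 2 ^ n = 1) (h1 : x ≠ 1) (e : y * x = x * y) : y ∈ normalizer (A : Set G) :=
  te hs hx (by rwa [mul_assoc, ← e, inv_mul_cancel_left]) h2 h1

/-- The centralizer of an involution of `K'` lies in `N'`. -/
theorem cent_N' (hs : IsStandardSubgroup A) {g y x : G}
    (hx : g⁻¹ * x * g ∈ centralizer (A : Set G)) (h2 : x * x = 1) (h1 : x ≠ 1)
    (e : y * x = x * y) : g⁻¹ * y * g ∈ normalizer (A : Set G) := by
  refine cent_N hs hx (n := 1) ?_ (fun h => h1 ?_) ?_
  · calc (g⁻¹ * x * g) ^ 2 ^ 1 = g⁻¹ * (x * x) * g := by rw [pow_one, pow_two]; group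
      _ = 1 := by rw [h2]; group
  · calc x = g * (g⁻¹ * x * g) * g⁻¹ := by group
      _ = 1 := by rw [h]; group
  · calc g⁻¹ * y * g * (g⁻¹ * x * g) = g⁻¹ * (y * x) * g := by group
      _ = _ := by rw [e]; group

/-- If a `2`-element of `K` normalizes `A'`, then `A'` does not normalize `A`. -/
theorem kna (hs : IsStandardSubgroup A) {g s : G} (hg : g ∉ normalizer (A : Set G))
    (hK : s ∈ centralizer (A : Set G)) {n : ℕ} (h2 : s ^ 2 ^ n = 1) (h1 : s ≠ 1)
    (hN : g⁻¹ * s * g ∈ normalizer (A : Set G)) :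
    ∃ a ∈ A, g * a * g⁻¹ ∉ normalizer (A : Set G) := by
  by_contra hc
  push Not at hc
  rcases H52.IsQuasisimple.commutator_eq_or_eq_bot hs.1 (zpowers_le.2 hN) with e | e
  · have hle : A ≤ MulAut.conj g⁻¹ • centralizer (A : Set G) := by
      conv_lhs => rw [← e]
      rw [commutator_le]
      rintro a ha _ ⟨i, rfl⟩
      have h3 := mul_mem (conj_K hs (hc a ha) (zpow_mem hK i)) (inv_mem (zpow_mem hK i))
      rw [mem_conj_smul]
      convert h3 using 1
      have : (g⁻¹ * s * g) ^ i = g⁻¹ * s ^ i * g := by simpa using conj_zpow (a := g⁻¹) (b := s)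
      simp only [this, commutatorElement_def]
      group
    refine hg (mem_normalizer_iff_conj_smul_eq.2 ?_)
    by_contra hne
    refine hs.2.2.1 g hne ?_
    rw [commutator_comm, commutator_eq_bot_iff_le_centralizer]
    rintro _ ⟨a, ha, rfl⟩
    simpa using mem_conj_smul.1 (hle ha)
  · rw [commutator_comm, commutator_eq_bot_iff_le_centralizer] at e
    exact hg (te hs hK (e (mem_zpowers _)) h2 h1)

/-- A `2`-subgroup of `K ∩ N'` has a commuting copy in `K'`. -/
theorem copy (hs : IsStandardSubgroup A) {g : G} (hg : g ∉ normalizer (A : Set G))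
    {F : Subgroup G} (hF : IsPGroup 2 F) (F1 : F ≠ ⊥) (FK : F ≤ centralizer (A : Set G))
    (FN : ∀ x ∈ F, g⁻¹ * x * g ∈ normalizer (A : Set G)) :
    ∃ φ : F →* G, Function.Injective φ ∧ ∀ x, g⁻¹ * φ x * g ∈ centralizer (A : Set G) ∧
      ∀ y ∈ F, φ x * y = y * φ x := by
  set K := centralizer (A : Set G)
  have hN : normalizer (A : Set G) = normalizer (K : Set G) := hs.2.2.2
  have hle : MulAut.conj g⁻¹ • F ≤ K.map (MulAut.conj g⁻¹).toMonoidHom ⊓ normalizer (K : Set G) :=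
    fun x hx => by
      have hx := mem_conj_smul.1 hx
      refine ⟨⟨_, FK hx, by simp [mul_assoc]⟩, ?_⟩
      have := FN _ hx
      rw [hN] at this
      simpa [mul_assoc] using this
  obtain ⟨T, hT, hFT⟩ := exists_isSylowIn_ge (isPGroup_conj_smul hF g⁻¹) hle
  obtain ⟨S, hS, hTS⟩ := exists_isSylowIn_ge hT.isPGroup (le_sup_right : T ≤ K ⊔ T)
  obtain ⟨-, -, hc, -, ⟨e⟩⟩ := S1910.result K hs.2.1 g⁻¹ (fun h => hg (hN ▸ inv_mem_iff.1 h)) T
    (fun h => F1 (by
      rw [eq_bot_iff] at h ⊢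
      intro x hx
      have := h (hFT (conj_mem_conj_smul (g := g⁻¹).2 hx))
      rw [mem_bot] at this ⊢
      exact conj_eq_one_iff.1 this)) hT.le ⟨hT.isPGroup, hT.not_dvd⟩ S hTS hS.le ⟨hS.isPGroup, hS.not_dvd⟩
  let ψ : F →* T := ((MulAut.conj g⁻¹).toMonoidHom.comp F.subtype).codRestrict T
    fun x => hFT (conj_mem_conj_smul.2 x.2)
  have hψ : Function.Injective ψ := fun x y h =>
    Subtype.ext ((MulAut.conj g⁻¹).injective (congrArg Subtype.val h))
  refine ⟨(MulAut.conj g).toMonoidHom.comp ((Subgroup.subtype _).comp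
    (e.symm.toMonoidHom.comp ψ)), (MulAut.conj g).injective.comp
      (Subtype.val_injective.comp (e.symm.injective.comp hψ)), fun x => ⟨?_, fun y hy => ?_⟩⟩
  · simpa [mul_assoc] using (e.symm (ψ x)).2.2
  · have h1 := mem_centralizer_iff.1 (commutator_eq_bot_iff_le_centralizer.1 hc
      (hFT (conj_mem_conj_smul (g := g⁻¹).2 hy))) _ (e.symm (ψ x)).2
    change g * (e.symm (ψ x) : G) * g⁻¹ * y = y * (g * (e.symm (ψ x) : G) * g⁻¹)
    calc _ = g * ((e.symm (ψ x) : G) * (g⁻¹ * y * g⁻¹⁻¹)) * g⁻¹ := by group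
      _ = _ := by rw [h1]; group

/-- Central `2`-elements of a perfect group lie in the derived group of a Sylow subgroup. -/
theorem tr {S : Subgroup G} (hA : ⁅A, A⁆ = A) (hS : IsSylowIn 2 S A) {z : G} (hz : z ∈ S)
    (hc : z ∈ centralizer (A : Set G)) : z ∈ ⁅S, S⁆ := by
  let P := S.subgroupOf A
  let z' : A := ⟨z, hS.le hz⟩
  have key : ∀ (k : ℕ) (g₀ : A), g₀⁻¹ * z' ^ k * g₀ ∈ P → g₀⁻¹ * z' ^ k * g₀ = z' ^ k :=
    fun k g₀ _ => Subtype.ext (by
      change (g₀ : G)⁻¹ * z ^ k * g₀ = z ^ k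
      rw [mul_assoc, ← K_comm (pow_mem hc k) g₀.2, inv_mul_cancel_left])
  have h1 := MonoidHom.transfer_eq_pow (Abelianization.of (G := P)) z' key
  have h2 : z' ∈ commutator A := by
    have : z ∈ (commutator A).map A.subtype := by
      rw [map_subtype_commutator, hA]; exact hS.le hz
    obtain ⟨y, hy, e⟩ := this
    rwa [show z' = y from Subtype.ext e.symm]
  have h3 := Abelianization.commutator_subset_ker (MonoidHom.transfer
    (Abelianization.of (G := P))) h2
  rw [MonoidHom.mem_ker, h1, ← MonoidHom.mem_ker, Abelianization.ker_of] at h3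
  have h4 : z ^ P.index ∈ ⁅S, S⁆ := by
    have := mem_map_of_mem (A.subtype.comp P.subtype) h3
    rw [commutator_def, map_commutator] at this
    have hle : (⊤ : Subgroup P).map (A.subtype.comp P.subtype) ≤ S := by
      rintro _ ⟨x, -, rfl⟩; exact x.2
    exact commutator_mono hle hle this
  obtain ⟨n, hn⟩ := hS.isPGroup ⟨z, hz⟩
  have hn : z ^ 2 ^ n = 1 := congrArg Subtype.val hn
  have hco : (P.index).Coprime (orderOf z) := Nat.Coprime.coprime_dvd_right
    (orderOf_dvd_of_pow_eq_one hn) (Nat.Coprime.pow_right n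
      ((Nat.Prime.coprime_iff_not_dvd Nat.prime_two).2 hS.not_dvd).symm)
  obtain ⟨m, hm⟩ := exists_pow_eq_self_of_coprime hco
  exact hm ▸ pow_mem h4 m

end Cfsg.Agent.H42.AC

namespace Cfsg.Agent.H42.AL.Cov

open Cfsg Subgroup Cfsg.Agent.H42.AC
open scoped commutatorElement

universe u

variable {G H : Type u} [Group G] [Group H] {A : Subgroup G} {B : Subgroup H} {p : G → H}
  (h : Cov A B p)
include h

/-- `p` as a homomorphism on `N`. -/
def hom : normalizer (A : Set G) →* H := MonoidHom.mk' (fun x => p x) fun a b => h.mul _ a.2 _ b.2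

theorem hom_apply (x : normalizer (A : Set G)) : h.hom x = p x := rfl

theorem one : p 1 = 1 := map_one h.hom

theorem inv {a : G} (ha : a ∈ normalizer (A : Set G)) : p a⁻¹ = (p a)⁻¹ := map_inv h.hom ⟨a, ha⟩

theorem pow {a : G} (ha : a ∈ normalizer (A : Set G)) (n : ℕ) : p (a ^ n) = p a ^ n :=
  map_pow h.hom ⟨a, ha⟩ n

theorem cj {g a : G} (hg : g ∈ normalizer (A : Set G)) (ha : a ∈ normalizer (A : Set G)) :
    p (g * a * g⁻¹) = p g * p a * (p g)⁻¹ := by
  rw [h.mul _ (mul_mem hg ha) _ (inv_mem hg), h.mul _ hg _ ha, h.inv hg]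

theorem cm {g a : G} (hg : g ∈ normalizer (A : Set G)) (ha : a ∈ normalizer (A : Set G)) :
    p ⁅g, a⁆ = ⁅p g, p a⁆ := map_commutatorElement h.hom ⟨g, hg⟩ ⟨a, ha⟩

theorem K {k : G} (hk : k ∈ centralizer (A : Set G)) : p k = 1 := (h.ker k (K_N hk)).2 hk

theorem mulK {a k : G} (ha : a ∈ normalizer (A : Set G)) (hk : k ∈ centralizer (A : Set G)) :
    p (a * k) = p a := by rw [h.mul _ ha _ (K_N hk), h.K hk, mul_one]

theorem eq_iff {a b : G} (ha : a ∈ normalizer (A : Set G)) (hb : b ∈ normalizer (A : Set G)) :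
    p a = p b ↔ a⁻¹ * b ∈ centralizer (A : Set G) := by
  rw [← h.ker _ (mul_mem (inv_mem ha) hb), h.mul _ (inv_mem ha) _ hb, h.inv ha, inv_mul_eq_one]

theorem memB {a : G} (ha : a ∈ A) : p a ∈ B := (h.img _).2 ⟨a, ha, rfl⟩

/-- Inner elements. -/
theorem inn {g : G} (hg : g ∈ normalizer (A : Set G)) :
    p g ∈ B ↔ ∃ a ∈ A, ∃ k ∈ centralizer (A : Set G), g = a * k := by
  refine ⟨fun hp => ?_, ?_⟩
  · obtain ⟨a, ha, e⟩ := (h.img _).1 hp
    exact ⟨a, ha, _, (h.eq_iff (le_normalizer ha) hg).1 e, by group⟩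
  · rintro ⟨a, ha, k, hk, rfl⟩
    rw [h.mulK (le_normalizer ha) hk]; exact h.memB ha

theorem allN (x : H) : x ∈ normalizer (B : Set H) := h.nrm ▸ mem_top x

theorem eq_one {x : H} (hx : x ∈ centralizer (B : Set H)) : x = 1 := mem_bot.1 (h.faith ▸ hx)

/-- `p` maps `[N, N]` into `[N̄, N̄]`. -/
theorem comm {z : G} (hz : z ∈ ⁅normalizer (A : Set G), normalizer (A : Set G)⁆) :
    p z ∈ ⁅normalizer (B : Set H), normalizer (B : Set H)⁆ := by
  rw [← map_subtype_commutator] at hz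
  obtain ⟨y, hy, rfl⟩ := hz
  have := mem_map_of_mem h.hom hy
  rw [commutator_def, map_commutator] at this
  rw [h.nrm]
  exact commutator_mono le_top le_top this

/-- Odd and `2`-power orders under `p`. -/
theorem two {a : G} (ha : a ∈ normalizer (A : Set G)) {n : ℕ} (e : a ^ n = 1) : p a ^ n = 1 := by
  rw [← h.pow ha, e, h.one]

end Cfsg.Agent.H42.AL.Cov
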