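import Cfsg.Agent.H42.ALKgB
import Cfsg.Agent.H87.Transfer

/-! Project AL, piece KG: `C(z) ∩ N(Q)` induces no reflection. -/

set_option autoImplicit false
set_option linter.unusedSectionVars false

namespace Cfsg.Agent.H42.KG

open Cfsg Subgroup Cfsg.Agent.H28 Cfsg.Agent.H30 QuadraticMap Cfsg.Agent.H42.AL Module
open Cfsg.Agent.H42.AS (om Q0 QC)
open Cfsg.Agent.H8 (IsSylowIn mem_conj_smul conj_mem_conj_smul)
open H76.AsQB (z2 pself)
open H60.AlT (ap vv2 qf pf qf_eq pf_eq)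
open H28.AlQ (v_zero v_sq z_ne v_inj' π_v π_one v_comm mem_cV mem_V W_le odd_kill)
open scoped Pointwise

universe u

variable {G : Type u} [Group G] [Finite G] {C : WD G} {W Od Q : Subgroup G}
  {ϖ : G → (Fin 2 ⊕ Fin 2) ⊕ Fin 2 → ZMod 2} {Ψ : G → O q6} (h : WC C W Od)
  (hN : normalizer (C.V : Set G) ≤ normalizer (W : Set G)) (P : QW C W Od Q ϖ Ψ)
  (hs : ∀ φ ∈ kerDS hq6, ∃ g ∈ centralizer {C.v 1} ⊓ normalizer (Q : Set G), Ψ g = φ)

local notation "Y" => centralizer {C.v 1} ⊓ normalizer (Q : Set G)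
local notation "Mz" => centralizer {C.v 1} ⊓ normalizer (C.V : Set G)

section
include h

theorem vz : C.v (om ^ 2) = C.v om * C.v 1 := by rw [← h.v_add]; rfl

theorem V_cases {x : G} (hx : x ∈ C.V) :
    x = 1 ∨ x = C.v 1 ∨ x = C.v om ∨ x = C.v om * C.v 1 := by
  obtain ⟨s, rfl⟩ := mem_V h hx
  have : ∀ s : F4, s = 0 ∨ s = 1 ∨ s = om ∨ s = om ^ 2 := by decide
  rcases this s with rfl | rfl | rfl | rfl
  exacts [.inl (v_zero h), .inr (.inl rfl), .inr (.inr (.inl rfl)), .inr (.inr (.inr (vz h)))]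

theorem vV (s : F4) : C.v s ∈ C.V := subset_closure ⟨s, rfl⟩

theorem mem_Mz {g : G} : g ∈ Mz ↔ g * C.v 1 = C.v 1 * g ∧
    (g * C.v om * g⁻¹ = C.v om ∨ g * C.v om * g⁻¹ = C.v om * C.v 1) := by
  refine ⟨fun ⟨k1, k2⟩ => ⟨mem_centralizer_singleton_iff.1 k1, ?_⟩, fun ⟨k1, k2⟩ =>
    ⟨mem_centralizer_singleton_iff.2 k1, ?_⟩⟩
  · have k1' : g * C.v 1 * g⁻¹ = C.v 1 := by rw [mem_centralizer_singleton_iff.1 k1]; group
    rcases V_cases h ((mem_normalizer_iff.1 k2 _).1 (vV h om)) with k | k | k | k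
    · exact absurd (h.v_inj om (by simpa using k)) (by decide)
    · rw [← k1'] at k
      exact absurd (v_inj' h (by simpa using k)) (by decide : om ≠ 1)
    · exact .inl k
    · exact .inr k
  · have k1' : g * C.v 1 * g⁻¹ = C.v 1 := by rw [k1]; group
    refine H8.mem_normalizer_of_conj_smul_le fun x hx => ?_
    rw [mem_conj_smul] at hx
    have e : x = g * (g⁻¹ * x * g) * g⁻¹ := by group
    have m : g * C.v om * g⁻¹ ∈ C.V := by
      rcases k2 with k | k <;> rw [k]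
      exacts [vV h _, mul_mem (vV h _) (vV h _)]
    rcases V_cases h hx with k | k | k | k <;> rw [e, k]
    · simp
    · rw [k1']; exact vV h _
    · exact m
    · rw [← conj_mul, k1']; exact mul_mem m (vV h _)

theorem M0_le : C.M0 W ≤ Mz := fun _ hg =>
  (mem_Mz h).2 ⟨cv h hg 1, .inl (by rw [cv h hg]; group)⟩

include hN in
theorem mem_M0 {g : G} (k1 : g * C.v 1 = C.v 1 * g) (k2 : g * C.v om = C.v om * g) :
    g ∈ C.M0 W :=
  ⟨(mem_cV h).2 ⟨k1, k2⟩, hN (centralizer_le_normalizer _ ((mem_cV h).2 ⟨k1, k2⟩))⟩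

include hN in
theorem comm_M0 {a b : G} (ha : a ∈ Mz) (hb : b ∈ Mz) : a * b * a⁻¹ * b⁻¹ ∈ C.M0 W := by
  have m := (mem_Mz h).1 (mul_mem (mul_mem (mul_mem ha hb) (inv_mem ha)) (inv_mem hb))
  refine mem_M0 h hN m.1 ?_
  obtain ⟨a1, a2⟩ := (mem_Mz h).1 ha
  obtain ⟨b1, b2⟩ := (mem_Mz h).1 hb
  have a1' : a * C.v 1 * a⁻¹ = C.v 1 := by rw [a1]; group
  have b1' : b * C.v 1 * b⁻¹ = C.v 1 := by rw [b1]; group
  have e : a * (b * C.v om * b⁻¹) * a⁻¹ = b * (a * C.v om * a⁻¹) * b⁻¹ := by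
    rcases a2 with k | k <;> rcases b2 with l | l <;> simp only [k, l, ← conj_mul, a1', b1']
  have e2 : ∀ x, b * a * x * (b * a)⁻¹ = C.v om → a * b * x * (a * b)⁻¹ = C.v om := fun x k => by
    have hx : x ∈ C.V := by
      rw [show x = (b * a)⁻¹ * C.v om * (b * a)⁻¹⁻¹ by rw [← k]; group]
      exact (mem_normalizer_iff.1 (inv_mem (mul_mem hb ha)).2 _).1 (vV h om)
    rw [← k]
    rcases V_cases h hx with l | l | l | l <;> rw [l]
    · simp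
    · calc _ = a * (b * C.v 1 * b⁻¹) * a⁻¹ := by group
        _ = b * (a * C.v 1 * a⁻¹) * b⁻¹ := by rw [a1', b1', a1']
        _ = _ := by group
    · calc _ = a * (b * C.v om * b⁻¹) * a⁻¹ := by group
        _ = _ := by rw [e]; group
    · calc _ = a * (b * C.v om * b⁻¹) * a⁻¹ * (a * (b * C.v 1 * b⁻¹) * a⁻¹) := by group
        _ = b * (a * C.v om * a⁻¹) * b⁻¹ * (b * (a * C.v 1 * a⁻¹) * b⁻¹) := by
          rw [e, a1', b1', a1']
        _ = _ := by group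
  have := e2 ((b * a)⁻¹ * C.v om * (b * a)) (by group)
  calc _ = a * b * ((b * a)⁻¹ * C.v om * (b * a)) * (a * b)⁻¹ * (a * b * a⁻¹ * b⁻¹) := by group
    _ = _ := by rw [this]

end

section
include P

theorem zp {a : ZMod 2} (k : C.v 1 ^ a.val = 1) : a = 0 := by
  by_contra h0
  rw [z2 h0, ZMod.val_one, pow_one] at k
  have := P.z2
  rw [k, orderOf_one] at this
  omega

theorem zc (a : ZMod 2) : C.v 1 ^ a.val = 1 ∨ C.v 1 ^ a.val = C.v 1 := by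
  by_cases h0 : a = 0
  · left; simp [h0]
  · right; rw [z2 h0]; simp [ZMod.val_one]

theorem ϖ1 : ϖ 1 = 0 := (P.π_ker 1 (one_mem _)).2 (.inl rfl)

theorem ϖz : ϖ (C.v 1) = 0 := (P.π_ker _ P.zQ).2 (.inr rfl)

theorem cz {a : G} (ha : a ∈ Q) : a * C.v 1 = C.v 1 * a := by
  rw [P.comm a ha _ P.zQ, ϖz P, polar_zero_right]; simp

theorem cj {a b : G} (ha : a ∈ Q) (hb : b ∈ Q) : a * b * a⁻¹ = b ∨ a * b * a⁻¹ = b * C.v 1 := by
  rw [P.comm a ha b hb]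
  rcases zc P (polar q6 (ϖ a) (ϖ b)) with k | k <;> rw [k]
  · left; group
  · right; rw [cz P hb]; group

theorem ϖinv {a : G} (ha : a ∈ Q) : ϖ a⁻¹ = ϖ a := by
  have := P.π_mul _ (inv_mem ha) _ ha
  rw [inv_mul_cancel, ϖ1 P] at this
  exact add_right_cancel (this.symm.trans (a2 _).symm)

theorem ϖeq {a b : G} (ha : a ∈ Q) (hb : b ∈ Q) (k : ϖ a = ϖ b) : a = b ∨ a = b * C.v 1 := by
  rcases (P.π_ker (b⁻¹ * a) (mul_mem (inv_mem hb) ha)).1 (by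
    rw [P.π_mul _ (inv_mem hb) _ ha, ϖinv P hb, k, a2]) with k | k
  · left; rw [inv_mul_eq_one.1 k]
  · right; rw [← k]; group

theorem nQ {g a : G} (hg : g ∈ Y) (ha : a ∈ Q) : g * a * g⁻¹ ∈ Q :=
  (mem_normalizer_iff.1 hg.2 _).1 ha

theorem Q_Y : Q ≤ Y := fun _ ha => ⟨mem_centralizer_singleton_iff.2 (cz P ha), le_normalizer ha⟩

theorem Ψ_Q {a : G} (ha : a ∈ Q) : Ψ a = 1 := O_ext fun x => by
  obtain ⟨b, hb, rfl⟩ := P.π_surj x
  rw [← P.act a (Q_Y P ha) b hb]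
  rcases cj P ha hb with k | k <;> rw [k]
  · rfl
  · rw [P.π_mul b hb _ P.zQ, ϖz P, add_zero]; rfl

theorem Ψ1 : Ψ 1 = 1 := Ψ_Q P (one_mem _)

theorem Ψinv {g : G} (hg : g ∈ Y) : Ψ g⁻¹ = (Ψ g)⁻¹ :=
  eq_inv_of_mul_eq_one_left (by rw [← P.Ψ_mul _ (inv_mem hg) _ hg, inv_mul_cancel, Ψ1 P])

theorem comm_ev {a b : G} (ha : a ∈ Y) (hb : b ∈ Y) : Ψ (a * b * a⁻¹ * b⁻¹) ∈ kerDS hq6 := by
  rw [mem_kerDS_of_two_eq_zero _ rfl, P.Ψ_mul _ (mul_mem (mul_mem ha hb) (inv_mem ha)) _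
    (inv_mem hb), P.Ψ_mul _ (mul_mem ha hb) _ (inv_mem ha), P.Ψ_mul _ ha _ hb, Ψinv P ha,
    Ψinv P hb]
  simp only [map_mul, map_inv]
  rw [mul_inv_cancel_comm, mul_inv_cancel]

include h

theorem Mz_le : Mz ≤ Y := fun g hg =>
  ⟨hg.1, P.loc g ((mem_Mz h).1 hg).1 ((mem_Mz h).1 hg).2⟩

theorem Q_Mz : Q ≤ Mz := fun _ ha => (mem_Mz h).2 ⟨cz P ha, cj P ha P.vQ⟩

theorem fourQ {a : G} (ha : a ∈ Q) : a ^ 2 ^ 2 = 1 := by
  rw [show a ^ 2 ^ 2 = a * a * (a * a) by simp [pow_succ, mul_assoc], P.sq a ha]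
  rcases zc P (q6 (ϖ a)) with k | k <;> simp [k, v_sq h]

include hs in
theorem toV {a : G} (ha : a ∈ Q) (a0 : ϖ a ≠ 0) (aa : a * a = 1) :
    ∃ g ∈ Y, g * a * g⁻¹ = C.v om ∨ g * a * g⁻¹ = C.v om * C.v 1 := by
  obtain ⟨φ, k1, k2⟩ := trans1 hq6 (by simp) a0 P.v_ne
    ((zp P (by rw [← P.sq a ha, aa])).trans P.v_sing.symm)
  obtain ⟨g, hg, rfl⟩ := hs φ k1
  exact ⟨g, hg, ϖeq P (nQ P hg ha) P.vQ ((P.act g hg a ha).trans k2)⟩

include hN hs in
/-- even involutions of `C(z) ∩ N(Q)` -/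
theorem invY {y : G} (hy : y ∈ Y) (y2 : y * y = 1) (y1 : y ≠ 1) (ev : Ψ y ∈ kerDS hq6) :
    IsConj (C.v 1) y ∨ IsConj (C.r 1) y := by
  by_cases k : Ψ y = 1
  · left
    obtain ⟨a, ha, o, ho, rfl⟩ := P.Ψ_ker y hy k
    have : o ^ 2 ^ 2 = 1 := by
      have e1 : (a * o) ^ 2 ^ 2 = 1 := by
        rw [show 2 ^ 2 = 2 * 2 from rfl, pow_mul, pow_two (a * o), y2, one_pow]
      rwa [Commute.mul_pow (P.OQ o ho a ha).symm, fourQ h P ha, one_mul] at e1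
    rw [odd_kill h ho this, mul_one] at y1 y2 ⊢
    by_cases a0 : ϖ a = 0
    · rw [((P.π_ker a ha).1 a0).resolve_left y1]
    obtain ⟨g, -, e⟩ := toV h P hs ha a0 y2
    rw [← vz h] at e
    refine IsConj.trans (b := g * a * g⁻¹) ?_ (isConj_iff.2 ⟨g⁻¹, by group⟩)
    rcases e with e | e <;> rw [e] <;> exact h.vconj _ (by decide)
  obtain ⟨u, v, c, d, q1, q2, u0, -, -, hc, -, e⟩ := inv_eich hq6 (by simp) ev
    (by rw [← P.Ψ_mul y hy y hy, y2, Ψ1 P]) k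
  obtain ⟨c, cQ, rfl⟩ := P.π_surj c
  have yi : y⁻¹ = y := inv_eq_of_mul_eq_one_right y2
  have aQ := mul_mem (nQ P hy cQ) (inv_mem cQ)
  have pa : ϖ (y * c * y⁻¹ * c⁻¹) = u := by
    rw [P.π_mul _ (nQ P hy cQ) _ (inv_mem cQ), P.act y hy c cQ, ϖinv P cQ, hc]
  have aa := P.sq _ aQ
  rw [pa, q1, ZMod.val_zero, pow_zero] at aa
  have ya : y * (y * c * y⁻¹ * c⁻¹) * y⁻¹ = y * c * y⁻¹ * c⁻¹ := by
    calc _ = y * y * c * y⁻¹ * c⁻¹ * y⁻¹ := by group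
      _ = (y * c * y⁻¹ * c⁻¹)⁻¹ := by rw [y2]; nth_rewrite 1 [yi]; group
      _ = _ := inv_eq_of_mul_eq_one_right aa
  generalize y * c * y⁻¹ * c⁻¹ = a at aQ pa aa ya
  obtain ⟨g, hg, e2⟩ := toV h P hs aQ (pa ▸ u0) aa
  have hy' : g * y * g⁻¹ ∈ Y := mul_mem (mul_mem hg hy) (inv_mem hg)
  have k1 := mem_centralizer_singleton_iff.1 hy'.1
  have k2 : g * y * g⁻¹ * (g * a * g⁻¹) = g * a * g⁻¹ * (g * y * g⁻¹) := by
    rw [conj_mul, conj_mul, mul_inv_eq_iff_eq_mul.1 ya]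
  have gu : (Ψ g).1 u = ϖ (C.v om) := by
    rw [← pa, ← P.act g hg a aQ]
    rcases e2 with e2 | e2 <;> rw [e2]
    rw [P.π_mul _ P.vQ _ P.zQ, ϖz P, add_zero]
  have m : g * y * g⁻¹ ∈ C.M0 W := mem_M0 h hN k1 (by
    rcases e2 with e2 | e2 <;> rw [e2] at k2
    · exact k2
    · rw [← mul_assoc, mul_assoc (C.v om), ← k1, ← mul_assoc] at k2
      exact mul_right_cancel k2)
  have y2' : g * y * g⁻¹ * (g * y * g⁻¹) = 1 := by rw [conj_mul, y2]; group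
  have mW := memW h m (P.triv _ m fun b hb k3 => by
    rw [P.act _ hy' b hb, P.Ψ_mul _ (mul_mem hg hy) _ (inv_mem hg), P.Ψ_mul _ hg _ hy, Ψinv P hg,
      e, eich_conj, gu, eich_apply P.v_sing (by rw [← gu, O_polar, q2]), k3, sub2, sub2]
    by_cases k4 : polar q6 (ϖ b) ((Ψ g).1 v) = 0
    · left; simp [k4]
    · right; simp [z2 k4]) (k := 1) (by simpa [pow_two] using y2')
  exact (invW h mW y2' (by simpa using y1)).imp
    (fun k => k.trans (isConj_iff.2 ⟨g⁻¹, by group⟩)) fun k => k.trans (isConj_iff.2 ⟨g⁻¹, by group⟩)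

include hN in
/-- a Sylow `2`-subgroup of `C(z) ∩ N(V)` is one of `G` -/
theorem sylow {T : Subgroup G} (hT : IsSylowIn 2 T Mz) : IsSylowIn 2 T ⊤ := by
  have WT : W ≤ T := hT.le_of_le_normalizer (pW h) ((W_le h).trans (M0_le h))
    (hT.le.trans (inf_le_right.trans hN))
  have QT : Q ≤ T := hT.le_of_le_normalizer (fun a => ⟨2, Subtype.ext (fourQ h P a.2)⟩) (Q_Mz h P)
    (hT.le.trans ((Mz_le h P).trans inf_le_right))
  have Z2 : ∀ x ∈ T, (∀ y ∈ T, x * y * x⁻¹ = y ∨ x * y * x⁻¹ = y * C.v 1) → x ∈ C.V := by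
    intro x hx k
    have fx : ∀ a ∈ W, C.π (x * a * x⁻¹) = C.π a := fun a ha => by
      rcases k a (WT ha) with e | e <;> rw [e]
      rw [h.π_mul a ha _ (h.vW 1), π_v h, add_zero]
    have nx : ∀ a ∈ W, x * a * x⁻¹ ∈ W := fun a ha => (mem_normalizer_iff.1 (hN (hT.le hx).2) a).1 ha
    have cx : ∀ s, x * C.v s = C.v s * x := fun s => by
      obtain ⟨t, ht⟩ := qq_sm s
      obtain ⟨a, ha, e⟩ := h.π_surj (sm t (vP, 0))
      have e1 := h.sq a ha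
      have e2 := h.sq _ (nx a ha)
      rw [fx a ha, conj_mul, e1, e, ht _ H60.AlT.q_vals.1] at e2
      exact mul_inv_eq_iff_eq_mul.1 e2
    have m := mem_M0 h hN (cx 1) (cx om)
    obtain ⟨n, hn⟩ := hT.isPGroup ⟨x, hx⟩
    have xW := memW h m (O_ext fun y => by
      obtain ⟨a, ha, e⟩ := h.π_surj (y, 0)
      have := congrArg Prod.fst ((act h m ha).symm.trans (fx a ha))
      rw [e] at this
      exact this) (k := n) (congrArg Subtype.val hn)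
    obtain ⟨s, rfl⟩ := (h.π_ker x xW).1 (by
      by_contra n0
      obtain ⟨y, hy⟩ := bq_onto n0 om
      obtain ⟨a, ha, rfl⟩ := h.π_surj y
      have := k a (WT ha)
      rw [h.comm x xW a ha, H60.AlT.bq_comm, hy, mul_assoc, mul_inv_cancel_right, mul_eq_right,
        ← (v_comm h 1 ha).eq, mul_left_inj, ← v_zero h] at this
      rcases this with e | e <;> exact absurd (v_inj' h e) (by decide))
    exact vV h s
  have Z1 : ∀ x ∈ T, x ≠ 1 → (∀ y ∈ T, x * y * x⁻¹ = y) → x = C.v 1 := by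
    intro x hx x1 k
    obtain ⟨a, ha, n⟩ := P.mv
    have e := mul_inv_eq_iff_eq_mul.1 (k a (QT ha))
    rcases V_cases h (Z2 x hx fun y hy => .inl (k y hy)) with l | l | l | l
    · exact absurd l x1
    · exact l
    · exact absurd (l ▸ e).symm n
    · rw [l, mul_assoc, ← cz P ha, ← mul_assoc, ← mul_assoc] at e
      exact absurd (mul_right_cancel e).symm n
  have zT : C.v 1 ∈ T := WT (h.vW 1)
  have NT : normalizer (T : Set G) ≤ Mz := fun g hg => by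
    have n1 : ∀ y ∈ T, g * y * g⁻¹ ∈ T := fun y hy => (mem_normalizer_iff.1 hg y).1 hy
    have n2 : ∀ y ∈ T, g⁻¹ * y * g ∈ T := fun y hy => by
      simpa using (mem_normalizer_iff.1 (inv_mem hg) y).1 hy
    have k1 : g * C.v 1 * g⁻¹ = C.v 1 := Z1 _ (n1 _ zT) (by simpa using z_ne h) fun y hy => by
      calc _ = g * (C.v 1 * (g⁻¹ * y * g)) * (C.v 1)⁻¹ * g⁻¹ := by group
        _ = _ := by rw [← ((mem_Mz h).1 (hT.le (n2 y hy))).1]; group
    refine ⟨mem_centralizer_singleton_iff.2 (mul_inv_eq_iff_eq_mul.1 k1),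
      H8.mem_normalizer_of_conj_smul_le fun x hx => ?_⟩
    rw [mem_conj_smul] at hx
    obtain ⟨s, hs⟩ := mem_V h hx
    have e : x = g * C.v s * g⁻¹ := by rw [hs]; group
    rw [e]
    refine Z2 _ (n1 _ (WT (h.vW s))) fun y hy => ?_
    obtain ⟨a1, a2⟩ := (mem_Mz h).1 (inv_mem (hT.le (n2 y hy)))
    have e2 : g * C.v s * g⁻¹ * y * (g * C.v s * g⁻¹)⁻¹ =
        y * (g * ((g⁻¹ * y * g)⁻¹ * C.v s * (g⁻¹ * y * g)⁻¹⁻¹ * (C.v s)⁻¹) * g⁻¹) := by group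
    rw [e2]
    generalize (g⁻¹ * y * g)⁻¹ = b at a1 a2
    have a1' : b * C.v 1 * b⁻¹ = C.v 1 := by rw [a1]; group
    have c : C.v om * C.v 1 * (C.v om)⁻¹ = C.v 1 := by rw [(v_comm h om (h.vW 1)).eq]; group
    rcases V_cases h (vV h s) with l | l | l | l <;> rw [l]
    · left; group
    · left; rw [a1']; group
    · rcases a2 with k | k <;> rw [k]
      · left; group
      · right; rw [c, k1]
    · rw [← conj_mul (b := b), a1']
      rcases a2 with k | k <;> rw [k]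
      · left; group
      · right
        rw [show C.v om * C.v 1 * C.v 1 * (C.v om * C.v 1)⁻¹ = C.v om * C.v 1 * (C.v om)⁻¹ by group,
          c, k1]
  refine H8.isSylowIn_of_maximal le_top hT.isPGroup fun S hS _ k => ?_
  by_contra n
  have lt := H8.lt_inf_normalizer_of_lt hS (lt_of_le_not_ge k n)
  exact lt.ne' (hT.eq_of_le hS.to_inf_left (inf_le_right.trans NT) lt.le)

end

theorem kg : KGStmt.{u} := by
  intro G _ _ C W Od Q ϖ Ψ h2 h hN P hs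
  refine ⟨P.toQ0, fun g hg => ?_, hs⟩
  by_contra n
  have ev : ∀ {φ : O q6}, φ ∈ kerDS hq6 ↔ dickson hq6 φ = 1 := mem_kerDS_of_two_eq_zero _ rfl
  -- the involution `γ`
  obtain ⟨φ, k1, k2⟩ := trans1 hq6 (by simp) (x := (Ψ g).1 (ϖ (C.v om))) (by simpa using P.v_ne)
    P.v_ne (O_map _ _)
  obtain ⟨g0, hg0, rfl⟩ := hs φ k1
  have hg1 := mul_mem hg0 hg
  have m1 := (mem_Mz h).2 ⟨mem_centralizer_singleton_iff.1 hg1.1, ϖeq P (nQ P hg1 P.vQ) P.vQ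
    (by rw [P.act _ hg1 _ P.vQ, P.Ψ_mul _ hg0 _ hg, O_mul_apply, k2])⟩
  obtain ⟨a, ha, m2⟩ := P.split _ m1.2 (mem_centralizer_singleton_iff.1 hg1.1)
  obtain ⟨γ, γM, γo, γ2, γr, γf, γn⟩ := h.gam _ m2 fun k => n (by
    have := (P.par _ m2).2 k
    rw [P.Ψ_mul _ hg1 _ (Q_Y P ha), Ψ_Q P ha, mul_one, P.Ψ_mul _ hg0 _ hg] at this
    exact (mul_mem_cancel_left k1).1 this)
  have γ1 : γ ≠ 1 := fun k => γo (by rw [k, Φ_one h]; exact one_mem _)
  -- transfer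
  obtain ⟨T, hT, γT⟩ := H8.exists_isSylowIn_ge (p := 2) (Q := zpowers γ) (H := centralizer {C.v 1} ⊓
    normalizer (C.V : Set G)) (IsPGroup.of_card (n := 1) (by
      rw [Nat.card_zpowers, orderOf_eq_prime (p := 2) (by rw [pow_two, γ2]) γ1, pow_one]))
    (zpowers_le.2 (M0_le h γM))
  have TY := hT.le.trans (Mz_le h P)
  have hT' := sylow h hN P hT
  let T0 : Subgroup G :=
    { carrier := {x | x ∈ T ∧ Ψ x ∈ kerDS hq6}
      one_mem' := ⟨one_mem _, by rw [Ψ1 P]; exact one_mem _⟩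
      mul_mem' := fun {a b} ha hb => ⟨mul_mem ha.1 hb.1, by
        rw [P.Ψ_mul _ (TY ha.1) _ (TY hb.1)]; exact mul_mem ha.2 hb.2⟩
      inv_mem' := fun {a} ha => ⟨inv_mem ha.1, by rw [Ψinv P (TY ha.1)]; exact inv_mem ha.2⟩ }
  have γT' := γT (mem_zpowers γ)
  have i2 : T0.relIndex T = 2 := relIndex_eq_two_iff.2 ⟨γ, γT', fun b hb => by
    have o : dickson hq6 (Ψ γ) = -1 :=
      (Int.units_eq_one_or _).resolve_left fun k => γo ((P.par γ γM).1 (ev.2 k))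
    change Xor (b * γ ∈ T ∧ Ψ (b * γ) ∈ _) (b ∈ T ∧ Ψ b ∈ _)
    rw [P.Ψ_mul _ (TY hb) _ (TY γT'), ev, ev, map_mul, o]
    rcases Int.units_eq_one_or (dickson hq6 (Ψ b)) with k | k <;> simp [k, hb, mul_mem hb γT', Xor]⟩
  obtain ⟨x, hx⟩ : ∃ x : G, x * γ * x⁻¹ ∈ T0 := by
    by_contra! k
    obtain ⟨K, -, k, -⟩ := H87.thompson_transfer_involution (H := T)
      (by simpa [Nat.odd_iff] using hT'.not_dvd) i2 (by rw [pow_two, γ2]) k
    exact h2 K k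
  have cγ : IsConj (C.v 1) γ := ((invY h hN P hs (TY hx.1) (by rw [conj_mul, γ2]; group)
    (by simpa using γ1) hx.2).imp (fun k => k.trans (isConj_iff.2 ⟨x⁻¹, by group⟩))
      fun k => k.trans (isConj_iff.2 ⟨x⁻¹, by group⟩)).resolve_right γn
  clear hx x
  -- `γ` is not conjugate to `z`
  obtain ⟨x0, hx0⟩ := isConj_iff.1 cγ.symm
  obtain ⟨x1, hx1, le⟩ := (hT'.mono (K := centralizer {C.v 1}) (hT.le.trans inf_le_left)
    le_top).exists_conj_le (H8.isPGroup_conj_smul ((pW h).to_inf_left (K := centralizer {γ})) x0)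
    (fun y hy => by
      have := mem_centralizer_singleton_iff.1 (mem_conj_smul.1 hy).2
      rw [mem_centralizer_singleton_iff, ← hx0]
      calc _ = x0 * (x0⁻¹ * y * x0 * γ) * x0⁻¹ := by group
        _ = _ := by rw [this]; group)
  rw [H8.conj_smul_conj_smul] at le
  have hx : x1 * x0 * γ * (x1 * x0)⁻¹ = C.v 1 := by
    calc _ = x1 * (x0 * γ * x0⁻¹) * x1⁻¹ := by group
      _ = _ := by rw [hx0, mem_centralizer_singleton_iff.1 hx1]; group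
  generalize x1 * x0 = x at le hx
  have cm : ∀ s, C.f s * C.r 1 * (C.f s)⁻¹ * (C.r 1)⁻¹ = C.v s := fun s => by
    rw [h.comm _ (h.fW s) _ (h.rW 1), h.πf, h.πr, bq_vals.2]; group
  have vW : ∀ s, x * C.v s * x⁻¹ ∈ W := fun s => by
    have m1 := le (conj_mem_conj_smul.2 ⟨h.fW s, mem_centralizer_singleton_iff.2 (γf s).symm⟩)
    have m2 := le (conj_mem_conj_smul.2 ⟨h.rW 1, mem_centralizer_singleton_iff.2 (γr 1).symm⟩)
    have e : x * C.v s * x⁻¹ = x * C.f s * x⁻¹ * (x * C.r 1 * x⁻¹) * (x * C.f s * x⁻¹)⁻¹ *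
        (x * C.r 1 * x⁻¹)⁻¹ := by rw [← cm]; group
    have m3 := comm_M0 h hN (hT.le m1) (hT.le m2)
    have m4 := (P.par _ m3).1 (comm_ev P (TY m1) (TY m2))
    rw [← e] at m3 m4
    have sq : x * C.v s * x⁻¹ * (x * C.v s * x⁻¹) = 1 := by rw [conj_mul, v_sq h]; group
    refine memW h m3 ?_ (k := 1) (by simpa only [pow_one, pow_two] using sq)
    by_contra k
    have s0 : s ≠ 0 := fun e => k (by rw [e, v_zero h, mul_one, mul_inv_cancel, Φ_one h])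
    exact h.noD (((h.vconj s s0).trans (isConj_iff.2 ⟨x, rfl⟩)).trans (invM h m3 sq m4 k).symm)
  have pu : ∀ s, s ≠ 0 → ∃ t n, q4 n = 0 ∧ C.π (x * C.v s * x⁻¹) = sm t (n, 0) := fun s s0 =>
    (cls h (vW s) (by rw [conj_mul, v_sq h]; group)).resolve_right fun k =>
      h.noD (((h.vconj s s0).trans (isConj_iff.2 ⟨x, rfl⟩)).trans k.symm)
  obtain ⟨m, hm, pm⟩ : ∃ m ∈ C.M0 W, (∃ t, C.π (m * (x * C.v 1 * x⁻¹) * m⁻¹) = sm t (vE, 0)) ∧
      ∃ t, C.π (m * (x * C.v om * x⁻¹) * m⁻¹) = sm t (vE, 0) := by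
    obtain ⟨t1, n1, q1, e1⟩ := pu 1 one_ne_zero
    obtain ⟨t2, n2, q2, e2⟩ := pu om (by decide)
    have b0 : bq (sm t1 (n1, 0)) (sm t2 (n2, 0)) = 0 := by
      have := h.comm _ (vW 1) _ (vW om)
      rw [conj_mul, conj_mul, (v_comm h 1 (h.vW om)).eq, eq_comm, mul_eq_right, e1, e2] at this
      exact h.v_inj _ this
    have z0 : ∀ n : N4, sm 0 (n, 0) = 0 := fun n => by ext <;> simp [sm]
    have n0 : ∀ {t : F4} {n : N4}, sm t (n, 0) ≠ 0 → n ≠ 0 := fun {t n} k e =>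
      k (by rw [e]; ext <;> simp [sm])
    by_cases c1 : sm t1 (n1, 0) = 0
    · by_cases c2 : sm t2 (n2, 0) = 0
      · exact ⟨1, one_mem _, ⟨0, by simpa [z0, c1] using e1⟩, 0, by simpa [z0, c2] using e2⟩
      · obtain ⟨m, hm, k⟩ := toE h (n0 c2) q2
        exact ⟨m, hm, ⟨0, k _ (vW 1) 0 (by rw [e1, c1, z0])⟩, _, k _ (vW om) _ e2⟩
    · obtain ⟨t, e⟩ := same_pt n1 n2 q1 q2 t1 t2 b0 c1
      obtain ⟨m, hm, k⟩ := toE h (n0 c1) q1
      exact ⟨m, hm, ⟨_, k _ (vW 1) _ e1⟩, _, k _ (vW om) _ (e2.trans e)⟩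
  have back : ∀ a ∈ W, (∀ t, bq (C.π a) (sm t (vE, 0)) = 0) →
      (m * x)⁻¹ * a * (m * x) ∈ C.M0 W := fun a ha k => by
    have : ∀ s, (∃ t, C.π (m * (x * C.v s * x⁻¹) * m⁻¹) = sm t (vE, 0)) →
        (m * x)⁻¹ * a * (m * x) * C.v s = C.v s * ((m * x)⁻¹ * a * (m * x)) := fun s ⟨t, e⟩ => by
      have := h.comm a ha _ (nW h hm (vW s))
      rw [e, k, v_zero h, one_mul] at this
      calc _ = (m * x)⁻¹ * (a * (m * (x * C.v s * x⁻¹) * m⁻¹)) * (m * x) := by group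
        _ = _ := by rw [this]; group
    exact mem_M0 h hN (this 1 pm.1) (this om pm.2)
  have b1 := back _ (h.fW 1) fun t => by rw [h.πf]; exact (bq_vals.1 1 t).1
  have b2 := back _ (h.rW 1) fun t => by rw [h.πr]; exact (bq_vals.1 1 t).2
  refine γo ((P.par γ γM).1 ?_)
  have := comm_ev P (Mz_le h P (M0_le h b1)) (Mz_le h P (M0_le h b2))
  convert this using 2
  calc γ = x⁻¹ * (m⁻¹ * (m * C.v 1 * m⁻¹) * m) * x := by rw [← hx]; group
    _ = x⁻¹ * (m⁻¹ * C.v 1 * m) * x := by rw [cv h hm]; group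
    _ = _ := by rw [← cm]; group

end Cfsg.Agent.H42.KG
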