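import Cfsg.Agent.H42.ALDefs

/-!
# A standard subgroup `L₃(4)` whose centralizer has `2`-rank one (project AL): interfaces

The proofs on paper are in `stubs/notes/h42_al.md`, part II.
-/

set_option autoImplicit false

namespace Cfsg.Agent.H42.AL

open Cfsg Subgroup Cfsg.Agent.H28
open Cfsg.Agent.H42.AS (om)
open scoped commutatorElement

universe u

variable {G : Type u} [Group G]

/-- `C_K(t) = ⟨t⟩ × O` and `t ∼ t v`. -/
structure RP (D : RD G) (t : G) (O : Subgroup G) : Prop where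
  std : IsStandardSubgroup D.A
  tK : t ∈ D.K
  t1 : t ≠ 1
  t2 : t * t = 1
  OK : O ≤ D.K
  oddO : Odd (Nat.card O)
  Ot : ∀ o ∈ O, o * t = t * o
  cKt : ∀ k ∈ D.K, k * t = t * k → k ∈ O ∨ t * k ∈ O
  ct : ∀ g, g * t = t * g → g ∈ D.N
  mov : ∃ g ∈ normalizer (D.V : Set G), g * t * g⁻¹ = t * D.xv 1
  noD : ∀ g, g * t * g⁻¹ ∉ D.A
  rk5 : ∀ F : Subgroup G, t ∈ F → (∀ x ∈ F, x * x = 1) → Nat.card F = 32 → ∃ a ∈ D.A,
    (∀ x, a * x * a⁻¹ ∈ F ↔ x ∈ zpowers t ⊔ D.E1) ∨ (∀ x, a * x * a⁻¹ ∈ F ↔ x ∈ zpowers t ⊔ D.E2)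

def RPStmt : Prop :=
  ∀ (G : Type u) [Group G] [Finite G] (D : RD G) (t : G), D.Fa → IsStandardSubgroup D.A →
    PRankLE 2 1 D.K → t ∈ D.K → orderOf t = 2 →
    (∃ g, g * t * g⁻¹ ≠ t ∧ g * t * g⁻¹ * t = t * (g * t * g⁻¹)) → ∃ O, RP D t O

/-- The double of `V`. -/
structure RA (D : RD G) (t : G) (O : Subgroup G) (f : F4 → G) (c : F4) : Prop where
  f0 : f 0 = 1
  fU : ∀ x, ∀ p ∈ D.U, f x * p = p * f x
  ft : ∀ x, f x * t = t * D.xv x * f x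
  ff : ∀ x y, f x * f y = f y * f x
  fsq : ∀ x, f x * f x = D.xv (c * x)
  f3 : f 1 * f om * f (om ^ 2) = 1
  rf : ∀ x, D.rho * f x = f (om ^ 2 * x) * D.rho
  fO : ∀ o ∈ O, ∀ x, o * f x = f x * o

def RAStmt : Prop :=
  ∀ (G : Type u) [Group G] [Finite G] (D : RD G) (t : G) (O : Subgroup G), D.Fa → RP D t O →
    ∃ f c, RA D t O f c

/-- A pair `(x, x')` stands for `x + ε x'` in `R = F₄[ε]`, `ε² = ε + c₀`. -/
def rm (c0 : F4) (a b : F4 × F4) : F4 × F4 :=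
  (a.1 * b.1 + c0 * a.2 * b.2, a.1 * b.2 + a.2 * b.1 + a.2 * b.2)

def sc (l : F4) (a : F4 × F4) : F4 × F4 := (l * a.1, l * a.2)

/-- The map `ε ↦ ε + a₀`, semilinear if `fr`. -/
def tw (fr : Bool) (a0 : F4) (x : F4 × F4) : F4 × F4 := (pw fr x.1 + a0 * pw fr x.2, pw fr x.2)

/-- The doubled root elements; the double of `X_b` is `Ee D.swap`. -/
def Ee (D : RD G) (f : F4 → G) (a : F4 × F4) : G := D.xe a.1 * sE D f a.2

def Vv (D : RD G) (f : F4 → G) (a : F4 × F4) : G := D.xv a.1 * f a.2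

/-- The double of `U`. -/
def Us (D : RD G) (f : F4 → G) : Subgroup G :=
  closure (Set.range (Ee D f) ∪ Set.range (Ee D.swap f) ∪ Set.range (Vv D f))

structure RQ (D : RD G) (t : G) (O : Subgroup G) (f : F4 → G) (c0 : F4) : Prop where
  EE : ∀ a b, Ee D f (a + b) = Ee D f a * Ee D f b
  BB : ∀ a b, Ee D.swap f (a + b) = Ee D.swap f a * Ee D.swap f b
  VV : ∀ a b, Vv D f (a + b) = Vv D f a * Vv D f b
  EV : ∀ a c, Ee D f a * Vv D f c = Vv D f c * Ee D f a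
  BV : ∀ a c, Ee D.swap f a * Vv D f c = Vv D f c * Ee D.swap f a
  BE : ∀ a b, Ee D.swap f b * Ee D f a = Ee D f a * Vv D f (rm c0 a b) * Ee D.swap f b
  nf : ∀ a b c, Ee D f a * Ee D.swap f b * Vv D f c = 1 → a = 0 ∧ b = 0 ∧ c = 0
  unf : ∀ y ∈ Us D f, ∃ a b c, y = Ee D f a * Ee D.swap f b * Vv D f c
  card : Nat.card (Us D f) = 4096
  tE : ∀ a, t * Ee D f a = Ee D f (tw false 1 a) * t
  tB : ∀ a, t * Ee D.swap f a = Ee D.swap f (tw false 1 a) * t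
  tV : ∀ a, t * Vv D f a = Vv D f (tw false 1 a) * t
  rE : ∀ a, D.rho * Ee D f a = Ee D f (sc om a) * D.rho
  rB : ∀ a, D.rho * Ee D.swap f a = Ee D.swap f (sc om a) * D.rho
  rV : ∀ a, D.rho * Vv D f a = Vv D f (sc (om ^ 2) a) * D.rho
  OU : ∀ o ∈ O, ∀ y ∈ Us D f, o * y = y * o
  inv : ∀ y ∈ Us D f, t * y * (t * y) = 1 → ∃ w ∈ Us D f, w * t * w⁻¹ = t * y
  charV : ∀ y, (∃ k : ℕ, y ^ 2 ^ k = 1) → (∀ u ∈ D.U, y * u = u * y) →
    (∃ x, y * t * y⁻¹ = t * D.xv x) → ∃ c, y = Vv D f c ∨ y = t * Vv D f c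
  charU : ∀ y, (∃ k : ℕ, y ^ 2 ^ k = 1) → (∀ c, y * Vv D f c = Vv D f c * y) →
    (∀ u ∈ D.U, ∃ c, ⁅y, u⁆ = Vv D f c) → (∃ u ∈ D.U, ∃ c, y * t * y⁻¹ = t * u * Vv D f c) →
    y ∈ Us D f

def RQStmt : Prop :=
  ∀ (G : Type u) [Group G] [Finite G] (D : RD G) (t : G) (O : Subgroup G) (f : F4 → G) (c : F4),
    D.Fa → RP D t O → RA D t O f c → ∃ c0, RQ D t O f c0

/-- The action on `Us` of an element of `C(t)` in standard form (`D'` is `D` or `D.swap`). -/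
structure Ac (D D' : RD G) (f : F4 → G) (c0 : F4) (g : G) (l m : F4) (fr : Bool) (a0 : F4) :
    Prop where
  st : D.St D' g l m fr
  ring : a0 ^ 2 + a0 = c0 + pw fr c0
  e : ∀ x, g * Ee D f x * g⁻¹ = Ee D' f (sc l (tw fr a0 x))
  b : ∀ x, g * Ee D.swap f x * g⁻¹ = Ee D'.swap f (sc m (tw fr a0 x))
  v : ∀ x, g * Vv D f x * g⁻¹ = Vv D f (sc (l * m) (tw fr a0 x))

/-- Automorphisms act on the double; `t` is not a commutator; conjugates of `t` centralizing `Vs`. -/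
structure RS (D : RD G) (t : G) (f : F4 → G) (c0 : F4) : Prop where
  act : ∀ D', D' = D ∨ D' = D.swap → ∀ g l m fr, g * t = t * g → D.St D' g l m fr →
    ∃ a0, Ac D D' f c0 g l m fr a0
  spl : ∀ z ∈ ⁅centralizer ({t} : Set G), centralizer ({t} : Set G)⁆,
    (∃ k : ℕ, z ^ 2 ^ k = 1) → z ∈ D.A
  noU : ∀ x ∈ Us D f, ¬ IsConj t x
  cen : ∀ x, IsConj t x → (∀ c, x * Vv D f c = Vv D f c * x) →
    ∀ y ∈ Us D f, y * x = x * y → ∃ c, y = Vv D f c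

def RSStmt : Prop :=
  ∀ (G : Type u) [Group G] [Finite G] (D : RD G) (t : G) (O : Subgroup G) (f : F4 → G)
    (c c0 : F4), D.Fa → RP D t O → RA D t O f c → RQ D t O f c0 → RS D t f c0

/-- A semilinear involution that fixes the idempotents of `R` is not conjugate to `t`. -/
def Pure (D : RD G) (t : G) (f : F4 → G) (c0 : F4) : Prop :=
  ∀ D', D' = D ∨ D' = D.swap → ∀ g l m, g * t = t * g → g * g = 1 →
    Ac D D' f c0 g l m true c0 → ¬ IsConj t g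

/-- Fusion of `t` with `t γ` takes place in `N(Us)`. -/
def Fus (D : RD G) (t : G) (f : F4 → G) (c0 : F4) : Prop :=
  ∀ g l m, g * t = t * g → g * g = 1 → Ac D D.swap f c0 g l m false 0 → IsConj t (t * g) →
    ∃ h ∈ normalizer (Us D f : Set G), h * t * h⁻¹ = t * g

def PureStmt : Prop :=
  ∀ (G : Type u) [Group G] [Finite G] (D : RD G) (t : G) (O : Subgroup G) (f : F4 → G)
    (c c0 : F4), D.Fa → RP D t O → RA D t O f c → RQ D t O f c0 → RS D t f c0 → Pure D t f c0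

def FusStmt : Prop :=
  ∀ (G : Type u) [Group G] [Finite G] (D : RD G) (t : G) (O : Subgroup G) (f : F4 → G)
    (c c0 : F4), D.Fa → RP D t O → RA D t O f c → RQ D t O f c0 → RS D t f c0 → Fus D t f c0

/-- A Sylow `2`-subgroup `Y` of the group of standard-form elements of `C(t)`. -/
structure RY (D : RD G) (t : G) (Y : Subgroup G) : Prop where
  tY : t ∈ Y
  two : IsPGroup 2 Y
  ct : ∀ g ∈ Y, g * t = t * g
  st : ∀ g ∈ Y, ∃ l m fr, D.St D g l m fr ∨ D.St D.swap g l m fr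
  triv : ∀ g ∈ Y, ∀ l m, D.St D g l m false → g = 1 ∨ g = t
  syl : ¬ 128 * Nat.card Y ∣ Nat.card (centralizer ({t} : Set G))

def RYStmt : Prop :=
  ∀ (G : Type u) [Group G] [Finite G] (D : RD G) (t : G) (O : Subgroup G), D.Fa → RP D t O →
    ∃ Y, RY D t Y

/-- The exceptional configuration: `Y = ⟨t, γ, φ⟩` elementary, all of `t ⟨γ, φ⟩` conjugate. -/
structure Bad (D : RD G) (t : G) (f : F4 → G) (c0 : F4) (Y : Subgroup G) (γ φ : G) : Prop where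
  γY : γ ∈ Y
  φY : φ ∈ Y
  γ2 : γ * γ = 1
  φ2 : φ * φ = 1
  γφ : γ * φ = φ * γ
  γa : ∃ l m, Ac D D.swap f c0 γ l m false 0
  φa : ∃ l m, Ac D D f c0 φ l m true c0
  cγ : IsConj t (t * γ)

/-- Transfer into `Us Y`. -/
def REndStmt : Prop :=
  ∀ (G : Type u) [Group G] [Finite G] (D : RD G) (t : G) (O Y : Subgroup G) (f : F4 → G)
    (c c0 : F4), D.Fa → RP D t O → RA D t O f c → RQ D t O f c0 → RS D t f c0 → Pure D t f c0 →
    RY D t Y → (∃ M : Subgroup G, M.index = 2) ∨ ∃ γ φ, Bad D t f c0 Y γ φ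

/-- Transfer into `Us Y ⟨h⟩`. -/
def RBadStmt : Prop :=
  ∀ (G : Type u) [Group G] [Finite G] (D : RD G) (t : G) (O Y : Subgroup G) (f : F4 → G)
    (c c0 : F4) (γ φ : G), D.Fa → RP D t O → RA D t O f c → RQ D t O f c0 → RS D t f c0 →
    Pure D t f c0 → Fus D t f c0 → RY D t Y → Bad D t f c0 Y γ φ → ∃ M : Subgroup G, M.index = 2

end Cfsg.Agent.H42.AL
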