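import Cfsg.Agent.H42.LTEU
import Cfsg.Agent.H42.LTO1
import Cfsg.Agent.H93.LT3Defs
import Cfsg.Agent.S5057

/-! Identification of the component: `Id7Stmt`, `IdA6Stmt`. -/

set_option autoImplicit false
set_option linter.unusedSectionVars false

namespace Cfsg.Agent.H42.LT

open Subgroup Cfsg.Agent.H85 Cfsg.Agent.H93.LT Cfsg.Agent.H3.LTB

universe u

variable {G : Type u} [Group G]

/-- a dihedral group of order `8` and an element of order divisible by `3` -/
theorem dvd24 [Finite G] {F : Subgroup G} {a b z r : G} (aa : a * a = 1) (bb : b * b = 1)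
    (zz : z * z = 1) (z1 : z ≠ 1) (ab : cn a b = a * z) (za : Commute z a) (zb : Commute z b)
    (zr : cn z r = a) (ar : cn a r = a * z) (ha : a ∈ F) (hb : b ∈ F) (hr : r ∈ F) :
    24 ∣ Nat.card F := by
  have hz : z ∈ F := (mul_mem_cancel_left ha).1 (ab ▸ cn_mem (le_normalizer hb) ha)
  have nab : ¬ Commute a b := fun c => z1 (by simpa [cn_comm c] using ab)
  have o : orderOf z = 2 := orderOf_eq_prime (by rw [pow_two, zz]) z1
  have cz : ∀ {v}, Commute z v → ∀ x ∈ zpowers z, Commute x v := by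
    rintro v c _ ⟨n, rfl⟩; exact c.zpow_left n
  have na : a ∈ normalizer (zpowers z : Set G) := centralizer_le_normalizer _ fun x hx => cz za x hx
  have c4 : Nat.card (zpowers z ⊔ zpowers a : Subgroup G) = 4 := by
    rw [card_sup_inv na aa fun k => nab (cz zb _ k), Nat.card_zpowers, o]
  have c8 : Nat.card (zpowers z ⊔ zpowers a ⊔ zpowers b : Subgroup G) = 8 := by
    rw [card_sup_inv (N_sup (fun x hx => mem_sup_left ((cn_comm (cz zb x hx)).symm ▸ hx))
      (ab ▸ mul_mem (mem_sup_right (mem_zpowers _)) (mem_sup_left (mem_zpowers _)))) bb ?_, c4]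
    intro k
    rcases mem_sup_inv na aa k with k | k
    · exact nab (cz za _ k).symm
    · exact nab (Commute.symm (by simpa using (cz za _ k).mul_left (Commute.refl a).inv_left))
  have h8 : 8 ∣ Nat.card F := c8 ▸ card_dvd_of_le (sup_le (sup_le (zpowers_le_of_mem hz)
    (zpowers_le_of_mem ha)) (zpowers_le_of_mem hb))
  have r3 : cn z (r ^ 3) = z := by
    rw [pow_succ, pow_two, cn_mul, cn_mul, zr, ar, cn_mul', ar, zr, mul_assoc, za.eq, ← mul_assoc, aa,
      one_mul]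
  have h3 : 3 ∣ orderOf r := by
    by_contra k
    have : r ∈ centralizer {z} := mem_of_pow_mem_of_coprime
      ((Nat.coprime_comm.1 ((Nat.Prime.coprime_iff_not_dvd Nat.prime_three).2 k)))
      (mem_centralizer_singleton_iff.2 (comm_of_cn r3).symm)
    have e : z = a := (cn_comm (mem_centralizer_singleton_iff.1 this).symm).symm.trans zr
    exact nab (e ▸ zb)
  exact Nat.Coprime.mul_dvd_of_dvd_of_dvd (by decide : Nat.Coprime 8 3) h8
    (h3.trans (orderOf_dvd_natCard _ hr))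

theorem abs7 [Finite G] {K : Subgroup G} {f a b z r s : G} (aa : a * a = 1) (bb : b * b = 1)
    (zz : z * z = 1) (z1 : z ≠ 1) (ab : cn a b = a * z) (za : Commute z a) (zb : Commute z b)
    (fa : Commute f a) (fb : Commute f b) (rf : Commute r f) (sf : Commute s (f * z))
    (zr : cn z r = a) (ar : cn a r = a * z) (zs : cn z s = b) (bs : cn b s = b * z)
    (ha : a ∈ K) (hb : b ∈ K) (hr : r ∈ K) (hs : s ∈ K) : Nat.card K ≠ 168 := by
  intro hK
  let _ : MulAction K G := MulAction.compHom G (MulAut.conj.comp K.subtype)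
  have sm : ∀ (y : K) (q : G), y • q = y * q * y⁻¹ := fun _ _ => rfl
  have st : ∀ {v : G} (hv : v ∈ K), Commute f v → v ∈ (MulAction.stabilizer K f).map K.subtype :=
    fun hv c => ⟨⟨_, hv⟩, by
      rw [SetLike.mem_coe, MulAction.mem_stabilizer_iff, sm]; simp [← c.eq], rfl⟩
  have h24 := dvd24 aa bb zz z1 ab za zb zr ar (st ha fa) (st hb fb) (st hr rf.symm)
  rw [card_map_of_injective K.subtype_injective] at h24
  have h1 := (MulAction.stabilizer K f).index_mul_card
  rw [MulAction.index_stabilizer, hK] at h1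
  have h7 : (MulAction.orbit K f).ncard ≤ 7 := by
    obtain ⟨c, e⟩ := h24
    have := Nat.card_pos (α := MulAction.stabilizer K f)
    rw [e] at h1 this
    by_contra k
    have : 8 * (24 * 1) ≤ (MulAction.orbit K f).ncard * (24 * c) :=
      Nat.mul_le_mul (by omega) (by omega)
    omega
  have fz : Commute f z := by
    have : z = a⁻¹ * cn a b := by rw [ab, inv_mul_cancel_left]
    rw [this]; exact fa.inv_right.mul_right ((fb.inv_right.mul_right fa).mul_right fb)
  have a1 : a ≠ 1 := fun e => z1 (cn_one (zr.trans e))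
  have az1 : a * z ≠ 1 := fun e => a1 (cn_one (ar.trans e))
  have zna : z ≠ a := fun e => az1 (by rw [← e, zz])
  have azr : cn (a * z) r = z := by rw [cn_mul', ar, zr, mul_assoc, za.eq, ← mul_assoc, aa, one_mul]
  have azb : cn (a * z) b = a := by rw [cn_mul', ab, cn_comm zb, mul_assoc, zz, mul_one]
  have fs : cn f s = f * (z * b) := by
    nth_rw 1 [← mul_one f]
    rw [← zz, ← mul_assoc, cn_mul', cn_comm sf.symm, zs, mul_assoc]
  have fss : cn (f * (z * b)) s = f * b := by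
    rw [← mul_assoc, cn_mul', cn_comm sf.symm, bs, mul_assoc, zb.symm.eq, ← mul_assoc z, zz, one_mul]
  have fr : ∀ v, cn (f * v) r = f * cn v r := fun v => by rw [cn_mul', cn_comm rf.symm]
  have orb : ∀ {w l : G}, l ∈ K → w ∈ MulAction.orbit K f → cn w l ∈ MulAction.orbit K f :=
    fun {w l} hl hw => by
      have := MulAction.smul_mem_orbit_smul (⟨l, hl⟩⁻¹ : K) ⟨l, hl⟩ w
      obtain ⟨y, rfl⟩ := hw
      exact ⟨⟨l, hl⟩⁻¹ * y, by simp [sm, cn, mul_assoc]⟩
  have o1 := MulAction.mem_orbit_self (M := K) f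
  have o2 := fs ▸ orb hs o1
  have o3 := fss ▸ orb hs o2
  have o4 := fr _ ▸ orb hr o2
  have o5 := fr _ ▸ orb hr o3
  have o6 := fr _ ▸ orb hr o4
  have o7 := fr _ ▸ orb hr o5
  have o8 := orb (inv_mem hs) o5
  -- the action on `z` and `a`
  have zf : ∀ v, cn z (f * v) = cn z v := fun v => by rw [cn_mul, cn_comm fz.symm]
  have af : ∀ v, cn a (f * v) = cn a v := fun v => by rw [cn_mul, cn_comm fa.symm]
  have act : ∀ v, cn z v = z → cn a v = a * z → (cn z (cn v r) = a * z ∧ cn a (cn v r) = a) ∧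
      cn z (cn (cn v r) r) = a ∧ cn a (cn (cn v r) r) = z := fun v e1 e2 => by
    have e3 : cn (a * z) v = a := by rw [cn_mul', e1, e2, mul_assoc, zz, mul_one]
    have e4 : cn z (cn v r) = a * z := by nth_rw 1 [← azr]; rw [cn_cn, e3, ar]
    have e5 : cn a (cn v r) = a := by nth_rw 1 [← zr]; rw [cn_cn, e1, zr]
    refine ⟨⟨e4, e5⟩, ?_, ?_⟩
    · have e6 : cn (a * z) (cn v r) = z := by rw [cn_mul', e4, e5, ← mul_assoc, aa, one_mul]
      nth_rw 1 [← azr]; rw [cn_cn, e6, zr]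
    · nth_rw 1 [← zr]; rw [cn_cn, e4, azr]
  have p2 : cn z (z * b) = z := cn_comm ((Commute.refl z).mul_right zb)
  have q2 : cn a (z * b) = a * z := by rw [cn_mul, cn_comm za.symm, ab]
  obtain ⟨⟨p4, q4⟩, p6, q6⟩ := act _ p2 q2
  obtain ⟨⟨p5, q5⟩, p7, q7⟩ := act _ (cn_comm zb) ab
  have n8 : ¬ Commute f (cn (f * cn b r) s⁻¹) := fun c => by
    have c1 := comm_cn c s
    rw [← cn_mul, inv_mul_cancel, fs] at c1
    rw [show cn (f * cn b r) 1 = f * cn b r by simp [cn]] at c1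
    have c2 := congrArg (cn z) c1.eq
    rw [cn_mul z (f * (z * b)), cn_mul z (f * cn b r), zf, zf, p2, zf, p5, cn_mul' a z, zf, af, p2, q2,
      mul_assoc, zz, mul_one] at c2
    exact z1 (by simpa using c2)
  have cf : ∀ {v}, Commute f v → Commute f (cn v r) := fun c => by
    have := comm_cn c r; rwa [cn_comm rf.symm] at this
  have ne8 : ∀ {v}, Commute f v → f * v ≠ cn (f * cn b r) s⁻¹ := fun c e =>
    n8 (e ▸ (Commute.refl f).mul_right c)
  have nz : ∀ {v w x y}, cn z v = x → cn z w = y → x ≠ y → v ≠ w := fun e1 e2 n e =>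
    n (e1.symm.trans (e ▸ e2))
  have na : ∀ {v w x y}, cn a v = x → cn a w = y → x ≠ y → v ≠ w := fun e1 e2 n e =>
    n (e1.symm.trans (e ▸ e2))
  have p1 : cn z 1 = z := by simp [cn]
  have q1 : cn a 1 = a := by simp [cn]
  have d1 : a ≠ a * z := by simpa using z1
  have d2 : z ≠ a * z := by simpa using a1
  have d3 : z * b ≠ b := by simpa using z1
  have p3 := cn_comm zb
  have nd : [1, z * b, b, cn (z * b) r, cn b r, cn (cn (z * b) r) r, cn (cn b r) r].Nodup := by
    simp only [List.nodup_cons, List.mem_cons, List.not_mem_nil, or_false, not_or, List.nodup_nil,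
      not_false_eq_true, and_true]
    exact ⟨⟨na q1 q2 d1, na q1 ab d1, nz p1 p4 d2, nz p1 p5 d2, nz p1 p6 zna, nz p1 p7 zna⟩,
      ⟨d3, nz p2 p4 d2, nz p2 p5 d2, nz p2 p6 zna, nz p2 p7 zna⟩,
      ⟨nz p3 p4 d2, nz p3 p5 d2, nz p3 p6 zna, nz p3 p7 zna⟩,
      ⟨fun e => d3 (cn_inj e), nz p4 p6 d1.symm, nz p4 p7 d1.symm⟩,
      ⟨nz p5 p6 d1.symm, nz p5 p7 d1.symm⟩, fun e => d3 (cn_inj (cn_inj e))⟩
  have nd2 : (cn (f * cn b r) s⁻¹ :: [1, z * b, b, cn (z * b) r, cn b r, cn (cn (z * b) r) r,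
      cn (cn b r) r].map (f * ·)).Nodup := by
    refine List.nodup_cons.2 ⟨?_, nd.map (mul_right_injective f)⟩
    have c := fz.mul_right fb
    simp only [List.map_cons, List.map_nil, List.mem_cons, List.not_mem_nil, or_false, not_or]
    exact ⟨(ne8 (Commute.one_right f)).symm, (ne8 c).symm, (ne8 fb).symm, (ne8 (cf c)).symm,
      (ne8 (cf fb)).symm, (ne8 (cf (cf c))).symm, (ne8 (cf (cf fb))).symm⟩
  classical
  have h8 := List.toFinset_card_of_nodup nd2
  have : ((cn (f * cn b r) s⁻¹ :: [1, z * b, b, cn (z * b) r, cn b r, cn (cn (z * b) r) r,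
      cn (cn b r) r].map (f * ·)).toFinset : Set G) ⊆ MulAction.orbit K f := by
    intro x hx
    simp only [List.map_cons, List.map_nil, List.coe_toFinset, Set.mem_ofPred_eq, List.mem_cons,
      List.not_mem_nil, or_false, mul_one] at hx
    rcases hx with rfl | rfl | rfl | rfl | rfl | rfl | rfl | rfl <;> assumption
  have h9 := Set.ncard_le_ncard this (Set.toFinite _)
  rw [Set.ncard_coe_finset, h8] at h9
  simp at h9
  omega

theorem hm1 {K : Subgroup G} {L : Type*} [Group L] (π : K →* L) {x y w : K} (e : (x : G) * y = w) :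
    π x * π y = π w := (map_mul π x y).symm.trans (congrArg π (Subtype.ext e))

theorem hm0 {K : Subgroup G} {L : Type*} [Group L] (π : K →* L) {x : K} (e : (x : G) * x = 1) :
    π x * π x = 1 := (hm1 π (w := 1) e).trans (map_one π)

theorem hm2 {K : Subgroup G} {L : Type*} [Group L] (π : K →* L) {x y w : K} (e : cn (x : G) y = w) :
    cn (π x) (π y) = π w := by
  rw [← show cn x y = w from Subtype.ext e]; simp [cn]

theorem hm3 {K : Subgroup G} {L : Type*} [Group L] (π : K →* L) {x y : K} (e : Commute (x : G) y) :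
    Commute (π x) (π y) := Commute.map (show x * y = y * x from Subtype.ext e) π

variable [Finite G] {h : H93.LT.Top G} {k : Hyp G}

theorem fit_t (e : Fit h k) : k.t = h.t := congrArg Base.t e.base
theorem fit_X (e : Fit h k) : k.X = h.X := congrArg Base.X e.base

theorem memC (e : Fit h k) {c : G} (hc : Commute k.t c) : c ∈ centralizer ({h.t} : Set G) :=
  fit_t e ▸ ct.2 hc

theorem tK (e : Fit h k) {x : G} (hx : x ∈ h.K) : Commute k.t x := ct.1 (fit_t e ▸ h.KC hx)

theorem fit_z (e : Fit h k) : k.z ∈ h.K := z_mem k e.a e.b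

theorem inv_nO {x : G} (hx : x ∈ h.O) (xx : x * x = 1) : x = 1 :=
  eq_one_of (ea_p (A := zpowers x) (by
    rintro _ ⟨n, rfl⟩; rw [← Commute.mul_zpow (Commute.refl x), xx, one_zpow])) (mem_zpowers x)
    (odd_order h.Oo hx)

/-- `f` and `f z` do not induce inner automorphisms on `K / O` -/
theorem not_inner (e : Fit h k) {c l : G} (hc : c = k.f ∨ c = k.f * k.z) (hl : l ∈ h.K)
    (H : ∀ x ∈ h.K, (cn x l)⁻¹ * cn x c ∈ h.O) : False := by
  have tc : Commute k.t c := by
    rcases hc with rfl | rfl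
    exacts [k.tf, k.tf.mul_right (tz k)]
  have tl := tK e hl
  have := h.cen (c * l⁻¹) (memC e (tc.mul_right tl.inv_right)) fun x hx => by
    have := cn_mem (h.On (memC e tl.inv_right)) (inv_mem (H x hx))
    convert this using 1
    simp only [cn]; group
  have key : c ∈ k.L ∨ k.t * c ∈ k.L := by
    rcases mem_sup_inv (h.On (memC e (Commute.refl _) |> (fit_t e ▸ ·))) h.tt this with m | m
    · exact Or.inl (e.le ((mul_mem_cancel_right (inv_mem hl)).1 (h.OK m)))
    · rw [← fit_t e, ← (tc.mul_right tl.inv_right).eq, ← mul_assoc] at m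
      exact Or.inr (e.le ((mul_mem_cancel_right (inv_mem hl)).1 (h.OK m)))
  rcases hc with rfl | rfl
  · exact key.elim k.fL k.tfL
  · rw [← mul_assoc, mul_mem_cancel_right (zL k), mul_mem_cancel_right (zL k)] at key
    exact key.elim k.fL k.tfL

theorem id7 : Id7Stmt.{u} := by
  intro G _ _ h k e hK
  set C := centralizer ({h.t} : Set G)
  have hN : (h.O.subgroupOf C).Normal :=
    (normal_subgroupOf_iff_le_normalizer (h.OK.trans h.KC)).2 h.On
  let π := QuotientGroup.mk' (h.O.subgroupOf C)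
  let el : ∀ {x : G}, Commute k.t x → C := fun c => ⟨_, memC e c⟩
  have m1 := @hm1 _ _ _ _ _ π
  have m2 := @hm2 _ _ _ _ _ π
  have m3 := @hm3 _ _ _ _ _ π
  have mem : ∀ {x : C}, (x : G) ∈ h.K → π x ∈ (h.K.subgroupOf C).map π := fun hx => ⟨_, hx, rfl⟩
  refine abs7 (K := (h.K.subgroupOf C).map π) (f := π (el k.tf)) (a := π (el k.ta))
    (b := π (el k.tb)) (z := π (el (tz k))) (r := π (el k.rt.symm)) (s := π (el k.st.symm))
    ((m1 (w := 1) k.aa).trans (map_one π)) ((m1 (w := 1) k.bb).trans (map_one π))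
    ((m1 (w := 1) k.zz).trans (map_one π))
    (fun l => k.z1 (inv_nO (h := h) ((QuotientGroup.eq_one_iff (el (tz k))).1 l) k.zz))
    ((m2 (w := el k.ta * el (tz k)) k.ab).trans (map_mul π _ _)) (m3 k.za) (m3 k.zb) (m3 k.fa)
    (m3 k.fb) (m3 k.rf) (map_mul π _ _ ▸ m3 (y := el k.tf * el (tz k)) k.sf) (m2 k.zr)
    ((m2 (w := el k.ta * el (tz k)) k.ar).trans (map_mul π _ _)) (m2 k.zs)
    ((m2 (w := el k.tb * el (tz k)) k.bs).trans (map_mul π _ _)) (mem e.a) (mem e.b) (mem e.r)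
    (mem e.s) ?_
  have h1 := (π.subgroupMap (h.K.subgroupOf C)).ker.card_mul_index
  rw [index_ker, MonoidHom.range_eq_top.2 (π.subgroupMap_surjective _), card_top,
    Nat.card_congr (subgroupOfEquivOfLe h.KC).toEquiv, hK, ker_subgroupMap, QuotientGroup.ker_mk',
    Nat.card_congr (subgroupOfEquivOfLe (show h.O.subgroupOf C ≤ h.K.subgroupOf C from
      comap_mono h.OK)).toEquiv,
    Nat.card_congr (subgroupOfEquivOfLe (h.OK.trans h.KC)).toEquiv, mul_comm] at h1
  exact Nat.eq_of_mul_eq_mul_right Nat.card_pos h1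

/-- the automorphism of `K / O` induced by an element of `C(t)` -/
theorem exists_aut {L : Type} [Group L] {φ : h.K →* L} (hs : Function.Surjective φ)
    (hk : φ.ker = h.O.subgroupOf h.K) {c : G} (hc : c ∈ centralizer ({h.t} : Set G)) :
    ∃ α : MulAut L, ∀ x y : h.K, cn (x : G) c = y → α (φ x) = φ y := by
  let ψ : h.K ≃* h.K := (h.K.normalizerMonoidHom ⟨c, h.Kn hc⟩)⁻¹
  have eψ : ∀ x : h.K, (ψ x : G) = cn (x : G) c := fun x => by
    simp only [ψ, ← map_inv]; exact congrArg (c⁻¹ * x * ·) (inv_inv c)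
  have hk2 : φ.ker = (φ.comp ψ.toMonoidHom).ker := by
    ext x
    rw [MonoidHom.mem_ker (f := φ.comp _), MonoidHom.comp_apply, ← MonoidHom.mem_ker, hk,
      mem_subgroupOf, mem_subgroupOf]
    exact ⟨fun m => (eψ x).symm ▸ cn_mem (h.On hc) m, fun m => cn_mem' (h.On hc) (eψ x ▸ m)⟩
  refine ⟨(QuotientGroup.quotientKerEquivOfSurjective φ hs).symm.trans
    ((QuotientGroup.quotientMulEquivOfEq hk2).trans (QuotientGroup.quotientKerEquivOfSurjective _
      (hs.comp ψ.surjective))), fun x y e => ?_⟩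
  have : (QuotientGroup.quotientKerEquivOfSurjective φ hs).symm (φ x) = QuotientGroup.mk x :=
    (MulEquiv.symm_apply_eq _).2 rfl
  rw [MulEquiv.trans_apply, this, show y = ψ x from Subtype.ext ((eψ x).trans e).symm]
  rfl

theorem memX (h : Base G) (g : G) : g ∈ h.X ∨ g * h.t ∈ h.X :=
  have := h.Xn
  mem_sup_inv (le_normalizer_of_normal (mem_top _)) h.tt (h.XG.ge (mem_top g))

theorem oddX (h : Base G) {g : G} (o : Odd (orderOf g)) : g ∈ h.X := by
  have := h.Xn
  refine mem_of_pow_mem_of_coprime (n := 2) (Nat.coprime_two_right.2 o) ?_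
  rcases memX h g with m | m
  · exact pow_mem m 2
  · have := mul_mem m (cn_mem (le_normalizer_of_normal (mem_top h.t)) m)
    rwa [cn, inv_eq_of_mul_eq_one_right h.tt, mul_assoc h.t, mul_assoc g h.t h.t, h.tt, mul_one,
      mul_assoc, ← mul_assoc h.t, h.tt, one_mul, ← pow_two] at this

/-- an element of order `5` modulo `O` -/
theorem exists_five {L : Type} [Group L] {φ : h.K →* L} {x : h.K} (o : orderOf (φ x) = 5) :
    ∃ n : ℕ, orderOf (x ^ n) = 5 := by
  obtain ⟨n, e⟩ := o ▸ orderOf_map_dvd φ x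
  refine ⟨n, ?_⟩
  have := orderOf_pos x
  rw [orderOf_pow, e, Nat.gcd_mul_left_left, Nat.mul_div_cancel _ (by omega)]

theorem a6_fix (e : Fit h k) {φ : h.K →* alternatingGroup (Fin 6)} (hs : Function.Surjective φ)
    (hk : φ.ker = h.O.subgroupOf h.K) {c : G} (hc : c = k.f ∨ c = k.f * k.z) {u : h.K}
    (o : orderOf (φ u) = 5) (cu : Commute (u : G) c) : False := by
  have tc : Commute k.t c := by
    rcases hc with rfl | rfl
    exacts [k.tf, k.tf.mul_right (tz k)]
  obtain ⟨α, hα⟩ := exists_aut hs hk (memC e tc)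
  let F := α.toMonoidHom.eqLocus (MonoidHom.id _)
  have mem : ∀ {x : G} (hx : x ∈ h.K), Commute x c → φ ⟨x, hx⟩ ∈ F := fun hx c =>
    hα _ _ (cn_comm c)
  have m1 := @hm0 _ _ _ _ _ φ
  have m2 := @hm2 _ _ _ _ _ φ
  have m3 := @hm3 _ _ _ _ _ φ
  have z1 : φ ⟨_, fit_z e⟩ ≠ 1 := fun l => k.z1 (inv_nO (by
    rw [← MonoidHom.mem_ker, hk] at l; exact l) k.zz)
  have ca : Commute k.a c := by
    rcases hc with rfl | rfl
    exacts [k.fa.symm, k.fa.symm.mul_right k.za.symm]
  have cb : Commute k.b c := by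
    rcases hc with rfl | rfl
    exacts [k.fb.symm, k.fb.symm.mul_right k.zb.symm]
  have h24 : 24 ∣ Nat.card F := by
    rcases hc with rfl | rfl
    · exact dvd24 (z := φ ⟨_, fit_z e⟩) (m1 k.aa) (m1 k.bb) (m1 k.zz) z1
        ((m2 (w := ⟨_, e.a⟩ * ⟨_, fit_z e⟩) k.ab).trans (map_mul φ _ _)) (m3 k.za) (m3 k.zb)
        (m2 k.zr) ((m2 (w := ⟨_, e.a⟩ * ⟨_, fit_z e⟩) k.ar).trans (map_mul φ _ _)) (mem e.a ca)
        (mem e.b cb) (mem e.r k.rf)
    · exact dvd24 (z := φ ⟨_, fit_z e⟩) (m1 k.bb) (m1 k.aa) (m1 k.zz) z1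
        ((m2 (w := ⟨_, e.b⟩ * ⟨_, fit_z e⟩) (ba k)).trans (map_mul φ _ _)) (m3 k.zb) (m3 k.za)
        (m2 k.zs) ((m2 (w := ⟨_, e.b⟩ * ⟨_, fit_z e⟩) k.bs).trans (map_mul φ _ _)) (mem e.b cb)
        (mem e.a ca) (mem e.s k.sf)
  have h5 : 5 ∣ Nat.card F := o ▸ orderOf_dvd_natCard _ (mem u.2 cu)
  obtain ⟨c', h120⟩ := Nat.Coprime.mul_dvd_of_dvd_of_dvd (by decide : Nat.Coprime 24 5) h24 h5
  have c6 : Nat.card (alternatingGroup (Fin 6)) = 360 := by
    have := two_mul_nat_card_alternatingGroup (α := Fin 6)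
    rw [Nat.card_perm, Nat.card_fin] at this
    simp [Nat.factorial] at this ⊢
    omega
  have hi := F.index_mul_card
  have hF : F = ⊤ := by
    have := alternatingGroup.isSimpleGroup (α := Fin 6) (by simp)
    rcases F.normalCore_normal.eq_bot_or_eq_top with l | l
    · exfalso
      have h2 : F.normalCore.index ∣ F.index.factorial := by
        rw [normalCore_eq_ker, index_ker, index_eq_card, ← Nat.card_perm]
        exact card_subgroup_dvd_card _
      rw [l, index_bot, c6] at h2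
      rw [c6, h120] at hi
      have h3 : F.index ≤ 3 := by
        by_contra k
        have : 4 * (24 * 5 * 1) ≤ F.index * (24 * 5 * c') := Nat.mul_le_mul (by omega)
          (Nat.mul_le_mul_left _ (Nat.pos_of_ne_zero fun l => by simp [l] at hi))
        omega
      exact absurd (Nat.le_of_dvd (by decide) (h2.trans (Nat.factorial_dvd_factorial h3))) (by decide)
    · exact top_le_iff.1 (l ▸ F.normalCore_le)
  refine not_inner e hc (one_mem _) fun x hx => ?_
  have hx' := cn_mem (h.Kn (memC e tc)) hx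
  have h1 : α (φ ⟨x, hx⟩) = φ ⟨x, hx⟩ := hF.ge (mem_top _)
  rw [hα _ ⟨_, hx'⟩ rfl] at h1
  have : (⟨x, hx⟩⁻¹ * ⟨_, hx'⟩ : h.K) ∈ φ.ker := by
    rw [MonoidHom.mem_ker, map_mul, map_inv, h1, inv_mul_cancel]
  rw [hk] at this
  simpa [cn, mem_subgroupOf] using this

omit [Finite G] in
theorem order_inv {x : G} (xx : x * x = 1) (x1 : x ≠ 1) : orderOf x = 2 :=
  orderOf_eq_prime (by rw [pow_two, xx]) x1

/-- an involution of `X` commuting with `u` can be chosen in `C(t)` -/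
theorem inv_fix (h : Base G) (ht : h.t ∉ h.X) {u i : G} (tu : Commute h.t u) (hi : i ∈ h.X)
    (ii : i * i = 1) (i1 : i ≠ 1) (iu : Commute i u) :
    ∃ j ∈ h.X, j * j = 1 ∧ j ≠ 1 ∧ Commute j u ∧ Commute h.t j := by
  have := h.Xn
  have hn : i * h.t ∉ h.X := fun m => ht ((mul_mem_cancel_left hi).1 m)
  obtain ⟨n, hn2⟩ : Even (orderOf (i * h.t)) := Nat.not_odd_iff_even.1 fun o => hn (oddX h o)
  have hp := orderOf_pos (i * h.t)
  have ww : (i * h.t) ^ n * (i * h.t) ^ n = 1 := by rw [← pow_add, ← hn2, pow_orderOf_eq_one]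
  have w1 : (i * h.t) ^ n ≠ 1 := pow_ne_one_of_lt_orderOf (by omega) (by omega)
  have wu : Commute ((i * h.t) ^ n) u := (iu.mul_left tu).pow_left n
  have wt : Commute h.t ((i * h.t) ^ n) := by
    have e : cn (i * h.t) h.t = (i * h.t)⁻¹ := by
      rw [cn, mul_assoc, mul_assoc, h.tt, mul_one, mul_inv_rev, inv_eq_of_mul_eq_one_right ii]
    have e2 : cn ((i * h.t) ^ n) h.t = (i * h.t) ^ n := by
      have := conj_pow (a := h.t⁻¹) (b := i * h.t) (i := n)
      rw [inv_inv] at this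
      rw [cn, ← this, ← cn, e, inv_pow, inv_eq_of_mul_eq_one_right ww]
    exact Commute.symm (comm_of_cn e2)
  have wi : Commute ((i * h.t) ^ n) i := by
    simpa using ((Commute.refl (i * h.t)).pow_left n).mul_right wt.symm.inv_right
  generalize (i * h.t) ^ n = w at *
  rcases memX h w with m | m
  · exact ⟨w, m, ww, w1, wu, wt⟩
  by_cases e : w * h.t = 1
  · exact ⟨i, hi, ii, i1, iu, by
      rwa [eq_inv_of_mul_eq_one_left e, inv_eq_of_mul_eq_one_right h.tt] at wi⟩
  · exact ⟨_, m, by rw [wt.mul_mul_mul_comm, ww, h.tt, one_mul], e, wu.mul_left tu,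
      wt.mul_right (Commute.refl _)⟩

/-- the involutions of `T₀` -/
theorem inv_T0 (k : Hyp G) {x : G} (hx : x ∈ k.T0) (xx : x * x = 1) :
    ∃ p ∈ k.P, ∃ v, (v = 1 ∨ v = k.a ∨ v = k.b) ∧ (x = p * v ∨ x * k.t = p * v) := by
  have hZ : ∀ {v}, v * v = 1 → Commute k.t v → x * v ∈ k.Z → ∃ p ∈ k.P, x = p * v ∨ x * k.t = p * v :=
    fun {v} vv c m => (mem_Z k m).elim
      (fun m => ⟨_, m, Or.inl (by rw [mul_assoc, vv, mul_one])⟩) fun m =>
        ⟨_, m, Or.inr (by rw [mul_assoc, mul_assoc, c.eq, ← mul_assoc v, vv, one_mul])⟩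
  rcases mem_T0 k hx with m | m <;> rcases mem_E1 k m with m | m
  · obtain ⟨p, hp, l⟩ := hZ (one_mul 1) (Commute.one_right _) ((mul_one x).symm ▸ m)
    exact ⟨p, hp, 1, Or.inl rfl, l⟩
  · obtain ⟨p, hp, l⟩ := hZ k.aa k.ta m
    exact ⟨p, hp, _, Or.inr (Or.inl rfl), l⟩
  · obtain ⟨p, hp, l⟩ := hZ k.bb k.tb m
    exact ⟨p, hp, _, Or.inr (Or.inr rfl), l⟩
  · exfalso
    have c1 : Commute (k.b * k.a) (x * k.b * k.a) := Z_cent k m _ (mul_mem (bT0 k) (aT0 k))
    have cc : x * k.b * k.a * (x * k.b * k.a) = 1 := ea_closure (by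
      rintro v (rfl | rfl | rfl); exacts [k.tt, k.zz, k.ff]) (by
      have := tz k; have := k.tf; have := fz k
      rintro v (rfl | rfl | rfl) w (rfl | rfl | rfl) <;>
        first | exact Commute.refl _ | assumption | (symm; assumption)) _ m
    have c2 : Commute (k.b * k.a) x := by
      simpa [mul_assoc] using c1.mul_right (Commute.refl (k.b * k.a)).inv_right
    have e := ba k
    rw [cn, inv_eq_of_mul_eq_one_right k.aa] at e
    rw [mul_assoc x, c2.mul_mul_mul_comm, xx, one_mul, mul_assoc, ← mul_assoc k.a, e, ← mul_assoc, k.bb,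
      one_mul] at cc
    exact k.z1 cc

/-- the correct form of `IdA6Stmt`: the element found is a `5`-element -/
theorem idA6' (e : Fit h k) (q : h.Quot (alternatingGroup (Fin 6))) (he : k.e = 1)
    (ht : h.t ∉ h.X) : ∃ u ∈ h.X, u ≠ 1 ∧ (∃ n : ℕ, u ^ 5 ^ n = 1) ∧
      ∀ i ∈ h.X, i * i = 1 → Commute i u → i = 1 := by
  obtain ⟨φ, hs, hk⟩ := q
  have := h.Xn
  have : Fact (Nat.Prime 5) := ⟨Nat.prime_five⟩
  have nO : ∀ {x : h.K}, φ x = 1 ↔ (x : G) ∈ h.O := fun {x} => by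
    rw [← MonoidHom.mem_ker, hk, mem_subgroupOf]
  have c6 : Nat.card (alternatingGroup (Fin 6)) = 360 := by
    have := two_mul_nat_card_alternatingGroup (α := Fin 6)
    rw [Nat.card_perm, Nat.card_fin] at this
    simp [Nat.factorial] at this ⊢
    omega
  obtain ⟨P⟩ : Nonempty (Sylow 5 h.K) := inferInstance
  obtain ⟨u, huP, hu⟩ : ∃ u ∈ (P : Subgroup h.K), φ u ≠ 1 := by
    by_contra! l
    have h1 := (P.mapSurjective hs).not_dvd_index
    rw [Sylow.coe_mapSurjective, (Subgroup.map_eq_bot_iff _).2 l, index_bot, c6] at h1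
    exact h1 (by decide)
  obtain ⟨n, hn⟩ := P.isPGroup' ⟨u, huP⟩
  have hn' : (u : G) ^ 5 ^ n = 1 := congrArg (fun x : P => ((x : h.K) : G)) hn
  have o5 : ∀ v : h.K, (v : G) ^ 5 ^ n = 1 → (v : G) ∉ h.O → orderOf (φ v) = 5 := fun v h1 h2 => by
    have h3 : φ v ^ 5 ^ n = 1 := by rw [← map_pow, show v ^ 5 ^ n = 1 from Subtype.ext h1, map_one]
    obtain ⟨m, -, e⟩ := (Nat.dvd_prime_pow Nat.prime_five).1 (orderOf_dvd_of_pow_eq_one h3)
    have h4 := S5057.order_le (φ v)
    rcases m with _ | _ | m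
    · exact absurd (nO.1 (orderOf_eq_one_iff.1 e)) h2
    · exact e
    · have := Nat.pow_le_pow_right (n := 5) (by decide) (show 2 ≤ m + 1 + 1 by omega)
      omega
  refine ⟨u, oddX h.toBase (Odd.of_dvd_nat (Odd.pow (by decide)) (orderOf_dvd_of_pow_eq_one hn')),
    fun l => hu (nO.2 (l ▸ one_mem _)), ⟨n, hn'⟩, fun i hi ii iu => by_contra fun i1 => ?_⟩
  obtain ⟨j, hj, jj, j1, ju, tj⟩ := inv_fix h.toBase ht (fit_t e ▸ tK e u.2) hi ii i1 iu
  -- transport along an element of `C(t)`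
  have tr : ∀ {v j g : G}, Commute k.t g → v ∈ h.K ∧ v ^ 5 ^ n = 1 ∧ v ∉ h.O ∧ Commute j v →
      cn v g ∈ h.K ∧ cn v g ^ 5 ^ n = 1 ∧ cn v g ∉ h.O ∧ Commute (cn j g) (cn v g) :=
    fun {v j g} c l => ⟨cn_mem (h.Kn (memC e c)) l.1, by
      have := conj_pow (a := g⁻¹) (b := v) (i := 5 ^ n)
      rw [inv_inv] at this
      rw [cn, this, l.2.1, mul_one, inv_mul_cancel], fun m => l.2.2.1 (cn_mem' (h.On (memC e c)) m),
      comm_cn l.2.2.2 g⟩
  obtain ⟨g, hg, m⟩ := k.syl.exists_le_cj (Q := zpowers j) (ea_p (by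
    rintro _ ⟨n, rfl⟩; rw [← Commute.mul_zpow (Commute.refl j), jj, one_zpow]))
    (zpowers_le_of_mem (ct.2 (fit_t e ▸ tj)))
  have m1 : cn j g ∈ k.T0 := by
    have : k.T = k.T0 := by
      rw [k.hT, he]
      refine le_antisymm ((closure_le _).2 ?_) (closure_mono (by intro x; simp; tauto))
      rintro v (rfl | rfl | rfl | rfl | rfl)
      exacts [Z_T0 k (tZ k), Z_T0 k (fZ k), aT0 k, bT0 k, one_mem _]
    exact this ▸ mem_cj.1 (m (mem_zpowers j))
  have l0 := tr (ct.1 hg) ⟨u.2, hn', fun l => hu (nO.2 l), ju⟩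
  have hj' : cn j g ∈ h.X := cn_mem (le_normalizer_of_normal (mem_top g)) hj
  have jj' : cn j g * cn j g = 1 := by rw [← cn_mul', jj]; simp [cn]
  have j1' : cn j g ≠ 1 := fun l => j1 (cn_one l)
  generalize cn j g = x at *
  generalize cn (u : G) g = v at l0
  have tx : Commute k.t x := ct.1 (T0_ct k m1)
  obtain ⟨p, hp, w, hw, l⟩ := inv_T0 k m1 jj'
  have l1 : Commute (p * w) v ∧ p * w * (p * w) = 1 ∧ p * w ≠ 1 := by
    rcases l with l | l <;> rw [← l]
    · exact ⟨l0.2.2.2, jj', j1'⟩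
    · exact ⟨l0.2.2.2.mul_left (tK e l0.1), by rw [tx.mul_mul_mul_comm, jj', k.tt, one_mul],
        fun l => ht (fit_t e ▸ (mul_mem_cancel_left hj').1 (l ▸ one_mem _))⟩
  have l2 : v ∈ h.K ∧ v ^ 5 ^ n = 1 ∧ v ∉ h.O ∧ Commute (p * w) v :=
    ⟨l0.1, l0.2.1, l0.2.2.1, l1.1⟩
  have fin : ∀ {v c : G}, (c = k.f ∨ c = k.f * k.z) →
      v ∈ h.K ∧ v ^ 5 ^ n = 1 ∧ v ∉ h.O ∧ Commute c v → False := fun {v c} hc l =>
    a6_fix e hs hk hc (u := ⟨v, l.1⟩) (o5 _ l.2.1 l.2.2.1) l.2.2.2.symm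
  have inK : p * w ∈ h.K → False := fun m => by
    have o2 : orderOf (φ ⟨_, m⟩) = 2 := order_inv (hm0 φ l1.2.1) fun l =>
      l1.2.2 (inv_nO (h := h) (nO.1 l) l1.2.1)
    have := (hm3 φ (x := ⟨_, m⟩) (y := ⟨v, l0.1⟩) l1.1).orderOf_mul_eq_mul_orderOf_of_coprime
      (by rw [o2, o5 ⟨v, l0.1⟩ l0.2.1 l0.2.2.1]; decide)
    rw [o2, o5 ⟨v, l0.1⟩ l0.2.1 l0.2.2.1] at this
    have h4 := S5057.order_le (φ ⟨_, m⟩ * φ ⟨v, l0.1⟩)
    omega
  have wK : w ∈ h.K := by
    rcases hw with rfl | rfl | rfl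
    exacts [one_mem _, e.a, e.b]
  have fr := cn_comm k.rf.symm
  have azr : cn (k.a * k.z) k.r = k.z := by
    rw [cn_mul', k.ar, k.zr, mul_assoc, k.za.eq, ← mul_assoc, k.aa, one_mul]
  have bzs : cn (k.b * k.z) k.s = k.z := by
    rw [cn_mul', k.bs, k.zs, mul_assoc, k.zb.eq, ← mul_assoc, k.bb, one_mul]
  have e1 : cn (k.f * k.a) k.r = k.z * k.f * k.a := by
    rw [cn_mul', fr, k.ar, ← (fz k).eq, mul_assoc, k.za.eq]
  have e2 : cn (k.z * k.f * k.a) k.r = k.f * k.z := by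
    rw [← (fz k).eq, mul_assoc, k.za.eq, cn_mul', fr, azr]
  have e3 : cn (k.f * k.b) k.s = k.f := by
    rw [← fzz k, mul_assoc, k.zb.eq, cn_mul', cn_comm k.sf.symm, bzs]
  have e4 : cn (k.z * k.f * k.b) k.s = k.f * k.b := by
    rw [← (fz k).eq, cn_mul', cn_comm k.sf.symm, k.bs, ← k.zb.eq, ← mul_assoc, fzz]
  rcases mem_P k hp with rfl | rfl | rfl | rfl
  · exact inK (mul_mem (one_mem _) wK)
  · exact inK (mul_mem (fit_z e) wK)
  · rcases hw with rfl | rfl | rfl
    · exact fin (Or.inl (mul_one _)) l2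
    · exact fin (Or.inr (e1 ▸ e2)) (tr k.rt.symm (tr k.rt.symm l2))
    · exact fin (Or.inl e3) (tr k.st.symm l2)
  · rcases hw with rfl | rfl | rfl
    · exact fin (Or.inr ((mul_one _).trans (fz k).eq.symm)) l2
    · exact fin (Or.inr e2) (tr k.rt.symm l2)
    · exact fin (Or.inl (e4 ▸ e3)) (tr k.st.symm (tr k.st.symm l2))

end Cfsg.Agent.H42.LT
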