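import Mathlib

/-! Finite checks in `S₇`. -/

set_option autoImplicit false

namespace Cfsg.Agent.H42.LT

open Equiv

/-- the double transposition `(0 1)(2 3)` -/
def z7 : Perm (Fin 7) := swap 0 1 * swap 2 3

/-- the even elements of square `1` commuting with `z7` -/
def e7 : List (Perm (Fin 7)) :=
  [1, swap 0 1 * swap 2 3, swap 0 2 * swap 1 3, swap 0 3 * swap 1 2, swap 0 1 * swap 4 5,
    swap 0 1 * swap 4 6, swap 0 1 * swap 5 6, swap 2 3 * swap 4 5, swap 2 3 * swap 4 6,
    swap 2 3 * swap 5 6]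

/-- the odd elements of square `1` commuting with `z7` -/
def o7 : List (Perm (Fin 7)) :=
  swap 0 1 :: swap 2 3 :: [1, swap 0 1 * swap 2 3, swap 0 2 * swap 1 3, swap 0 3 * swap 1 2].flatMap
    fun x => [x * swap 4 5, x * swap 4 6, x * swap 5 6]

set_option maxRecDepth 100000 in
theorem mem_l7 (w : Perm (Fin 7)) (c : w * z7 = z7 * w) (h : w * w = 1) : w ∈ e7 ∨ w ∈ o7 := by
  have : ∀ w : Perm (Fin 7), w (w 0) = 0 → w (z7 0) = z7 (w 0) → w * w = 1 → w * z7 = z7 * w →
    w ∈ e7 ∨ w ∈ o7 := by decide +kernel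
  exact this w (congrArg (· 0) h) (congrArg (· 0) c) h c

theorem sign_e7 : ∀ w ∈ e7, Perm.sign w = 1 := by simp [e7]

theorem sign_o7 : ∀ w ∈ o7, Perm.sign w = -1 := by simp [o7]

theorem mem_e7 {w : Perm (Fin 7)} (c : w * z7 = z7 * w) (h : w * w = 1) (s : Perm.sign w = 1) :
    w ∈ e7 := (mem_l7 w c h).resolve_right fun m => absurd (s.symm.trans (sign_o7 w m)) (by decide)

theorem mem_o7 {w : Perm (Fin 7)} (c : w * z7 = z7 * w) (h : w * w = 1) (s : Perm.sign w = -1) :
    w ∈ o7 := (mem_l7 w c h).resolve_left fun m => absurd (s.symm.trans (sign_e7 w m)) (by decide)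

set_option synthInstance.maxSize 4000 in
theorem l7_pair : ∀ a ∈ e7, ∀ b ∈ e7, a * b = b * (a * z7) →
    ¬ ((∀ i, z7 i = i → a i = i) ↔ ∀ i, z7 i = i → b i = i) ∧
    ∀ s ∈ o7, s * a = a * s → s * b = b * s →
      ∃ i j, i ≠ j ∧ (s = swap i j ∨ s * z7 = swap i j) := by
  have : (e7.all fun a => e7.all fun b => decide (a * b = b * (a * z7) →
      ¬ ((∀ i, z7 i = i → a i = i) ↔ ∀ i, z7 i = i → b i = i) ∧
      (o7.all fun s => decide (s * a = a * s → s * b = b * s →
        ∃ i j, i ≠ j ∧ (s = swap i j ∨ s * z7 = swap i j))) = true)) = true := by decide +kernel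
  simpa only [List.all_eq_true, decide_eq_true_eq] using this

end Cfsg.Agent.H42.LT
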