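import Cfsg.Agent.H42.LT3A
import Cfsg.Agent.H42.LT3P
import Cfsg.Agent.H95.AutAlt
import Cfsg.Agent.S0242

/-! Identification of the component: `IdA7Stmt`, `IdL5Stmt`. -/

set_option autoImplicit false
set_option linter.unusedSectionVars false

namespace Cfsg.Agent.H42.LT

open Subgroup Cfsg.Agent.H85 Cfsg.Agent.H93.LT Cfsg.Agent.H3.LTB Equiv

universe u

theorem five7 {i j : Fin 7} (h : i ≠ j) : ∃ u : Perm (Fin 7), orderOf u = 5 ∧ Commute u (swap i j) := by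
  have : Fact (Nat.Prime 5) := ⟨Nat.prime_five⟩
  obtain ⟨τ, e⟩ := isConj_iff.1 (Perm.isConj_swap (show (0 : Fin 7) ≠ 1 by decide) h)
  refine ⟨τ * (swap 2 3 * swap 3 4 * swap 4 5 * swap 5 6) * τ⁻¹, ?_, ?_⟩
  · exact ((MulAut.conj τ).orderOf_eq _).trans (orderOf_eq_prime (by decide +kernel) (by decide +kernel))
  · rw [← e]
    exact (show Commute (swap 2 3 * swap 3 4 * swap 4 5 * swap 5 6 : Perm (Fin 7)) (swap 0 1) by
      unfold Commute SemiconjBy; decide +kernel).conj τ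

theorem cent7 {ρ : Perm (Fin 7)}
    (h : ρ ∈ centralizer (alternatingGroup (Fin 7) : Set (Perm (Fin 7)))) : ρ = 1 := by
  have key : ∀ i j : Fin 7, i ≠ j → ∃ k l, j ≠ k ∧ j ≠ l ∧ (swap j k * swap j l) i = i ∧
      (swap j k * swap j l) j ≠ j := by decide +kernel
  ext1 i
  by_contra e
  obtain ⟨k, l, h1, h2, h3, h4⟩ := key i (ρ i) (Ne.symm e)
  have := congrArg (· i) (h _ (show swap (ρ i) k * swap (ρ i) l ∈ alternatingGroup (Fin 7) by
    rw [Perm.mem_alternatingGroup, map_mul, Perm.sign_swap h1, Perm.sign_swap h2]; rfl))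
  exact h4 (by simpa only [Perm.mul_apply (swap _ k * _), Perm.mul_apply ρ, h3] using this)

theorem conj_z7 {z : Perm (Fin 7)} (s : Perm.sign z = 1) (zz : z * z = 1) (z1 : z ≠ 1) :
    ∃ τ : Perm (Fin 7), cn z τ = z7 := by
  have key : ∀ {z : Perm (Fin 7)}, Perm.sign z = 1 → z * z = 1 → z ≠ 1 → z.cycleType = {2, 2} :=
    fun {z} s zz z1 => by
      obtain ⟨n, e⟩ := Perm.cycleType_prime_order (σ := z) (order_inv zz z1 ▸ Nat.prime_two)
      have h2 := Perm.sum_cycleType_le z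
      rw [Perm.sign_of_cycleType, neg_one_pow_eq_one_iff_even (by decide)] at s
      rw [order_inv zz z1] at e
      rw [e] at s h2 ⊢
      simp only [Multiset.sum_replicate, smul_eq_mul, Multiset.card_replicate, Fintype.card_fin] at s h2
      obtain ⟨c, s⟩ := s
      obtain rfl : n = 1 := by omega
      rfl
  obtain ⟨τ, e⟩ := isConj_iff.1 (Perm.isConj_iff_cycleType_eq.2
    ((key s zz z1).trans (key (z := z7) (by decide +kernel) (by decide +kernel) (by decide +kernel)).symm))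
  exact ⟨τ⁻¹, by rw [← e, cn, inv_inv]⟩

theorem s7_facts {a b z : Perm (Fin 7)} (sa : Perm.sign a = 1) (sb : Perm.sign b = 1)
    (sz : Perm.sign z = 1) (aa : a * a = 1) (bb : b * b = 1) (zz : z * z = 1) (z1 : z ≠ 1)
    (ab : cn a b = a * z) (za : Commute z a) (zb : Commute z b) :
    (∀ ε, cn a ε = b → cn b ε = a → cn z ε = z → False) ∧
    ∀ s, s * s = 1 → Perm.sign s = -1 → Commute s a → Commute s b → Commute s z →
      ∃ u, orderOf u = 5 ∧ (Commute u s ∨ Commute u (s * z)) := by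
  obtain ⟨τ, e⟩ := conj_z7 sz zz z1
  have sq : ∀ {x : Perm (Fin 7)}, x * x = 1 → cn x τ * cn x τ = 1 := fun h => by
    rw [← cn_mul', h]; simp [cn]
  have sg : ∀ x : Perm (Fin 7), Perm.sign (cn x τ) = Perm.sign x := fun x => by
    rw [cn, map_mul, map_mul, mul_right_comm, ← map_mul, inv_mul_cancel, map_one, one_mul]
  obtain ⟨p1, p2⟩ := l7_pair _ (mem_e7 (e ▸ comm_cn za.symm τ) (sq aa) ((sg a).trans sa)) _
    (mem_e7 (e ▸ comm_cn zb.symm τ) (sq bb) ((sg b).trans sb))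
    (by rw [← e, ← cn_mul', ← cn_mul' a z, ← ab]; simp only [cn]; group)
  refine ⟨fun ε e1 e2 e3 => p1 ?_, fun s ss s1 c1 c2 c3 => ?_⟩
  · have key : ∀ {a b : Perm (Fin 7)}, cn a ε = b → (∀ i, z7 i = i → cn a τ i = i) →
        ∀ i, z7 i = i → cn b τ i = i := fun {a b} l H i hi => by
      have h1 : cn z7 (cn ε τ) = z7 := by rw [← e, cn_cn, e3]
      have h2 := H (cn ε τ i) (by rw [← Perm.mul_apply, comm_of_cn h1, Perm.mul_apply, hi])
      rw [← l, ← cn_cn, cn, Perm.mul_apply, Perm.mul_apply, h2]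
      simp
    exact ⟨key e1, key e2⟩
  · obtain ⟨i, j, hij, l⟩ := p2 _ (mem_o7 (e ▸ comm_cn c3 τ) (sq ss) ((sg s).trans s1))
      (comm_cn c1 τ) (comm_cn c2 τ)
    obtain ⟨u, o, c⟩ := five7 hij
    have bk : ∀ x : Perm (Fin 7), cn (cn x τ) τ⁻¹ = x := fun x => by simp [cn, mul_assoc]
    refine ⟨cn u τ⁻¹, (order_cn u τ⁻¹).trans o, l.imp (fun l => ?_) fun l => ?_⟩
    · exact bk s ▸ comm_cn (l ▸ c) τ⁻¹
    · rw [← e, ← cn_mul'] at l
      exact bk (s * z) ▸ comm_cn (l ▸ c) τ⁻¹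

variable {G : Type u} [Group G] [Finite G] {h : H93.LT.Top G} {k : Hyp G}

/-- a fixed coset of `O` contains a fixed point -/
theorem lift_fix {c x : G} (hc : c ∈ centralizer ({h.t} : Set G)) (cc : c * c = 1)
    (hx : x⁻¹ * cn x c ∈ h.O) : ∃ o ∈ h.O, Commute (x * o) c := by
  have hf : Function.Involutive fun o : h.O =>
      (⟨x⁻¹ * cn x c * cn (o : G) c, mul_mem hx (cn_mem (h.On hc) o.2)⟩ : h.O) := fun o => Subtype.ext (by
    have : c⁻¹ = c := inv_eq_of_mul_eq_one_right cc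
    simp only [cn, this, mul_assoc, mul_inv_cancel_left, ← mul_assoc c c, cc, one_mul, mul_one,
      inv_mul_cancel_left])
  have := Fintype.ofFinite h.O
  obtain ⟨o, e⟩ := Perm.exists_fixed_point_of_prime (p := 2) (n := 1) (σ := hf.toPerm _)
    (by rw [← Nat.card_eq_fintype_card]; exact h.Oo.not_two_dvd_nat) (Equiv.ext fun o => hf o)
  refine ⟨o, o.2, comm_of_cn ?_⟩
  have e' : x⁻¹ * cn x c * cn (o : G) c = o := congrArg Subtype.val e
  rw [mul_assoc, inv_mul_eq_iff_eq_mul] at e'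
  rw [cn_mul', e']

theorem idA7 : IdA7Stmt.{u} := by
  intro G _ _ h k e ⟨φ, hs, hk⟩
  let ψ : h.K →* Perm (Fin 7) := (alternatingGroup (Fin 7)).subtype.comp φ
  have nO : ∀ {x : h.K}, ψ x = 1 ↔ (x : G) ∈ h.O := fun {x} => by
    rw [← mem_subgroupOf, ← hk, MonoidHom.mem_ker]; exact OneMemClass.coe_eq_one
  have sg : ∀ x, Perm.sign (ψ x) = 1 := fun x => (φ x).2
  have sj : ∀ σ, Perm.sign σ = 1 → ∃ x, ψ x = σ := fun σ hσ =>
    (hs ⟨σ, hσ⟩).imp fun x l => congrArg Subtype.val l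
  have aut : ∀ {c : G}, Commute k.t c → ∃ ρ : Perm (Fin 7), ∀ x y : h.K, cn (x : G) c = y →
      cn (ψ x) ρ = ψ y := fun c => by
    obtain ⟨α, hα⟩ := exists_aut hs hk (memC e c)
    obtain ⟨ρ, hρ⟩ := H95.AutAlt.exists_conj (by simp) (by simp) α
    exact ⟨ρ⁻¹, fun x y l => by
      rw [cn, inv_inv]; exact (hρ _).symm.trans (congrArg Subtype.val (hα x y l))⟩
  obtain ⟨p1, p2⟩ := s7_facts (a := ψ ⟨_, e.a⟩) (b := ψ ⟨_, e.b⟩) (z := ψ ⟨_, fit_z e⟩) (sg _) (sg _)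
    (sg _) (hm0 ψ k.aa) (hm0 ψ k.bb) (hm0 ψ k.zz) (fun l => k.z1 (inv_nO (h := h) (nO.1 l) k.zz))
    ((hm2 ψ (w := ⟨_, e.a⟩ * ⟨_, fit_z e⟩) k.ab).trans (map_mul ψ _ _)) (hm3 ψ k.za) (hm3 ψ k.zb)
  refine ⟨by_contra fun he => ?_, fun ht => ?_⟩
  · obtain ⟨ε, l⟩ := aut k.te
    exact p1 ε (l _ _ (e_of k he).1) (l _ _ (e_of k he).2.1) (l _ _ (ze k))
  obtain ⟨s, l⟩ := aut k.tf
  have fK : ∀ x : h.K, cn (x : G) k.f ∈ h.K := fun x => cn_mem (h.Kn (memC e k.tf)) x.2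
  have ss : s * s = 1 := by
    have : s * s ∈ centralizer (alternatingGroup (Fin 7) : Set (Perm (Fin 7))) := fun σ hσ => by
      obtain ⟨x, rfl⟩ := sj σ hσ
      refine comm_of_cn ?_
      rw [cn_mul, l x ⟨_, fK x⟩ rfl, l ⟨_, fK x⟩ x (by rw [← cn_mul, k.ff]; simp [cn])]
    exact cent7 this
  have s1 : Perm.sign s = -1 := (Int.units_eq_one_or _).resolve_left fun m => by
    obtain ⟨y, rfl⟩ := sj s m
    refine not_inner e (Or.inl rfl) y.2 fun x hx => ?_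
    have hy : cn x y ∈ h.K := cn_mem (le_normalizer y.2) hx
    refine (nO (x := ⟨_, hy⟩⁻¹ * ⟨_, fK ⟨x, hx⟩⟩)).1 ?_
    rw [map_mul, map_inv, ← l ⟨x, hx⟩ ⟨_, fK ⟨x, hx⟩⟩ rfl, ← hm2 ψ (x := ⟨x, hx⟩) (y := y) (w := ⟨_, hy⟩) rfl,
      inv_mul_cancel]
  have cs : ∀ {x : G} (hx : x ∈ h.K), Commute k.f x → Commute s (ψ ⟨x, hx⟩) := fun hx c =>
    Commute.symm (comm_of_cn (l _ _ (cn_comm c.symm)))
  obtain ⟨u, o, cu⟩ := p2 s ss s1 (cs _ k.fa) (cs _ k.fb) (cs _ (fz k))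
  obtain ⟨x, rfl⟩ := sj u (by
    have := congrArg Perm.sign (pow_orderOf_eq_one u)
    rw [o, map_pow] at this
    rcases Int.units_eq_one_or (Perm.sign u) with m | m
    · exact m
    · rw [m] at this; exact absurd this (by decide))
  have key : ∀ {c : G}, Commute k.t c → c * c = 1 → c ≠ 1 → c * k.t ≠ 1 →
      (x : G)⁻¹ * cn (x : G) c ∈ h.O → ∃ x ∈ h.X, orderOf x = 10 := fun {c} tc cc c1 c2 m => by
    obtain ⟨w, hw, cw⟩ := lift_fix (memC e tc) cc m
    obtain ⟨n, o5⟩ := exists_five (φ := ψ) (x := x * ⟨w, h.OK hw⟩)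
      (by rw [map_mul, (nO (x := ⟨w, h.OK hw⟩)).2 hw, mul_one, o])
    have o5' : orderOf (((x : G) * w) ^ n) = 5 := (orderOf_coe _).trans o5
    have vK : ((x : G) * w) ^ n ∈ h.K := pow_mem (mul_mem x.2 (h.OK hw)) n
    have cv := cw.pow_left n
    generalize ((x : G) * w) ^ n = v at o5' vK cv
    have vX : v ∈ h.X := oddX h.toBase (o5' ▸ by decide)
    have fin : ∀ {d : G}, d ∈ h.X → d * d = 1 → d ≠ 1 → Commute d v → ∃ x ∈ h.X, orderOf x = 10 :=
      fun {d} dX dd d1 c => ⟨_, mul_mem dX vX, by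
        rw [c.orderOf_mul_eq_mul_orderOf_of_coprime (by rw [order_inv dd d1, o5']; decide),
          order_inv dd d1, o5']⟩
    rcases memX h.toBase c with m | m
    · exact fin m cc c1 cv.symm
    · exact fin m (by rw [← fit_t e, tc.mul_mul_mul_comm, cc, k.tt, one_mul]) (fit_t e ▸ c2)
        (cv.symm.mul_left (fit_t e ▸ tK e vK))
  have mO : ∀ {c : G} (m : cn (x : G) c ∈ h.K), ψ ⟨_, m⟩ = ψ x → (x : G)⁻¹ * cn (x : G) c ∈ h.O :=
    fun m l => (nO (x := x⁻¹ * ⟨_, m⟩)).1 (by rw [map_mul, map_inv, l, inv_mul_cancel])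
  have nL : ∀ {v}, v ∈ k.L → k.f * v ≠ 1 ∧ k.f * v * k.t ≠ 1 := fun {v} m =>
    ⟨fun l => k.fL ((mul_mem_cancel_right m).1 (l ▸ one_mem _)), fun l => k.tfL (by
      have : k.t * (k.f * v) = 1 := mul_eq_one_comm.1 l
      exact (mul_mem_cancel_right m).1 (mul_assoc k.t _ _ ▸ this ▸ one_mem _))⟩
  rcases cu with cu | cu
  · exact key k.tf k.ff (mul_one k.f ▸ (nL (one_mem _)).1) (mul_one k.f ▸ (nL (one_mem _)).2)
      (mO (fK x) ((l x _ rfl).symm.trans (cn_comm cu)))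
  · have tc := k.tf.mul_right (tz k)
    refine key tc (by rw [(fz k).symm.mul_mul_mul_comm, k.ff, k.zz, one_mul]) (nL (zL k)).1
      (nL (zL k)).2 (mO (cn_mem (h.Kn (memC e tc)) x.2) ?_)
    refine Eq.trans ?_ (cn_comm cu)
    rw [cn_mul (ψ x), l x ⟨_, fK x⟩ rfl]
    exact (hm2 ψ (cn_mul _ _ _).symm).symm

/-- the permutation matrix of a `5`-cycle -/
def u5 : Matrix.SpecialLinearGroup (Fin 5) (ZMod 2) :=
  ⟨Matrix.of fun i j => if j = i + 1 then 1 else 0, by decide +kernel⟩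

theorem circ5 : ∀ c : Fin 5 → ZMod 2, (Matrix.of fun i j => c (j - i)) * (Matrix.of fun i j => c (j - i)) =
    (1 : Matrix (Fin 5) (Fin 5) (ZMod 2)) → (Matrix.of fun i j => c (j - i)) =
    (1 : Matrix (Fin 5) (Fin 5) (ZMod 2)) := by
  decide +kernel

theorem idL5 : IdL5Stmt := by
  intro x o
  have : Fact (Nat.Prime 5) := ⟨Nat.prime_five⟩
  have hc : Nat.card (Matrix.SpecialLinearGroup (Fin 5) (ZMod 2)) = 9999360 := by
    have := S0242.result (F := ZMod 2) (q := 2) (by simp) 5 (by norm_num)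
    generalize Nat.card (Matrix.SpecialLinearGroup (Fin 5) (ZMod 2)) = n at this ⊢
    revert this
    simp [Fin.prod_univ_succ]
  have o1 : orderOf u5 = 5 := orderOf_eq_prime (by decide +kernel) (by decide +kernel)
  have o2 : orderOf (x ^ 2) = 5 := by rw [orderOf_pow, o]; rfl
  have syl : ∀ {v : Matrix.SpecialLinearGroup (Fin 5) (ZMod 2)}, orderOf v = 5 →
      IsSyl 5 (zpowers v) ⊤ := fun {v} ov => isSyl_of_not_dvd_relIndex le_top
    (IsPGroup.of_card (n := 1) (by rw [Nat.card_zpowers, ov]; rfl)) (by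
      have := (zpowers v).index_mul_card
      rw [Nat.card_zpowers, ov, hc] at this
      rw [relIndex_top_right]; omega)
  obtain ⟨g, -, e⟩ := (syl o2).exists_cj_eq (syl o1)
  have c : Commute (cn (x ^ 5) g⁻¹) u5 := by
    obtain ⟨n, l⟩ := mem_cj.1 (e.ge (mem_zpowers u5))
    have c1 : Commute (x ^ 5) (cn u5 g) := by
      rw [cn, ← l]; exact ((Commute.refl x).pow_pow 5 2).zpow_right n
    simpa [cn, mul_assoc] using comm_cn c1 g⁻¹
  have sq : cn (x ^ 5) g⁻¹ * cn (x ^ 5) g⁻¹ = 1 := by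
    rw [← cn_mul', ← pow_add, show 5 + 5 = orderOf x from o.symm, pow_orderOf_eq_one]; simp [cn]
  have n1 : cn (x ^ 5) g⁻¹ ≠ 1 := fun l =>
    pow_ne_one_of_lt_orderOf (by decide) (by omega) (cn_one l)
  generalize cn (x ^ 5) g⁻¹ = M at c sq n1
  have step : ∀ i j, M.1 (i + 1) (j + 1) = M.1 i j := fun i j => by
    have := congrFun (congrFun (congrArg Subtype.val c.eq) i) (j + 1)
    rw [Matrix.SpecialLinearGroup.coe_mul, Matrix.SpecialLinearGroup.coe_mul] at this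
    simpa [u5, Matrix.mul_apply] using this.symm
  have eM : M.1 = Matrix.of fun i j => M.1 0 (j - i) := by
    ext i j
    have h1 : ∀ j, M.1 1 j = M.1 0 (j - 1) := fun j => by simpa using step 0 (j - 1)
    have h2 : ∀ j, M.1 2 j = M.1 1 (j - 1) := fun j => by simpa using step 1 (j - 1)
    have h3 : ∀ j, M.1 3 j = M.1 2 (j - 1) := fun j => by simpa using step 2 (j - 1)
    have h4 : ∀ j, M.1 4 j = M.1 3 (j - 1) := fun j => by simpa using step 3 (j - 1)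
    fin_cases i <;> simp [h1, h2, h3, h4, sub_sub]
  exact n1 (Subtype.ext (eM.trans (circ5 _ (eM ▸ congrArg Subtype.val sq))))

end Cfsg.Agent.H42.LT
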