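import Cfsg.Agent.H63.AnDefs
import Cfsg.Agent.H48.HsD
import Cfsg.Prelude.Def_Spor_Conway

/-!
# A standard subgroup `A₁₀`, the exotic case: definitions and interfaces

Project HT.  The paper proofs are in `stubs/notes/h42_hn10.md`.
-/

set_option autoImplicit false

namespace Cfsg.Agent.H42.HT

open Cfsg Cfsg.Agent.H63 Cfsg.Agent.H63.SL Cfsg.Agent.H63.AN Subgroup
open Cfsg.Agent.H7.AA (ev d2 Acts KA NA)
open Cfsg.Agent.H78 (c3 altOn symOn)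
open Cfsg.Agent.H68.HN (K K1 eU)
open Cfsg.Agent.H48.HS (Ac Cn)
open Equiv (swap Perm)
open Equiv.Perm (sign)
open scoped commutatorElement

universe u

abbrev P : Type := Perm (Fin 10)

abbrev Al : Type := alternatingGroup (Fin 10)

def w : P := d2 0 1 2 3
def v : P := d2 0 2 1 3
def w2 : P := d2 4 5 6 7
def z8 : P := d2 0 1 4 5 * d2 6 7 8 9
def x3 : P := c3 4 5 6

/-- The even permutations fixing `i` and `j`. -/
abbrev off (i j : Fin 10) : Subgroup P := altOn {i, j}ᶜ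

abbrev A8 : Subgroup P := off 2 3

abbrev B6 : Subgroup P := altOn {0, 1, 2, 3}ᶜ

theorem w2_mem : w2 ∈ A8 := H78.mem_altOn.2 (by decide)

theorem z8_mem : z8 ∈ A8 := H78.mem_altOn.2 (by decide)

def w2' : A8 := ⟨w2, w2_mem⟩
def z8' : A8 := ⟨z8, z8_mem⟩

theorem eqns : True := by
  have := @w.eq_1; have := @v.eq_1; have := @w2.eq_1; have := @z8.eq_1; have := @x3.eq_1
  have := @w2'.eq_1; have := @z8'.eq_1; trivial

/-- Finite facts, first part. -/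
structure F1 : Prop where
  a8 : ∀ i j : Fin 10, i ≠ j → ∀ φ : off i j →* P, Function.Injective φ →
    ∃ p : P, ∀ σ, φ σ = p * σ * p⁻¹
  iso8 : Nonempty (A8 ≃* alternatingGroup (Fin 8))
  simp : ∀ s : Finset (Fin 10), 5 ≤ s.card → IsSimpleGroup (altOn s)

/-- Finite facts, second part. -/
structure F2 : Prop where
  cen : ∀ s : Finset (Fin 10), 4 ≤ s.card → ∀ p : P, (∀ σ ∈ altOn s, Commute p σ) →
    ∀ k ∈ s, p k = k
  c8 : ∀ i j : Fin 10, i ≠ j → ∀ p : P, (∀ σ ∈ off i j, Commute p σ) → p = 1 ∨ p = swap i j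
  sw : ∀ i j : Fin 10, i ≠ j → ∀ p : P, Commute p (swap i j) → ∀ σ ∈ off i j, p * σ * p⁻¹ ∈ off i j
  gen : ∀ s : Finset (Fin 10), 5 ≤ s.card → ∀ S : Subgroup P,
    (∀ a ∈ s, ∀ b ∈ s, ∀ c ∈ s, ∀ d ∈ s, [a, b, c, d].Nodup → d2 a b c d ∈ S) → altOn s ≤ S
  cw : ∀ p : P, Commute p w →
    (p * v * p⁻¹ = v ∨ p * v * p⁻¹ = v * w) ∧ ∀ σ ∈ B6, p * σ * p⁻¹ ∈ B6
  d8 : ∀ p : P, Commute p w → (∀ σ ∈ B6, Commute p σ) →
    (p * p = 1 → p = 1 ∨ p = w ∨ p = v ∨ p = v * w ∨ p = swap 0 1 ∨ p = swap 2 3) ∧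
      (Odd (orderOf p) → p = 1)
  r3 : ∀ p : P, p ^ 3 = 1 → Commute p (swap 0 1 * v * w2) → p = 1
  dec : ∀ p : P, Commute p (swap 2 3) →
    ∃ a ∈ A8, ∃ e f : ℕ, p = a * swap 0 1 ^ e * swap 2 3 ^ f

/-- Finite facts, third part. -/
structure F3 : Prop where
  z23 : ∀ p : P, Commute p z8 → Commute p (swap 2 3)
  z5 : ∀ p : P, p ^ 5 = 1 → Commute p z8 → p = 1
  cz : ∀ q : P, Commute q z8 → (∀ σ ∈ A8, Commute σ z8 → Odd (orderOf ⁅σ, q⁆)) →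
    q = 1 ∨ q = swap 2 3 ∨ q = z8 ∨ q = swap 2 3 * z8

/-- All finite facts. -/
structure FF : Prop extends F1, F2, F3

section Frame

variable {G : Type u} [Group G]

/-- The conjugate frame. -/
abbrev cf (g : G) (ψ : Al →* G) : Al →* G := H7.AA.cj g ψ

/-- The elements of `O(C(t))`. -/
def Od (ψ : Al →* G) (t o : G) : Prop := o ∈ KA ψ ∧ Commute o t ∧ Odd (orderOf o)

/-- More consequences of `Bs` and `Kit`. -/
structure Kt (ψ : Al →* G) (t : G) : Prop where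
  perf : ∀ (s : Finset (Fin 10)) (k : G), 5 ≤ s.card →
    (∀ σ ∈ altOn s, Commute (k * ev ψ σ * k⁻¹) t) → ∃ φ : altOn s →* P, Function.Injective φ ∧
      ∀ σ : altOn s, sign (φ σ) = 1 ∧ k * ev ψ σ * k⁻¹ = ev ψ (φ σ)
  lift : ∀ d e ρ, d * d = 1 → e * e = 1 → Commute d t → Commute e t → Acts ψ d ρ → Acts ψ e ρ →
    ∃ o, Od ψ t o ∧ (o * d * o⁻¹ = e ∨ o * d * o⁻¹ = t * e)
  ker : ∀ k ∈ KA ψ, Commute k t → Od ψ t k ∨ Od ψ t (k * t)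
  omul : ∀ a b, Od ψ t a → Od ψ t b → Od ψ t (a * b)
  oinv : ∀ a, Od ψ t a → Od ψ t a⁻¹
  ocj : ∀ a n, Od ψ t a → Commute n t → Od ψ t (n * a * n⁻¹)
  onto : ∀ τ, Commute τ t → Acts ψ τ (swap 0 1) → ∀ p, ∃ k, Commute k t ∧ Acts ψ k p

/-- A frame. -/
structure Fr (ψ : Al →* G) (t : G) : Prop extends Bs ψ t, Kit ψ t, Kt ψ t

/-- The exotic element. -/
structure Sx (ψ : Al →* G) (t g : G) : Prop where
  gt : g * t * g⁻¹ = t * ev ψ w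
  gw : Commute g (ev ψ w)
  gB : ∀ σ ∈ B6, ∃ τ ∈ B6, g * ev ψ σ * g⁻¹ = ev ψ τ ∧ (σ.IsThreeCycle → τ.support.card = 6)

/-- No element moving `t` to `t w` centralises the three-cycle. -/
def NE (ψ : Al →* G) (t : G) : Prop :=
  ∀ q, q * t * q⁻¹ = t * ev ψ w → ¬ Commute q (ev ψ x3)

/-- The core configuration: `τ` is a conjugate of `t` over the transposition `(0 1)`. -/
structure Co (ψ : Al →* G) (t τ h : G) : Prop where
  d1 : D1 ψ t τ (swap 0 1)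
  ht : h * t * h⁻¹ = τ
  hB : ∀ σ ∈ off 0 1, Commute h (ev ψ σ)
  hw : Acts ψ (h⁻¹ * ev ψ w * h) (swap 2 3)

/-- The core configuration seen from `τ`. -/
structure Nw (ψ : Al →* G) (t u s d : G) : Prop where
  u2 : u * u = 1
  ut : Commute u t
  ua : Acts ψ u (swap 2 3)
  s2 : s * s = 1
  su : Commute s u
  st : s * t * s⁻¹ = t * u
  sA : ∀ σ ∈ A8, Commute s (ev ψ σ)
  dt : Commute d t
  du : Commute d u
  ds : Commute d s
  da : Acts ψ d (swap 0 1)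
  nu : ¬ IsConj t u
  ns : ¬ IsConj t s

/-- An element interchanging `t` and `t z`. -/
structure Gz (ψ : Al →* G) (t g : G) : Prop where
  gt : g * t * g⁻¹ = t * ev ψ z8
  gz : Commute g (ev ψ z8)

/-- The odd elements centralising `t`, `u` and the frame. -/
def Op (ψ : Al →* G) (t u o : G) : Prop := Od ψ t o ∧ Commute o u

/-- No commuting conjugate of `t` acts as a product of three transpositions. -/
def NT3 (ψ : Al →* G) (t : G) : Prop := ∀ d ρ, D1 ψ t d ρ → ρ.support.card ≠ 6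

/-- The restriction of a frame to `A8`. -/
def bt (ψ : Al →* G) : A8 →* G := ψ.comp (inclusion (H78.altOn_le_alternating _))

theorem bt_apply (ψ : Al →* G) (σ : A8) : bt ψ σ = ev ψ σ :=
  (H7.AA.ev_coe (ψ := ψ) (inclusion (H78.altOn_le_alternating _) σ)).symm

/-- The normaliser of `⟨w, r⟩` in `C(w)`. -/
def Mr (w r : G) : Subgroup G := C1[w] ⊓ normalizer ({r, r * w} : Set G)

/-- The elements of `⟨w, r⟩`. -/
def Rr (w r x : G) : Prop := x = 1 ∨ x = w ∨ x = r ∨ x = r * w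

/-- The group `A = β.range` and the dihedral group `⟨τ, r⟩` of order eight in its centraliser. -/
structure Md (β : A8 →* G) (τ w r : G) : Prop where
  inj : Function.Injective β
  w2 : w * w = 1
  w1 : w ≠ 1
  τ2 : τ * τ = 1
  τw : Commute τ w
  rw : Commute r w
  r2 : r * r = 1 ∨ r * r = w
  τr : τ * r * τ⁻¹ = r * w
  cτ : ∀ σ, Commute τ (β σ)
  cw : ∀ σ, Commute w (β σ)
  cr : ∀ σ, Commute r (β σ)
  cN : ∀ n, Commute n τ → Commute n w → n ∈ N[β.range]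
  two : ∀ n, Commute n τ → Commute n w → (∀ σ, Commute n (β σ)) → Is2 n →
    n = 1 ∨ n = τ ∨ n = w ∨ n = τ * w
  nc : ¬ IsConj τ (τ * r)

/-- `A` centralises the invariant subgroups of odd order. -/
def Oz (β : A8 →* G) (w r : G) : Prop :=
  ∀ Y : Subgroup G, Odd (Nat.card Y) → Y ≤ C1[w] → Mr w r ≤ N[Y] → ∀ σ, β σ ∈ C[Y]

/-- `g` maps a three-cycle to a double three-cycle. -/
def KX (β : A8 →* G) (g : G) : Prop :=
  ∃ x y : A8, x.1.IsThreeCycle ∧ y.1.support.card = 6 ∧ g * β x * g⁻¹ = β y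

/-- `τ` is conjugate to `τ z` and not to `τ w₂`. -/
def KZ (β : A8 →* G) (τ : G) : Prop := IsConj τ (τ * β z8') ∧ ¬ IsConj τ (τ * β w2')

/-- The quotient by `⟨w, r⟩` times the odd core. -/
structure Qu (β : A8 →* G) (w r : G) {H : Type u} [Group H] (f : G →* H) : Prop where
  surj : Function.Surjective f
  core : oddCore H = ⊥
  kw : f w = 1
  kr : f r = 1
  cr : ∀ n, f n = 1 → Commute n r
  cA : ∀ n, f n = 1 → ∀ σ, Commute n (β σ)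
  two : ∀ n, f n = 1 → Is2 n → Rr w r n
  lift : ∀ a b, a * a = 1 → b * b = 1 → f a = f b →
    ∃ o, f o = 1 ∧ ∃ x, Rr w r x ∧ o * b * o⁻¹ = a * x

/-- `A` is standard, with Sylow subgroup `⟨τ⟩` of the centraliser. -/
structure St (β : A8 →* G) (τ : G) : Prop where
  inj : Function.Injective β
  τ2 : τ * τ = 1
  τ1 : τ ≠ 1
  cτ : ∀ σ, Commute τ (β σ)
  cN : ∀ n, Commute n τ → n ∈ N[β.range]
  two : ∀ n, Commute n τ → (∀ σ, Commute n (β σ)) → Is2 n → n = 1 ∨ n = τ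

/-- The wreathed case. -/
def Wr (β : A8 →* G) (τ : G) : Prop :=
  ∃ Y : Subgroup G, IsSimpleGroup Y ∧ ¬ IsMulCommutative Y ∧ Nonempty (Y ≃* β.range) ∧
    (∀ a ∈ Y, ∀ b ∈ Y.map (MulAut.conj τ).toMonoidHom, a * b = b * a) ∧
    Y ⊓ Y.map (MulAut.conj τ).toMonoidHom = ⊥ ∧
    Y ⊔ Y.map (MulAut.conj τ).toMonoidHom = layer G ∧ β.range ≤ layer G

/-- The almost simple case. -/
structure Sy (β : A8 →* G) (Y : Subgroup G) : Prop where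
  nrm : Y.Normal
  simple : IsSimpleGroup Y
  na : ¬ IsMulCommutative Y
  cY : C[Y] = ⊥
  le : β.range ≤ Y

/-- `L₄(4)` -/
def IsL44 (Y : Type u) [Group Y] : Prop :=
  ∃ (F : Type) (_ : Field F) (_ : Fintype F), Fintype.card F = 4 ∧
    Nonempty (Y ≃* Matrix.ProjectiveSpecialLinearGroup (Fin 4) F)

/-- The normal closure `L` of `A`. -/
structure Ks (β : A8 →* G) (w r : G) {H : Type u} [Group H] (f : G →* H) (Y : Subgroup H)
    (L : Subgroup G) : Prop where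
  nrm : L.Normal
  perf : Group.IsPerfect L
  hA : β.range ≤ L
  gen : ∀ S : Subgroup G, S.Normal → β.range ≤ S → L ≤ S
  cen : ∀ n, n ∈ C[L] ↔ f n = 1
  quo : Nonempty ((L ⧸ center L) ≃* Y)
  img : ∀ k ∈ L, f k ∈ Y
  cr : ∀ n, f n ∈ Y → Commute n r
  dec : ∀ n, Is2 n → f n ∈ Y → ∃ k ∈ L, ∃ x, Rr w r x ∧ n = k * x

/-- The normal closure of `A` is the model `2.HS`. -/
structure Ns (β : A8 →* G) (w r : G) (J : K → G) : Prop where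
  mul : ∀ a ∈ K1, ∀ b ∈ K1, J (a * b) = J a * J b
  inj : ∀ a ∈ K1, ∀ b ∈ K1, J a = J b → a = b
  ju : J eU = w
  cr : Cn J r
  dom : ∀ n ∈ Mr w r, ∃ k, Ac J n k
  two : ∀ n ∈ Mr w r, Cn J n → Is2 n → Rr w r n
  hA : ∀ σ, ∃ a ∈ K1, J a = β σ
  gen : ∀ S : Subgroup G, Mr w r ≤ N[S] → (∀ σ, β σ ∈ S) → ∀ a ∈ K1, J a ∈ S
  dec : ∀ n, Commute n w → Commute n r → Is2 n → ∃ a ∈ K1, n = J a ∨ n = r * J a
  sq : r * r = w → ∀ n ∈ Mr w r, n * n = w → Commute n r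

/-- The normal closure of `A` does not contain `w`. -/
structure Sp (β : A8 →* G) (w r : G) (L : Subgroup G) : Prop where
  nrm : Mr w r ≤ N[L]
  hA : ∀ σ, β σ ∈ L
  nw : w ∉ L
  cw : ∀ k ∈ L, Commute k w
  cr : ∀ k ∈ L, Commute k r

/-- The split case `HS`. -/
structure SpH (β : A8 →* G) (w r : G) (L : Subgroup G) : Prop extends Sp β w r L where
  dec : ∀ n, Commute n w → Commute n r → Is2 n → ∃ k ∈ L, ∃ x, Rr w r x ∧ n = k * x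
  cls : ∀ a ∈ L, ∀ b ∈ L, ∀ c ∈ L, orderOf a = 2 → orderOf b = 2 → orderOf c = 2 →
    ∃ m ∈ L, m * a * m⁻¹ = b ∨ m * a * m⁻¹ = c ∨ m * b * m⁻¹ = c

/-- The case `L₄(4)`. -/
structure SpL (β : A8 →* G) (w r : G) (L : Subgroup G) : Prop extends Sp β w r L where
  dec : ∀ a ∈ Mr w r, ∀ b ∈ Mr w r, ∀ y, Rr w r y → Is2 (⁅a, b⁆ * y) →
    ∃ k ∈ L, ∃ x, Rr w r x ∧ ⁅a, b⁆ * y = k * x

/-- The position of `t`. -/
structure Iz (t r : G) (J : K → G) (k : K) : Prop where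
  nlk : ∀ a ∈ K1, ¬ IsConj t (J a)
  k1 : k ∈ K1
  tk : t = r * J k
  kk : k * k = eU

/-- The conclusion of the `Z*`-theorem. -/
def Zs (w r : G) : Prop :=
  ∃ Y : Subgroup G, Odd (Nat.card Y) ∧ Y ≤ C1[w] ∧ C1[w] ≤ N[Y] ∧
    ∀ n, Commute n w → ∃ y ∈ Y, y * n ∈ Mr w r

theorem mem_Mr [Finite G] {w r n : G} (w2 : w * w = 1) :
    n ∈ Mr w r ↔ Commute n w ∧ (n * r * n⁻¹ = r ∨ n * r * n⁻¹ = r * w) := by
  rw [Mr, mem_inf, mem_centralizer_singleton_iff]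
  refine and_congr_right fun h => ⟨fun k => (mem_set_normalizer_iff.1 k r).1 (Or.inl rfl), fun k => ?_⟩
  have e : n * (r * w) * n⁻¹ = n * r * n⁻¹ * w := by
    rw [← mul_assoc, mul_assoc _ w, ← (Commute.inv_left h : n⁻¹ * w = w * n⁻¹), ← mul_assoc]
  refine mem_normalizer_fintype ?_
  rintro _ (rfl | rfl)
  · exact k
  · rcases k with k | k
    · exact Or.inr (e.trans (by rw [k]))
    · exact Or.inl (e.trans (by rw [k, mul_assoc, w2, mul_one]))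

namespace Ns

variable {β : A8 →* G} {w r : G} {J : K → G} (h : Ns β w r J)
include h

theorem one : J 1 = 1 :=
  mul_eq_left.1 ((h.mul 1 (one_mem _) 1 (one_mem _)).symm.trans (by rw [mul_one]))

theorem inv {a : K} (ha : a ∈ K1) : J a⁻¹ = (J a)⁻¹ :=
  eq_inv_of_mul_eq_one_left (by rw [← h.mul _ (inv_mem ha) _ ha, inv_mul_cancel, h.one])

theorem conj {m a : K} (hm : m ∈ K1) (ha : a ∈ K1) : J m * J a * (J m)⁻¹ = J (m * a * m⁻¹) := by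
  rw [h.mul _ (mul_mem hm ha) _ (inv_mem hm), h.mul _ hm _ ha, h.inv hm]

theorem cw {a : K} (ha : a ∈ K1) : Commute (J a) w := by
  rw [← h.ju, Commute, SemiconjBy, ← h.mul _ ha _ H68.HN.eU_K1, ← h.mul _ H68.HN.eU_K1 _ ha,
    H68.HN.cU]

theorem uj {a : K} (ha : a ∈ K1) : J (eU * a) = w * J a := by
  rw [h.mul _ H68.HN.eU_K1 _ ha, h.ju]

end Ns

end Frame

/-- A statement about a frame and its conjugates. -/
def AllF (Q : ∀ {G : Type u} [Group G] (_ : Al →* G) (_ : G), Prop) : Prop :=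
  FF → ∀ {G : Type u} [Group G] [Finite G] (ψ : Al →* G) (t : G), Fr ψ t →
    (∀ g : G, Fr (cf g ψ) (g * t * g⁻¹)) → Q ψ t

/-- A statement about the group `N = Mr w r`. -/
def AllM (Q : ∀ {G : Type u} [Group G] (_ : A8 →* G) (_ _ _ : G), Prop) : Prop :=
  FF → ∀ {G : Type u} [Group G] [Finite G] (β : A8 →* G) (τ w r : G), Md β τ w r →
    (∀ n : G, Commute n w ∧ (n * r * n⁻¹ = r ∨ n * r * n⁻¹ = r * w)) → Q β τ w r

/-- A statement about a standard subgroup `A₈`. -/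
def AllS (Q : ∀ {G : Type u} [Group G] (_ : A8 →* G) (_ : G), Prop) : Prop :=
  FF → ∀ {G : Type u} [Group G] [Finite G] (β : A8 →* G) (τ : G), St β τ → Q β τ

/-- **KT** -/
def KtStmt : Prop :=
  FF → ∀ {G : Type u} [Group G] [Finite G] (ψ : Al →* G) (t : G), Bs ψ t → Kit ψ t → Kt ψ t

/-- **X1** -/
def X1Stmt : Prop := AllF.{u} fun ψ t => ∀ g, Sx ψ t g →
  NE ψ t ∧ ∃ g', Sx ψ t g' ∧ D1 ψ t (g' * (t * ev ψ v) * g'⁻¹) (swap 0 1)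

/-- **CO** -/
def CoStmt : Prop := AllF.{u} fun ψ t => NE ψ t → ∀ τ, D1 ψ t τ (swap 0 1) → ∃ h, Co ψ t τ h

/-- **NW** -/
def NwStmt : Prop := AllF.{u} fun ψ t => ∀ τ h, Co ψ t τ h →
  Nw (cf h ψ) τ (ev ψ w) (ev ψ v) t

/-- **MD** -/
def MdStmt : Prop := AllF.{u} fun ψ t => ∀ u s d, Nw ψ t u s d →
  Md (bt ψ) t u s ∧ Md (bt ψ) t u (t * s)

/-- **GX** -/
def GxStmt : Prop := AllF.{u} fun ψ t => ∀ g τ h, Sx ψ t g → τ = g * (t * ev ψ v) * g⁻¹ →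
  Co ψ t τ h → Nw (cf h ψ) τ (ev ψ w) (ev ψ v) t → Md (bt (cf h ψ)) τ (ev ψ w) (τ * ev ψ v) →
  g ∈ Mr (ev ψ w) (τ * ev ψ v) ∧ KX (bt (cf h ψ)) g ∧ Oz (bt (cf h ψ)) (ev ψ w) (τ * ev ψ v)

/-- **T3** -/
def T3Stmt : Prop := AllF.{u} fun ψ t => ¬ TE ψ t 2 → ∀ τ h, Co ψ t τ h →
  NT3 (cf h ψ) τ ∧ ¬ TE (cf h ψ) τ 2 ∧ (TE ψ t 4 → TE (cf h ψ) τ 4) ∧
    ∀ r, r = ev ψ v ∨ r = τ * ev ψ v → ∀ x, Rr (ev ψ w) r x →
      ¬ IsConj τ (τ * bt (cf h ψ) w2' * x)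

/-- **TA** -/
def TaStmt : Prop := AllF.{u} fun ψ t => ¬ TE ψ t 2 → NT3 ψ t → TE ψ t 4 → ∃ g, Gz ψ t g

/-- **TB** -/
def TbStmt : Prop := AllF.{u} fun ψ t => ∀ u s d g, Nw ψ t u s d → Gz ψ t g →
  ∃ g', Gz ψ t g' ∧ Commute g' u

/-- The odd group `Op` and the commutators with `s`. -/
def Tc {G : Type u} [Group G] (ψ : Al →* G) (t u s g : G) : Prop :=
  (∀ o, Op ψ t u o → Op ψ t u (s * o * s⁻¹)) ∧ (∀ o, Op ψ t u o → Op ψ t u (g * o * g⁻¹)) ∧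
    ∀ n, Commute n t → Commute n u → ∃ o, Op ψ t u o ∧ (⁅n, s⁆ = o ∨ ⁅n, s⁆ = o * u)

/-- **TC1** -/
def Tc1Stmt : Prop := AllF.{u} fun ψ t => ∀ u s d g, Nw ψ t u s d → Gz ψ t g → Commute g u →
  Tc ψ t u s g

/-- **TC2** -/
def Tc2Stmt : Prop := AllF.{u} fun ψ t => ∀ u s d g, Nw ψ t u s d → Gz ψ t g → Commute g u →
  Tc ψ t u s g → ∃ g', Gz ψ t g' ∧ (g' ∈ Mr u s ∨ g' ∈ Mr u (t * s))

/-- **OZ** -/
def OzStmt : Prop :=
  FF → ∀ {G : Type u} [Group G] [Finite G] (β : A8 →* G) (τ w r g : G), Md β τ w r →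
    g ∈ Mr w r → g * τ * g⁻¹ = τ * β z8' → Commute g (β z8') → Oz β w r

/-- **QUO** -/
def QuoStmt : Prop := AllM.{u} fun {G} _ β _ w r => Oz β w r →
  ∃ (H : Type u) (_ : Group H) (f : G →* H), Qu β w r f

/-- **STD** -/
def StdStmt : Prop := AllM.{u} fun {G} _ β τ w r =>
  ∀ {H : Type u} [Group H] (f : G →* H), Qu β w r f → St (f.comp β) (f τ) ∧
    (IsConj (f τ) (f τ * f (β w2')) → ∃ x, Rr w r x ∧ IsConj τ (τ * β w2' * x))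

/-- **TRI** -/
def TriStmt : Prop := AllS.{u} fun {G} _ β τ => oddCore G = ⊥ →
  β.range.Normal ∨ Wr β τ ∨ ∃ Y, Sy β Y ∧
    (Nonempty (Y ≃* Al) ∨ (IsL44 Y ∧ IsConj τ (τ * β w2')) ∨ Spor.IsoHS Y)

/-- **TRK** -/
def TrkStmt : Prop := AllS.{u} fun β τ => (∃ g, KX β g) ∨ KZ β τ →
  ¬ β.range.Normal ∧ ∀ Y, Sy β Y → ¬ Nonempty (Y ≃* Al)

/-- **TRW** -/
def TrwStmt : Prop := AllS.{u} fun β τ => (∃ g, KX β g) ∨ KZ β τ → ¬ Wr β τ

/-- **OUT** -/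
def OutStmt : Prop :=
  (∀ {H : Type u} [Group H] [Finite H] (Y : Subgroup H), Y.Normal → C[Y] = ⊥ →
    (Spor.IsoHS Y → ∀ a b, a ∉ Y → b ∉ Y → a * b ∈ Y) ∧ (IsL44 Y → ∀ a b : H, ⁅a, b⁆ ∈ Y)) ∧
  ∀ {Y : Type u} [Group Y], Spor.IsoHS Y → ∀ a b c : Y, orderOf a = 2 → orderOf b = 2 →
    orderOf c = 2 → IsConj a b ∨ IsConj a c ∨ IsConj b c

/-- **KS** -/
def KsStmt : Prop := AllM.{u} fun {G} _ β _ w r =>
  ∀ {H : Type u} [Group H] (f : G →* H), Qu β w r f → ∀ Y, Sy (f.comp β) Y →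
    ∃ L, Ks β w r f Y L

/-- **JM** -/
def JmStmt : Prop := AllM.{u} fun {G} _ β _ w r =>
  ∀ {H : Type u} [Group H] (f : G →* H), Qu β w r f → ∀ Y L, Ks β w r f Y L →
    (IsL44 Y → w ∉ L) ∧
      (Spor.IsoHS Y → (w ∉ L ∧ Spor.IsoHS L) ∨ (w ∈ L ∧ Nat.card (center L) = 2))

/-- **JN** -/
def JnStmt : Prop := AllM.{u} fun {G} _ β _ w r =>
  ∀ {H : Type u} [Group H] (f : G →* H), Qu β w r f → ∀ Y L, Ks β w r f Y L →
    Spor.IsoHS Y → w ∈ L → Nat.card (center L) = 2 → ∃ J, Ns β w r J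

/-- **SPK** -/
def SpkStmt : Prop := AllF.{u} fun ψ t => ∀ τ h, Co ψ t τ h → ∀ L,
  (¬ TE ψ t 2 → TE ψ t 4 → ∀ r, r = ev ψ v ∨ r = τ * ev ψ v →
    ¬ SpH (bt (cf h ψ)) (ev ψ w) r L) ∧
  ∀ g, Sx ψ t g → τ = g * (t * ev ψ v) * g⁻¹ → g ∈ Mr (ev ψ w) (τ * ev ψ v) →
    ¬ SpH (bt (cf h ψ)) (ev ψ w) (τ * ev ψ v) L ∧ ¬ SpL (bt (cf h ψ)) (ev ψ w) (τ * ev ψ v) L

/-- **NK** -/
def NkStmt : Prop := AllF.{u} fun ψ t => ∀ τ h, Co ψ t τ h → ∀ J,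
  ¬ Ns (bt (cf h ψ)) (ev ψ w) (ev ψ v) J ∧
    (Ns (bt (cf h ψ)) (ev ψ w) (τ * ev ψ v) J → ∃ k, Iz t (τ * ev ψ v) J k)

/-- **I1** -/
def I1Stmt : Prop := AllF.{u} fun ψ t => ∀ τ h J k, Co ψ t τ h →
  Ns (bt (cf h ψ)) (ev ψ w) (τ * ev ψ v) J → Iz t (τ * ev ψ v) J k →
  (∃ g ∈ Mr (ev ψ w) (τ * ev ψ v), g * t * g⁻¹ = t * ev ψ w) ∨ ¬ IsConj t (t * ev ψ w) →
  ∀ n, Commute n (ev ψ w) → ∀ a ∈ K1, n * (τ * ev ψ v) * n⁻¹ ≠ J a

/-- **I2** -/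
def I2Stmt : Prop := AllF.{u} fun ψ t => ∀ τ h J k, Co ψ t τ h →
  Ns (bt (cf h ψ)) (ev ψ w) (τ * ev ψ v) J → Iz t (τ * ev ψ v) J k →
  ∀ n, Commute n (ev ψ w) → ∀ a ∈ K1, n * (τ * ev ψ v) * n⁻¹ = τ * ev ψ v * J a → a = 1 ∨ a = eU

/-- **ZS** -/
def ZsStmt : Prop :=
  ∀ {G : Type u} [Group G] [Finite G] (w r : G), w * w = 1 → w ≠ 1 → r * r = w →
    (∀ n, Commute n w → n * r * n⁻¹ ∈ Mr w r → n ∈ Mr w r) → Zs w r

/-- **END** -/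
def EndStmt : Prop := AllF.{u} fun ψ t => ∀ X, Gl X ψ t → ∀ h r J,
  r * r = ev ψ w → Oz (bt (cf h ψ)) (ev ψ w) r → Ns (bt (cf h ψ)) (ev ψ w) r J →
  Zs (ev ψ w) r → Spor.IsoHN X

/-- **MID** -/
def MidStmt : Prop :=
  FF → ∀ {G : Type u} [Group G] [Finite G] (β : A8 →* G) (τ w r : G), Md β τ w r → Oz β w r →
    ((∃ g ∈ Mr w r, KX β g) → (∃ J, Ns β w r J) ∨ (∃ L, SpH β w r L) ∨ ∃ L, SpL β w r L) ∧
    ((∃ g ∈ Mr w r, g * τ * g⁻¹ = τ * β z8') → (∀ x, Rr w r x → ¬ IsConj τ (τ * β w2' * x)) →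
      (∃ J, Ns β w r J) ∨ ∃ L, SpH β w r L)

/-- The theorem on ten named points. -/
def TenStmt : Prop :=
  ∀ {G : Type u} [Group G] [Finite G] (ψ : Al →* G) (t : G), Bs ψ t → Kit ψ t →
    (∀ g : G, Bs (cf g ψ) (g * t * g⁻¹) ∧ Kit (cf g ψ) (g * t * g⁻¹)) → ∀ X, Gl X ψ t →
    (∃ g, Sx ψ t g) ∨ ((∃ τ, D1 ψ t τ (swap 0 1)) ∧ TE ψ t 4 ∧ ¬ TE ψ t 2) → Spor.IsoHN X

/-- The theorem. -/
def Hn2Stmt : Prop := All.{u} fun {_} _ {α} _ _ ψ t => ∀ X, Gl X ψ t → Fintype.card α = 10 →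
  SwX ψ t ∨ (T1 ψ t ∧ TE ψ t 4 ∧ ¬ TE ψ t 2) → Spor.IsoHN X

/-- **TR** -/
def TrStmt : Prop := TenStmt.{u} → Hn2Stmt.{u}

/-- **TE2** -/
def Te2Stmt : Prop := All.{u} fun {_} _ {α} _ _ ψ t => Fintype.card α = 10 →
  TE ψ t 2 → SwX ψ t ∨ SwC ψ t

theorem hn_of (h : Hn2Stmt.{u}) (e : Te2Stmt.{u}) : HNStmt.{u} := by
  intro G _ _ α _ _ ψ t b k a X g c x
  by_cases h2 : TE ψ t 2
  · exact (e ψ t b k a c h2).imp_left fun y => h ψ t b k a X g c (Or.inl y)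
  · exact Or.inl (h ψ t b k a X g c (x.imp_right fun y => ⟨y.1, y.2, h2⟩))

end Cfsg.Agent.H42.HT
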