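import Mathlib
import Cfsg.Agent.H37.FkKit
import Cfsg.Agent.H3.Frattini
import Cfsg.Agent.H26.SLBasic
import Cfsg.Agent.H42.SuzT
import Cfsg.Agent.H44.HeM
import Cfsg.Agent.S2134
import Cfsg.Agent.S5424

/-! The `2`-fusion systems of the groups of Suzuki and Held are simple. -/

set_option autoImplicit false

namespace Cfsg.Agent.H42.FkS

open Cfsg Subgroup Cfsg.Agent.H37.FK

theorem nsc2_of {L : Type*} [Group L] (h1 : NAS L) (h2 : NSC L) : NSC2 L := fun S T hT h0 => by
  have := h1.1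
  obtain rfl := (h2 S T hT).resolve_left h0
  refine ⟨by rw [relIndex_self]; exact one_dvd _, ?_⟩
  rcases IsSimpleGroup.eq_bot_or_eq_top_of_normal (normalClosure ((S : Subgroup L) : Set L))
    inferInstance with e | e
  · exact (h0 (eq_bot_iff.2 (e ▸ le_normalClosure))).elim
  · rw [e]; exact le_top

/-- the setting from an extraspecial self-centralising normal subgroup -/
theorem lxd_of {K : Type*} [Group K] [Finite K] {z : K} (hz : orderOf z = 2)
    (Q : Subgroup (centralizer ({z} : Set K))) (hQ : IsExtraspecial 2 Q)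
    (hc : centralizer (Q : Set (centralizer ({z} : Set K))) ≤ Q) {p : ℕ} (hp : p.Prime)
    (ho : Odd p) (h3 : p ∣ Q.index) : LXD z Q := by
  let w : centralizer ({z} : Set K) := ⟨z, mem_centralizer_singleton_iff.2 rfl⟩
  have wc : ∀ y : centralizer ({z} : Set K), y * w = w * y := fun y =>
    Subtype.ext (mem_centralizer_singleton_iff.1 y.2)
  have wQ : w ∈ Q := hc fun y _ => wc y
  have key : ∀ x : Q, x ∈ center Q → ((x : centralizer ({z} : Set K)) : K) ∈ zpowers z := by
    have h1 : zpowers (⟨w, wQ⟩ : Q) = center Q := by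
      refine eq_of_le_of_card_ge (zpowers_le.2 (mem_center_iff.2 fun y => Subtype.ext (wc y))) ?_
      rw [hQ.2, Nat.card_zpowers, ← orderOf_coe, ← orderOf_coe, hz]
    intro x hx
    rw [← h1] at hx
    obtain ⟨n, rfl⟩ := hx
    exact ⟨n, rfl⟩
  refine ⟨hz, hQ.1.1, fun x hx => ?_, fun x hx h _ =>
    key ⟨x, hx⟩ (mem_center_iff.2 fun y => Subtype.ext (h y y.2).symm), hc, ?_⟩
  · have := H3.pow_mem_frattini hQ.1.1 ⟨x, hx⟩
    rw [hQ.1.2.1, sq] at this
    exact key _ this
  · have := Fact.mk hp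
    obtain ⟨g, hg⟩ := exists_prime_orderOf_dvd_card' p (h3.trans Q.index_dvd_card)
    exact ⟨g, fun e => hp.ne_one (by rw [← hg, e, orderOf_one]), hg ▸ ho⟩

/-- large extraspecial subgroup with simple quotient -/
theorem good_es (T : Tools) {K : Type} [Group K] [Finite K] (hK : NAS K) {z : K}
    (hz : orderOf z = 2) {C : Type*} [Group C] (e : centralizer ({z} : Set K) ≃* C)
    (Q : Subgroup C) [Q.Normal] (hQ : IsExtraspecial 2 Q) (hc : centralizer (Q : Set C) ≤ Q)
    {L : Type*} [Group L] (f : C ⧸ Q ≃* L) (h1 : NAS L) (h2 : NSC L) (h6 : 6 ∣ Nat.card L) :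
    Good K := by
  have hm : (Q.comap e.toMonoidHom).map e.toMonoidHom = Q :=
    map_comap_eq_self_of_surjective e.surjective Q
  have g : centralizer ({z} : Set K) ⧸ Q.comap e.toMonoidHom ≃* L :=
    (QuotientGroup.congr _ _ e hm).trans f
  have hi : 6 ∣ (Q.comap e.toMonoidHom).index := by
    rwa [index, Nat.card_congr g.toEquiv]
  refine T.lx K hK z (Q.comap e.toMonoidHom) (lxd_of hz _ ?_ (fun c h => hc fun y hy => ?_)
    Nat.prime_three (by decide) (Dvd.dvd.trans (by decide) hi))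
    (even_iff_two_dvd.2 (Dvd.dvd.trans (by decide) hi)) ((nsc2_of h1 h2).congr g)
  · rwa [← H49.isExtraspecial_map_iff (f := e.toMonoidHom) e.injective, hm]
  · obtain ⟨y, rfl⟩ := e.surjective y
    exact (map_mul e y c).symm.trans ((congrArg e (h y hy)).trans (map_mul e c y))

theorem nas_of {K : Type*} [Group K] (h : IsSimpleGroup K) (h4 : 4 ∣ Nat.card K) [Finite K] :
    NAS K := by
  refine ⟨h, fun hc => ?_⟩
  have : (Nat.card K).Prime := by
    letI : CommGroup K := { ‹Group K› with mul_comm := hc.1.1 }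
    exact IsSimpleGroup.prime_card
  rcases this.eq_one_or_self_of_dvd 2 (Dvd.dvd.trans (by decide) h4) with e | e
  · omega
  · rw [← e] at h4; omega

theorem suz : SuzStmt := fun T => by
  have := H44.SuzM.finite
  obtain ⟨z, hz, Q, _, hF, hQ, -, ⟨f⟩, -⟩ := H42.SuzT.suz_type
  have hK : NAS Spor.Suz := nas_of H44.SuzM.simple (by rw [H44.SuzM.card]; decide)
  refine Good.congr (good_es T (hK.congr H59.Sz.e0.symm) hz (.refl _) Q hQ ?_ f T.sm2.2.1.1
    T.sm2.2.1.2 (by rw [H59.card_Omega6]; decide)) H59.Sz.e0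
  subst hF
  exact H52.centralizer_fstar_le

theorem he : HeStmt := fun T => by
  have := H44.HeM.finite
  let s : Matrix.SpecialLinearGroup (Fin 5) (ZMod 2) :=
    ⟨Matrix.transvection 0 1 1, Matrix.det_transvection_of_ne _ _ (by decide) _⟩
  obtain ⟨z, hz, ⟨e⟩⟩ := S2134.result s rfl
  obtain ⟨h1, -, -, ⟨-, h2, -⟩, M, h3, h4, h5, ⟨g⟩⟩ := S5424.result 3 (by decide) s rfl _ rfl
  let φ : M →* centralizer {s} ⧸ pCore 2 (centralizer {s}) :=
    (QuotientGroup.mk' _).comp (inclusion h3)
  have hφ : Function.Bijective φ := by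
    refine ⟨(injective_iff_map_eq_one φ).2 fun m hm => ?_, fun x => ?_⟩
    · have : (m : Matrix.SpecialLinearGroup (Fin 5) (ZMod 2)) ∈ (⊥ : Subgroup _) :=
        h4 ▸ ⟨⟨_, (QuotientGroup.eq_one_iff _).1 hm, rfl⟩, m.2⟩
      exact Subtype.ext this
    · obtain ⟨c, rfl⟩ := QuotientGroup.mk_surjective x
      have : (⊤ : Subgroup (centralizer {s})) = pCore 2 _ ⊔ M.subgroupOf _ := by
        apply map_injective (subtype_injective _)
        rw [Subgroup.map_sup, subgroupOf_map_subtype, inf_eq_left.2 h3, h5, ← MonoidHom.range_eq_map,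
          range_subtype]
      obtain ⟨q, hq, m, hm, rfl⟩ := mem_sup_of_normal_left.1 (this ▸ mem_top c)
      refine ⟨⟨m, hm⟩, ?_⟩
      rw [QuotientGroup.mk_mul, (QuotientGroup.eq_one_iff q).2 hq, one_mul]
      rfl
  refine good_es T (nas_of H44.HeM.simple (by rw [H44.HeM.card]; decide)) hz e _
    ((H49.isExtraspecial_map_iff (subtype_injective _)).1 h1) (fun c hc => ?_)
    ((MulEquiv.ofBijective φ hφ).symm.trans g) T.sm2.2.2.2.1.1 T.sm2.2.2.2.1.2 ?_
  · have : c.1 ∈ centralizer (((pCore 2 (centralizer {s})).map (centralizer {s}).subtype :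
        Subgroup _) : Set (Matrix.SpecialLinearGroup (Fin 5) (ZMod 2))) := by
      rintro _ ⟨y, hy, rfl⟩
      exact congrArg Subtype.val (hc y hy)
    rw [h2] at this
    obtain ⟨⟨_, y, hy, rfl⟩, -, e⟩ := this
    exact (Subtype.ext e : y = c) ▸ hy
  · have h := H26.card_units_mul_card_sl (ι := Fin 3) (R := ZMod 2)
    rw [Matrix.card_GL_field, Nat.card_eq_fintype_card (α := (ZMod 2)ˣ), ZMod.card_units] at h
    rw [show Nat.card (Matrix.SpecialLinearGroup (Fin 3) (ZMod 2)) = 168 by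
      simpa [Fin.prod_univ_three] using h]
    decide

end Cfsg.Agent.H42.FkS
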