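import Cfsg.Agent.H42.ACRed
import Cfsg.Agent.S0248
import Cfsg.Agent.S2088
import Cfsg.Agent.S2738

/-! Project AC: the map onto `N(A) / C(A)`; the triple cover of `L₃(4)`. -/

set_option autoImplicit false
set_option linter.unusedSectionVars false

namespace Cfsg.Agent.H42.AC

open Cfsg Subgroup Cfsg.Agent.H8 Cfsg.Agent.H42.AL
open scoped commutatorElement

universe u

theorem exists_cov {G : Type u} [Group G] [Finite G] {A : Subgroup G}
    (hs : IsStandardSubgroup A) : ∃ (H : Type u) (_ : Group H) (_ : Finite H) (B : Subgroup H)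
      (p : G → H), Cov A B p ∧ Nonempty (B ≃* A ⧸ center A) := by
  classical
  let N := normalizer (A : Set G)
  let K := (centralizer (A : Set G)).subgroupOf N
  have : K.Normal := ⟨fun k hk g => conj_K hs g.2 hk⟩
  let π := QuotientGroup.mk' K
  let p : G → N ⧸ K := fun g => if h : g ∈ N then π ⟨g, h⟩ else 1
  have hp : ∀ {g} (h : g ∈ N), p g = π ⟨g, h⟩ := fun h => dif_pos h
  let f : A →* N ⧸ K := π.comp (inclusion le_normalizer)
  have hk : ∀ {g} (h : g ∈ N), π ⟨g, h⟩ = 1 ↔ g ∈ centralizer (A : Set G) := fun _ =>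
    QuotientGroup.eq_one_iff _
  refine ⟨N ⧸ K, inferInstance, inferInstance, f.range, p, ⟨hs, fun a ha b hb => ?_,
    fun a ha => by rw [hp ha, hk], fun x => ?_, fun x => ?_, eq_bot_iff.2 fun x hx => ?_,
    eq_top_iff.2 fun x _ => ?_⟩, ⟨?_⟩⟩
  · rw [hp ha, hp hb, hp (mul_mem ha hb), ← map_mul]; rfl
  · obtain ⟨g, rfl⟩ := QuotientGroup.mk'_surjective K x
    exact ⟨g, g.2, hp g.2⟩
  · exact ⟨fun ⟨a, e⟩ => ⟨a, a.2, (hp (le_normalizer a.2)).trans e⟩,
      fun ⟨a, ha, e⟩ => ⟨⟨a, ha⟩, (hp (le_normalizer ha)).symm.trans e⟩⟩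
  · obtain ⟨g, rfl⟩ := QuotientGroup.mk'_surjective K x
    rcases H52.IsQuasisimple.commutator_eq_or_eq_bot hs.1 (zpowers_le.2 g.2) with e | e
    · refine absurd (e.ge.trans (commutator_le.2 ?_)) (H52.IsQuasisimple.not_le_centralizer hs.1)
      rintro a ha _ ⟨i, rfl⟩
      have h1 := commutatorElement_eq_one_iff_mul_comm.2
        (K_comm (zpow_mem hx i) (⟨⟨a, ha⟩, rfl⟩ : f ⟨a, ha⟩ ∈ f.range))
      rw [← map_zpow] at h1
      exact (QuotientGroup.eq_one_iff (N := K) ⁅(⟨a, le_normalizer ha⟩ : N), g ^ i⁆).1 h1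
    · rw [commutator_comm, commutator_eq_bot_iff_le_centralizer] at e
      exact mem_bot.2 ((hk g.2).2 (e (mem_zpowers _)))
  · obtain ⟨g, rfl⟩ := QuotientGroup.mk'_surjective K x
    refine mem_normalizer_fintype ?_
    rintro _ ⟨a, rfl⟩
    exact ⟨⟨_, conj_A g.2 a.2⟩, rfl⟩
  · have : f.ker = center A := Subgroup.ext fun a => by
      rw [MonoidHom.mem_ker, mem_center_iff]
      exact (hk _).trans ⟨fun e b => Subtype.ext (K_comm e b.2),
        fun e b hb => congrArg Subtype.val (e ⟨b, hb⟩)⟩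
    exact (QuotientGroup.quotientKerEquivRange f).symm.trans
      (QuotientGroup.quotientMulEquivOfEq this)

theorem cover_unique {L₁ L₂ Q : Type*} [Group L₁] [Finite L₁] [Group L₂] [Finite L₂] [Group Q]
    (hM : HasSchurMultiplier Q (Multiplicative (ZMod 3 × ZMod 4 × ZMod 4)))
    {π₁ : L₁ →* Q} {π₂ : L₂ →* Q} (c₁ : H80.IsCentralExt π₁) (c₂ : H80.IsCentralExt π₂)
    (p₁ : commutator L₁ = ⊤) (p₂ : commutator L₂ = ⊤) (k₁ : Nat.card π₁.ker = 3)
    (k₂ : Nat.card π₂.ker = 3) : Nonempty (L₁ ≃* L₂) := by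
  let D : Subgroup (L₁ × L₂) :=
    (π₁.comp (MonoidHom.fst L₁ L₂)).eqLocus (π₂.comp (MonoidHom.snd L₁ L₂))
  have s₁ : ⁅D, D⁆.map (MonoidHom.fst L₁ L₂) = ⊤ := by
    have : D.map (MonoidHom.fst L₁ L₂) = ⊤ := eq_top_iff.2 fun x _ => by
      obtain ⟨y, hy⟩ := c₂.surj (π₁ x)
      exact ⟨(x, y), hy.symm, rfl⟩
    rw [map_commutator, this]
    exact p₁
  have s₂ : ⁅D, D⁆.map (MonoidHom.snd L₁ L₂) = ⊤ := by
    have : D.map (MonoidHom.snd L₁ L₂) = ⊤ := eq_top_iff.2 fun y _ => by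
      obtain ⟨x, hx⟩ := c₁.surj (π₂ y)
      exact ⟨(x, y), hx, rfl⟩
    rw [map_commutator, this]
    exact p₂
  have hle : ⁅D, D⁆ ≤ D := commutator_le_self D
  have hdec : ∀ d ∈ D, ∃ x ∈ ⁅D, D⁆, ∃ z, (∀ g, g * z = z * g) ∧ d = x * z := fun d hd => by
    obtain ⟨x, hx, e⟩ := s₁.ge (mem_top d.1)
    have h1 : (x⁻¹ * d).1 = 1 := by rw [Prod.fst_mul, Prod.fst_inv, ← e]; exact inv_mul_cancel _
    have h2 : π₁ (x⁻¹ * d).1 = π₂ (x⁻¹ * d).2 := D.mul_mem (D.inv_mem (hle hx)) hd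
    rw [h1, map_one] at h2
    exact ⟨x, hx, x⁻¹ * d, fun g => Prod.ext (by rw [Prod.fst_mul g, Prod.fst_mul _ g, h1]; simp)
      (mem_center_iff.1 (c₂.central h2.symm) g.2), by group⟩
  have hp : Group.IsPerfect ↥⁅D, D⁆ := isPerfect_iff.2 (le_antisymm (commutator_le_self _)
    (commutator_le.2 fun d hd d' hd' => by
      obtain ⟨x, hx, z, hz, rfl⟩ := hdec d hd
      obtain ⟨x', hx', z', hz', rfl⟩ := hdec d' hd'
      convert commutator_mem_commutator hx hx' using 1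
      calc _ = x * (z * (x' * z') * z⁻¹) * x⁻¹ * (x' * z')⁻¹ := by rw [commutatorElement_def]; group
        _ = x * x' * (z' * x⁻¹ * z'⁻¹) * x'⁻¹ := by rw [← hz, mul_inv_cancel_right]; group
        _ = _ := by rw [← hz', mul_inv_cancel_right, commutatorElement_def]))
  generalize ⁅D, D⁆ = X at s₁ s₂ hle hp
  have t₁ : Function.Surjective ((MonoidHom.fst L₁ L₂).domRestrict X) :=
    MonoidHom.range_eq_top.1 (by rw [MonoidHom.domRestrict_range, s₁])
  have t₂ : Function.Surjective ((MonoidHom.snd L₁ L₂).domRestrict X) :=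
    MonoidHom.range_eq_top.1 (by rw [MonoidHom.domRestrict_range, s₂])
  let σ := π₁.comp ((MonoidHom.fst L₁ L₂).domRestrict X)
  have hs : Function.Surjective σ := c₁.surj.comp t₁
  obtain ⟨f, hf⟩ := H80.exists_surjective_ker_of_stem hM (ξ := σ) ⟨hs, fun z hz =>
    mem_center_iff.2 fun g => Subtype.ext (Prod.ext (mem_center_iff.1 (c₁.central hz) _)
      (mem_center_iff.1 (c₂.central ((hle z.2).symm.trans hz)) _)),
    fun _ _ => Group.IsPerfect.mem_commutator⟩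
  have q₁ : ∀ x : π₁.ker, x ^ 3 = 1 := fun _ => k₁ ▸ pow_card_eq_one'
  have q₂ : ∀ x : π₂.ker, x ^ 3 = 1 := fun _ => k₂ ▸ pow_card_eq_one'
  have h3 : Nat.card σ.ker ≤ 3 := by
    refine (Nat.card_le_card_of_surjective
      (fun x : ZMod 3 => f (Multiplicative.ofAdd (x, 0, 0))) fun y => ?_).trans (by simp)
    obtain ⟨m, rfl⟩ := hf y
    have e1 : ((f m : X) : L₁ × L₂).1 ^ 3 = 1 :=
      congrArg Subtype.val (q₁ ⟨_, (f m).2⟩)
    have e2 : ((f m : X) : L₁ × L₂).2 ^ 3 = 1 :=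
      congrArg Subtype.val (q₂ ⟨_, (hle (f m).1.2).symm.trans (f m).2⟩)
    have e3 : f m ^ 3 = 1 := Subtype.ext (Subtype.ext (Prod.ext e1 e2))
    have e4 : ∀ m : Multiplicative (ZMod 3 × ZMod 4 × ZMod 4),
        Multiplicative.ofAdd (m.toAdd.1, 0, 0) = (m ^ 3) ^ 5 * m := by decide
    exact ⟨m.toAdd.1, by simp only [e4, map_mul, map_pow, e3, one_pow, one_mul]⟩
  have card : ∀ {Y : Type _} [Group Y] {π : Y →* Q}, Function.Surjective π →
      Nat.card Y = Nat.card π.ker * Nat.card Q := fun {Y _ π} c => by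
    rw [← π.ker.card_mul_index, index_ker, MonoidHom.range_eq_top.2 c, card_top]
  have h4 := Nat.mul_le_mul_right (Nat.card Q) h3
  have n₁ : Nat.card L₁ = 3 * Nat.card Q := by
    rw [← π₁.ker.card_mul_index, index_ker, MonoidHom.range_eq_top.2 c₁.surj, card_top, k₁]
  have n₂ : Nat.card L₂ = 3 * Nat.card Q := by
    rw [← π₂.ker.card_mul_index, index_ker, MonoidHom.range_eq_top.2 c₂.surj, card_top, k₂]
  rw [← card hs] at h4
  exact ⟨(MulEquiv.ofBijective _ (t₁.bijective_of_nat_card_le (n₁ ▸ h4))).symm.trans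
    (MulEquiv.ofBijective _ (t₂.bijective_of_nat_card_le (n₂ ▸ h4)))⟩

theorem cov3 {L : Type*} [Group L] [Finite L] (hL : IsQuasisimple L) {F : Type*} [Field F]
    [Fintype F] (hF : Fintype.card F = 4) (h3 : Nat.card (center L) = 3)
    (e : L ⧸ center L ≃* Matrix.ProjectiveSpecialLinearGroup (Fin 3) F) :
    Nonempty (L ≃* Matrix.SpecialLinearGroup (Fin 3) F) := by
  have k1 : (e.toMonoidHom.comp (QuotientGroup.mk' (center L))).ker = center L := by
    rw [← MonoidHom.comap_ker, (MonoidHom.ker_eq_bot_iff _).2 e.injective]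
    exact QuotientGroup.ker_mk' _
  have k2 := QuotientGroup.ker_mk' (center (Matrix.SpecialLinearGroup (Fin 3) F))
  exact cover_unique (S2088.result hF) ⟨e.surjective.comp (QuotientGroup.mk'_surjective _), k1.le⟩
    ⟨QuotientGroup.mk'_surjective _, k2.le⟩ hL.1.commutator_eq_top (S0248.result 3 le_rfl)
    (k1.symm ▸ h3) (k2.symm ▸ (S2738.result F hF).1)

end Cfsg.Agent.H42.AC
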