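import Cfsg.Agent.H42.ASDefs2
import Cfsg.Agent.H72.ASB
import Cfsg.Agent.H10.StronglyEmbedded
import Cfsg.Agent.H6.ZStar
import Cfsg.Agent.H52.Quasisimple
import Cfsg.Agent.H37.TG2
import Cfsg.Agent.H37.Autos
import Cfsg.Agent.S1059
import Cfsg.Agent.S1347
import Cfsg.Agent.S1718
import Cfsg.Agent.S1911

/-! A standard subgroup `G₂(4)`: assembly from the interfaces. -/

set_option autoImplicit false
set_option linter.unusedSectionVars false

namespace Cfsg.Agent.H42.AS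

open Cfsg Subgroup Cfsg.Agent.H28 Cfsg.Agent.H30 Cfsg.Agent.H72.ASB Cfsg.Agent.H8
open scoped Pointwise

universe u

/-- The pieces for the case of a four-group in the centralizer. -/
structure All2 : Prop where
  fact : FactStmt.{u}
  par : ParStmt.{u}
  pre : PreStmt.{u}
  wa : WAStmt.{u}
  wb : WBStmt.{u}
  w6 : W6Stmt.{u}
  vone : VOneStmt.{u}
  phi : PhiStmt.{u}
  hd : HDStmt.{u}
  alpha : AlphaStmt.{u}
  tau : TauStmt.{u}
  qa : QAStmt.{u}
  qb : QBStmt.{u}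
  beta : BetaStmt.{u}
  kill : KillStmt.{u}
  fin : FinStmt.{u}

/-- The pieces for the case of rank one. -/
structure All1 : Prop where
  lc : LCStmt.{u}
  rp : RPStmt.{u}
  ra : RAStmt.{u}
  rq : RQStmt.{u}
  ru : RUStmt.{u}
  pure : PureStmt.{u}
  rend : REndStmt.{u}

variable {G : Type u} [Group G] [Finite G]

theorem order_two {a : G} (h1 : a ≠ 1) (h2 : a * a = 1) : orderOf a = 2 :=
  orderOf_eq_prime (by rw [pow_two, h2]) h1

theorem v1_ne {D : RD G} (h : D.Rel) : D.xv 1 ≠ 1 := fun e => one_ne_zero (v_eq_one h e)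

/-- `A ∩ K = 1`. -/
theorem AK {D : RD G} (h : D.Fa) {a : G} (ha : a ∈ D.A) (hk : a ∈ D.K) : a = 1 := by
  have := h.glob.simple
  rcases (inferInstance : (center D.A).Normal).eq_bot_or_eq_top with e | e
  · have : (⟨a, ha⟩ : D.A) ∈ center D.A :=
      mem_center_iff.2 fun b => Subtype.ext (K_comm hk b.2)
    rw [e] at this
    exact congrArg Subtype.val (mem_bot.1 this)
  · exfalso
    have h1 : (⟨D.xb 1, xb_A 1⟩ : D.A) ∈ center D.A := e ▸ mem_top _
    have h2 := congrArg Subtype.val (mem_center_iff.1 h1 ⟨D.xe 1, xe_A h.rel 1⟩)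
    simp only [coe_mul] at h2
    rw [h.rel.be, mul_assoc, mul_right_inj, eq_comm, mul_eq_right, mul_one] at h2
    exact v1_ne h.rel h2

theorem exists_fa (H : All2.{u}) {A : Subgroup G} {F : Type*} [Field F] [Fintype F]
    (hF : Fintype.card F = 4) (e : Nonempty (A ≃* Lie.chevG2.group F)) :
    ∃ D : RD G, D.A = A ∧ D.Fa := by
  obtain ⟨e⟩ := e
  obtain ⟨D, h1, h2, h3⟩ := H.fact G A ⟨e.trans (H37.validG2.fieldEquiv (H28.equivF4 hF))⟩
  exact ⟨D, h1, h2, H.par G D h2, h3 (H.par G D h2)⟩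

/-- A conjugate of `K` meets `N(A)` in a group of even order. -/
theorem exists_g {D : RD G} (h : D.Fa) (hs : IsStandardSubgroup D.A) (hn : ¬ D.A.Normal)
    (hN : ∀ N : Subgroup G, N.Normal → D.A ≤ N ∨ N ≤ D.K) :
    ∃ g, g ∉ normalizer (D.A : Set G) ∧
      Even (Nat.card ↥(D.K.map (MulAut.conj g).toMonoidHom ⊓ normalizer (D.A : Set G))) := by
  by_contra hc
  push Not at hc
  have hNK : normalizer (D.A : Set G) = normalizer (D.K : Set G) := hs.2.2.2
  have hKn : ¬ D.K.Normal := fun hK => hn (normalizer_eq_top_iff.1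
    (hNK.trans (normalizer_eq_top_iff.2 hK)))
  rcases S1911.result D.K hs.2.1 (fun g hg => by
    rw [← hNK] at hg ⊢; exact Nat.not_even_iff_odd.1 (hc g hg)) with hK | hse
  · exact hKn hK
  rcases hN (normalClosure (D.K : Set G)) inferInstance with hA | hA
  · obtain ⟨t, ht, t2⟩ := H10.even_card_iff.1 hs.2.1.1
    obtain ⟨y, hy, e⟩ := H10.SE.exists_conj_mem hse
      (s := ⟨t, le_normalClosure ht⟩) (t := ⟨D.xv 1, hA (xv_A h.rel 1)⟩)
      (le_normalizer ht) (by rw [orderOf_mk, t2]) (hNK ▸ le_normalizer (xv_A h.rel 1))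
      (by rw [orderOf_mk, order_two (v1_ne h.rel) (v_sq h.rel 1)])
    have e' : (y : G) * t * (y : G)⁻¹ = D.xv 1 := congrArg Subtype.val e
    exact v1_ne h.rel (AK h (xv_A h.rel 1) (e' ▸ (mem_normalizer_iff.1 hy t).1 ht))
  · exact hKn (le_antisymm hA le_normalClosure ▸ inferInstance)

theorem not_normal [IsSimpleGroup G] {D : RD G} (h : D.Fa) (hs : IsStandardSubgroup D.A) :
    ¬ D.A.Normal := fun hn => by
  obtain ⟨t, ht, t2⟩ := H10.even_card_iff.1 hs.2.1.1
  rcases hn.eq_bot_or_eq_top with e | e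
  · exact v1_ne h.rel (mem_bot.1 (e ▸ xv_A h.rel 1))
  · rw [AK h (e ▸ mem_top t) ht, orderOf_one] at t2
    omega

/-- The simple case with a four-group. -/
theorem main2 (H : All2.{u}) [IsSimpleGroup G] {D : RD G} (h : D.Fa)
    (hs : IsStandardSubgroup D.A) (hR : ¬ PRankLE 2 1 D.K) : Spor.IsoCo1 G := by
  obtain ⟨R, hP⟩ := H.pre G D h hs hR (exists_g h hs (not_normal h hs) fun N hN => by
    rcases hN.eq_bot_or_eq_top with rfl | rfl
    exacts [Or.inr bot_le, Or.inl le_top])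
  obtain ⟨O, r, f, c, hA⟩ := H.wa G D R h hP
  obtain ⟨v, hB⟩ := H.wb G D R O r f c h hP hA
  obtain ⟨W, π, h6⟩ := H.w6 G D R O r f c h hA hB.f_add
  obtain rfl := H.vone G D R O W r f c v π h hP hA hB h6
  obtain ⟨Φ, hΦ⟩ := H.phi G D R O W r f c π h hP hA hB h6
  have hC := H.hd G D R O W r f c π Φ h hP hA hB h6 hΦ
  have hal := H.alpha G _ W O hC
  obtain ⟨τ, κ, hT⟩ := H.tau G _ W O hC hal
  obtain ⟨Q, ϖ, Ψ, hQ, he⟩ := H.qa G _ W O τ κ hC hal hT
  dsimp only at hQ he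
  have k1 : κ * D.xv 1 = D.xv 1 * κ := hT.κ1
  have k2 : κ * D.xv om = D.xe 1 * D.xv om * κ := hT.κω
  have k3 : κ * D.xe 1 = D.xe 1 * κ := hT.κe
  have hQC := H.qb G (D.xv 1) (D.xv om) (D.xe 1 * D.xv om) κ Q O ϖ Ψ hQ (mul_mem he hQ.vQ)
    (fun e => by
      rw [hQ.π_mul _ he _ hQ.vQ, add_eq_right, hQ.π_ker _ he] at e
      have z := fun {x : F4 → G} (hx : ∀ t u, x (t + u) = x t * x u) => one_of_add hx
      rcases e with e | e
      · exact one_ne_zero (h.rel.nf 0 0 0 0 1 0 (by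
          rw [z h.rel.aa, z h.rel.bb, z h.rel.cc, z h.rel.dd, z h.rel.vv, e]; simp)).2.2.2.2.1
      · exact one_ne_zero (h.rel.nf 0 0 0 0 1 1 (by
          rw [z h.rel.aa, z h.rel.bb, z h.rel.cc, z h.rel.dd, e]; simp [v_sq h.rel])).2.2.2.2.1)
    (by rw [← mul_assoc, ← h.rel.ev]) k1 (conj_of_eq k2)
    (conj_of_eq (by
      rw [← mul_assoc, k3, mul_assoc, k2, ← mul_assoc, ← mul_assoc, sq_of_add h.rel.ee, one_mul]))
  have hb := H.beta G _ _ _ _ _ Q O ϖ Ψ (by simp) hQC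
  obtain rfl := H.kill G _ _ _ _ _ Q O ϖ Ψ (by simp) hQC hb
  obtain ⟨Q', _, h1, h2, h3, ⟨e⟩, h5⟩ := H.fin G _ _ _ _ _ Q ϖ Ψ (by simp) hQC hb
  exact S1718.result (D.xv 1) hQC.z2 Q' h1 h2 (by simpa using h3) e h5

theorem std_sub {A E : Subgroup G} (hA : IsStandardSubgroup A) (hle : A ≤ E) {a : G}
    (a2 : orderOf a = 2) (aE : a ∈ E) (aK : a ∈ centralizer (A : Set G)) :
    IsStandardSubgroup (A.subgroupOf E) := by
  have te : ∀ {s g : G}, orderOf s = 2 → s ∈ centralizer (A : Set G) →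
      g * s * g⁻¹ ∈ centralizer (A : Set G) → g ∈ normalizer (A : Set G) := fun {s g} s2 h1 h2 => by
    rw [hA.2.2.2]
    by_contra hn
    exact H10.odd_card_iff.1 (hA.2.1.2 g hn) _ ⟨h2, s, h1, rfl⟩ (by rw [H10.orderOf_conj, s2])
  have hK : ∀ x : E, x ∈ centralizer (A.subgroupOf E : Set E) ↔ (x : G) ∈ centralizer (A : Set G) :=
    fun x => ⟨fun hx y hy => congrArg Subtype.val (hx ⟨y, hle hy⟩ hy),
      fun hx y hy => Subtype.ext (hx y hy)⟩
  have hN : ∀ x : E, (x : G) ∈ normalizer (A : Set G) → x ∈ normalizer (A.subgroupOf E : Set E) :=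
    fun x hx => mem_normalizer_iff.2 fun y => mem_normalizer_iff.1 hx y
  have hNK : normalizer (A.subgroupOf E : Set E) ≤
      normalizer (centralizer (A.subgroupOf E : Set E) : Set E) := fun g hg => by
    rw [mem_normalizer_iff_conj_smul_eq] at hg ⊢
    rw [← centralizer_conj_smul, hg]
  refine ⟨H52.IsQuasisimple.of_mulEquiv hA.1 (subgroupOfEquivOfLe hle).symm,
    ⟨H10.even_card_iff.2 ⟨⟨a, aE⟩, (hK _).2 aK, by rw [← a2, ← orderOf_coe]⟩, fun g hg => ?_⟩,
    fun g hg hb => ?_, le_antisymm hNK fun g hg => ?_⟩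
  · refine H10.odd_card_iff.2 fun s hs s2 => hg (hNK (hN g ?_))
    have h1 := (hK _).1 (mem_conj_smul.1 hs.2)
    have h2 : (g : G) * ((g : G)⁻¹ * s * g) * (g : G)⁻¹ = s := by group
    refine te (s := (g : G)⁻¹ * s * g) ?_ h1 (by rw [h2]; exact (hK _).1 hs.1)
    rw [← s2, ← orderOf_coe, ← h2, H10.orderOf_conj, h2]
  · refine hA.2.2.1 g (fun e => hg (mem_normalizer_iff_conj_smul_eq.1 (hN g
      (mem_normalizer_iff_conj_smul_eq.2 e)))) ?_
    rw [commutator_eq_bot_iff_le_centralizer] at hb ⊢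
    rintro x hx _ ⟨y, hy, rfl⟩
    exact congrArg Subtype.val (hb (x := ⟨x, hle hx⟩) hx _ ⟨⟨y, hle hy⟩, hy, rfl⟩)
  · exact hN g (te a2 aK ((hK _).1 ((mem_normalizer_iff.1 hg ⟨a, aE⟩).1 ((hK _).2 aK))))

/-- The four-group lies in every normal subgroup containing `A`. -/
theorem r_mem {D : RD G} {R O E : Subgroup G} {r f : F4 → G} {c : F4} (h : D.Rel)
    (hA : WA D R O r f c) (hB : WB D r f 1) [hE : E.Normal] (hle : D.A ≤ E) (s : F4) : r s ∈ E := by
  have hf : ∀ t, f t ∈ E := fun t => by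
    have h1 : D.rho * (f (om ^ 2 * t) * D.rho⁻¹ * (f (om ^ 2 * t))⁻¹) ∈ E :=
      mul_mem (hle rho_A) (hE.conj_mem _ (inv_mem (hle rho_A)) _)
    have h2 : ∀ t : F4, om ^ 2 * (om ^ 2 * t) + om ^ 2 * t = t := by decide
    rw [← mul_assoc, ← mul_assoc, hA.rf, mul_inv_cancel_right, inv_of_add hB.f_add, ← hB.f_add,
      h2] at h1
    exact h1
  obtain ⟨x, hx⟩ := hB.sb 1 s
  have h1 : sE D f 1 * D.xb s * (sE D f 1)⁻¹ ∈ E := hE.conj_mem _ (hle (xb_A s)) _
  rw [hx] at h1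
  have h2 := (mul_mem_cancel_right (hf _)).1 ((mul_mem_cancel_right (hle (xe_A h _))).1
    ((mul_mem_cancel_right (hle (xb_A _))).1 ((mul_mem_cancel_right (hle (xv_A h _))).1 h1)))
  simpa using h2

theorem s1767 (H : All2.{u}) (hO : oddCore G = ⊥) (A : Subgroup G) (hA : IsStandardSubgroup A)
    {F : Type*} [Field F] [Fintype F] (hF : Fintype.card F = 4)
    (hAX : Nonempty (A ≃* Lie.chevG2.group F)) (hR : ¬ PRankLE 2 1 (centralizer (A : Set G))) :
    A.Normal ∨ Spor.IsoCo1 (normalClosure (A : Set G)) := by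
  obtain ⟨D, rfl, h⟩ := exists_fa H hF hAX
  refine (em D.A.Normal).imp_right fun hn => ?_
  obtain ⟨t, ht, t2⟩ := H10.even_card_iff.1 hA.2.1.1
  rcases S1347.result D.A hA hO t t2 ht with h1 | ⟨X, -, -, -, -, -, -, h2⟩ | ⟨hle, hE, -⟩
  · exact absurd h1 hn
  · refine absurd (fun B _ _ => ?_) hR
    refine (card_le_card_group B).trans ?_
    rw [h2, Nat.card_zpowers, t2]; rfl
  have hEn : (layer G).Normal := H52.layer_normal
  have hN : ∀ N : Subgroup G, N.Normal → layer G ≤ N ∨ N ≤ D.K := fun N hN => by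
    rcases (inferInstance : (N.subgroupOf (layer G)).Normal).eq_bot_or_eq_top with e | e
    · refine Or.inr fun n hn' a ha => ?_
      have h1 : a * n * a⁻¹ * n⁻¹ ∈ layer G := by
        rw [mul_assoc, mul_assoc, ← mul_assoc n]
        exact mul_mem (hle ha) (hEn.conj_mem _ (inv_mem (hle ha)) _)
      have h2 : (⟨_, h1⟩ : layer G) ∈ N.subgroupOf (layer G) :=
        mul_mem (hN.conj_mem _ hn' _) (inv_mem hn')
      rw [e] at h2
      have h3 : a * n * a⁻¹ * n⁻¹ = 1 := congrArg Subtype.val (mem_bot.1 h2)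
      rw [mul_inv_eq_one, mul_inv_eq_iff_eq_mul] at h3
      exact h3
    · exact Or.inl (subgroupOf_eq_top.1 e)
  have hcl : normalClosure (D.A : Set G) = layer G := by
    refine le_antisymm (normalClosure_le_normal hle) ((hN _ inferInstance).resolve_right fun e => ?_)
    exact v1_ne h.rel (AK h (xv_A h.rel 1) (e (le_normalClosure (xv_A h.rel 1))))
  obtain ⟨R, hP⟩ := H.pre G D h hA hR (exists_g h hA hn fun N hn => (hN N hn).imp_left hle.trans)
  obtain ⟨O, r, f, c, hW⟩ := H.wa G D R h hP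
  obtain ⟨v, hB⟩ := H.wb G D R O r f c h hP hW
  obtain ⟨W, π, h6⟩ := H.w6 G D R O r f c h hW hB.f_add
  obtain rfl := H.vone G D R O W r f c v π h hP hW hB h6
  have hRE : R ≤ layer G := fun x hx => by
    obtain ⟨s, rfl⟩ := (hW.r_mem x).1 hx
    exact r_mem h.rel hW hB hle s
  have hr1 : r 1 ∈ R := (hW.r_mem _).2 ⟨1, rfl⟩
  have hs := std_sub hA hle (order_two (fun e => one_ne_zero (hW.r_inj 1 e)) (hP.sq _ hr1))
    (hRE hr1) (hP.syl.le hr1)
  obtain ⟨D', hD', h'⟩ := exists_fa H (A := D.A.subgroupOf (layer G)) hF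
    ⟨(subgroupOfEquivOfLe hle).trans hAX.some⟩
  rw [hcl]
  refine main2 H h' (hD' ▸ hs) fun hr => ?_
  have hRK : R.subgroupOf (layer G) ≤ D'.K := fun x hx a ha =>
    Subtype.ext (K_comm (hP.syl.le hx) (show a ∈ D.A.subgroupOf (layer G) from hD' ▸ ha))
  have hc : ∀ a ∈ R, ∀ b ∈ R, a * b = b * a := fun a ha b hb => by
    have e1 := hP.sq _ (mul_mem ha hb)
    rw [← inv_eq_iff_mul_eq_one, mul_inv_rev, inv_eq_of_mul_eq_one_right (hP.sq a ha),
      inv_eq_of_mul_eq_one_right (hP.sq b hb)] at e1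
    exact e1.symm
  have := hr ((R.subgroupOf (layer G)).subgroupOf D'.K)
    ⟨⟨fun a b => Subtype.ext (Subtype.ext (Subtype.ext (hc _ a.2 _ b.2)))⟩⟩
    (fun a ha => Subtype.ext (Subtype.ext (by simpa [pow_two] using hP.sq _ ha)))
  rw [Nat.card_congr (subgroupOfEquivOfLe hRK).toEquiv,
    Nat.card_congr (subgroupOfEquivOfLe hRE).toEquiv, hP.card] at this
  omega

theorem s1751 (H : All2.{u}) (H1 : All1.{u}) [IsSimpleGroup G] (hG : ¬ IsMulCommutative G)
    (A : Subgroup G) (hA : IsStandardSubgroup A) {F : Type*} [Field F] [Fintype F]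
    (hF : Fintype.card F = 4) (hAX : Nonempty (A ≃* Lie.chevG2.group F)) : Spor.IsoCo1 G := by
  have hc : Nat.card A = 251596800 := by
    rw [Nat.card_congr hAX.some.toEquiv, S1059.result hF]; rfl
  obtain ⟨D, rfl, h⟩ := exists_fa H hF hAX
  by_cases hR : PRankLE 2 1 D.K
  swap
  · exact main2 H h hA hR
  exfalso
  obtain ⟨t, ht, t2⟩ := H10.even_card_iff.1 hA.2.1.1
  have hcomm : ∀ N : Subgroup G, N.Normal → N ≠ ⊥ → N = ⊤ := fun N hN h =>
    hN.eq_bot_or_eq_top.resolve_left h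
  obtain ⟨O, hP⟩ := H1.rp G D t h hA hR ht t2 (by
    by_contra hc
    push Not at hc
    have hz := H6.zstar G (u := t) ⟨t2, fun g hg => by_contra fun e => hc g e hg.eq.symm⟩
    have hO : pPrimeCore 2 G = ⊥ := by
      by_contra hO
      have h1 := hcomm _ inferInstance hO
      have h2 : (Nat.card (pPrimeCore 2 G)).Coprime 2 := H52.coprime_card_pPrimeCore
      rw [h1, card_top] at h2
      exact absurd (t2 ▸ orderOf_dvd_natCard t) ((Nat.Prime.coprime_iff_not_dvd Nat.prime_two).1 h2.symm)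
    have h1 : t ∈ center G := mem_center_iff.2 fun g => by
      have := hz g
      rw [hO, mem_bot, mul_inv_eq_one, mul_inv_eq_iff_eq_mul] at this
      exact this.symm
    have h2 := hcomm (center G) inferInstance fun e => by
      rw [e, mem_bot] at h1; rw [h1, orderOf_one] at t2; omega
    exact hG ⟨⟨fun a b => (mem_center_iff.1 (h2 ▸ mem_top b : b ∈ center G) a)⟩⟩)
  obtain ⟨f, c, hRA⟩ := H1.ra G D t O h hP
  obtain ⟨cs, ds, hRQ⟩ := H1.rq G D t O f c h hP hRA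
  obtain ⟨Us, hU⟩ := H1.ru G D t O f cs ds c h hP hRA hRQ
  obtain ⟨M, hM⟩ := H1.rend G D t O Us h hc hP hU
    (H1.pure G D t O f cs ds c h (H1.lc G D h) hP hRA hRQ)
  rcases (M.normal_of_index_eq_two hM).eq_bot_or_eq_top with e | e
  · rw [e, index_bot] at hM
    have := card_le_card_group D.A
    omega
  · rw [e, index_top] at hM
    omega

end Cfsg.Agent.H42.AS
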