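import Cfsg.Agent.H42.ALDefs2
import Cfsg.Agent.H42.ASGlue
import Cfsg.Agent.H28.Transport
import Cfsg.Agent.S1719

/-! A standard subgroup `L₃(4)`: assembly from the interfaces. -/

set_option autoImplicit false
set_option linter.unusedSectionVars false

namespace Cfsg.Agent.H42.AL

open Cfsg Subgroup Cfsg.Agent.H28 Cfsg.Agent.H30 Cfsg.Agent.H8
open Cfsg.Agent.H42.AS (om order_two)
open Cfsg.Agent.H72.ASB (one_of_add sq_of_add inv_of_add)
open scoped Pointwise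

universe u

structure All2 : Prop where
  fact : FactStmt.{u}
  par : ParStmt.{u}
  pre : PreStmt.{u}
  wa : WAStmt.{u}
  wb : WBStmt.{u}
  w4 : W4Stmt.{u}
  vone : VOneStmt.{u}
  phi : PhiStmt.{u}
  hd : HDStmt.{u}
  alpha : AlphaStmt.{u}
  tau : TauStmt.{u}
  qa : QAStmt.{u}
  qb : QBStmt.{u}
  kg : KGStmt.{u}
  beta : AS.BetaStmt.{u}
  kill : AS.KillStmt.{u}
  fin : AS.FinStmt.{u}

structure All1 : Prop where
  rp : RPStmt.{u}
  ra : RAStmt.{u}
  rq : RQStmt.{u}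
  rs : RSStmt.{u}
  pure : PureStmt.{u}
  fus : FusStmt.{u}
  ry : RYStmt.{u}
  rend : REndStmt.{u}
  rbad : RBadStmt.{u}

variable {G : Type u} [Group G] [Finite G]

theorem v1_ne {D : RD G} (h : D.Rel) : D.xv 1 ≠ 1 := fun e => one_ne_zero (h.nf 0 0 1 (by
  rw [one_of_add h.ee, one_of_add h.bb, e]; simp)).2.2

theorem xv_A {D : RD G} (h : D.Rel) (t : F4) : D.xv t ∈ D.A := by
  have e : D.xv t = D.nb * D.xe t * D.nb⁻¹ := by rw [h.nbe, mul_inv_cancel_right]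
  have h1 : D.nb ∈ D.A := subset_closure (Or.inr (Or.inr rfl))
  exact e ▸ mul_mem (mul_mem h1 (subset_closure (Or.inl (Or.inl ⟨t, rfl⟩)))) (inv_mem h1)

theorem exists_g {D : RD G} (h : D.Fa) (hs : IsStandardSubgroup D.A) (hn : ¬ D.A.Normal)
    (hN : ∀ N : Subgroup G, N.Normal → D.A ≤ N ∨ N ≤ D.K) :
    ∃ g, g ∉ D.N ∧ Even (Nat.card ↥(D.K.map (MulAut.conj g).toMonoidHom ⊓ D.N)) := by
  by_contra hc
  push Not at hc
  have hNK : D.N = normalizer (D.K : Set G) := hs.2.2.2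
  have hKn : ¬ D.K.Normal := fun hK => hn (normalizer_eq_top_iff.1
    (hNK.trans (normalizer_eq_top_iff.2 hK)))
  rcases S1911.result D.K hs.2.1 (fun g hg => by
    rw [← hNK] at hg ⊢; exact Nat.not_even_iff_odd.1 (hc g hg)) with hK | hse
  · exact hKn hK
  rcases hN (normalClosure (D.K : Set G)) inferInstance with hA | hA
  · obtain ⟨t, ht, t2⟩ := H10.even_card_iff.1 hs.2.1.1
    obtain ⟨y, hy, e⟩ := H10.SE.exists_conj_mem hse
      (s := ⟨t, le_normalClosure ht⟩) (t := ⟨D.xv 1, hA (xv_A h.rel 1)⟩)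
      (le_normalizer ht) (by rw [orderOf_mk, t2]) (hNK ▸ le_normalizer (xv_A h.rel 1))
      (by rw [orderOf_mk, order_two (v1_ne h.rel) (sq_of_add h.rel.vv 1)])
    have e' : (y : G) * t * (y : G)⁻¹ = D.xv 1 := congrArg Subtype.val e
    exact v1_ne h.rel (h.par.AK _ (xv_A h.rel 1) (e' ▸ (mem_normalizer_iff.1 hy t).1 ht))
  · exact hKn (le_antisymm hA le_normalClosure ▸ inferInstance)

theorem not_normal [IsSimpleGroup G] {D : RD G} (h : D.Fa) (hs : IsStandardSubgroup D.A) :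
    ¬ D.A.Normal := fun hn => by
  obtain ⟨t, ht, t2⟩ := H10.even_card_iff.1 hs.2.1.1
  rcases hn.eq_bot_or_eq_top with e | e
  · exact v1_ne h.rel (mem_bot.1 (e ▸ xv_A h.rel 1))
  · rw [h.par.AK t (e ▸ mem_top t) ht, orderOf_one] at t2
    omega

theorem no_index_two [IsSimpleGroup G] {D : RD G} (h : D.Fa) (M : Subgroup G) : M.index ≠ 2 :=
  fun hM => by
  rcases (M.normal_of_index_eq_two hM).eq_bot_or_eq_top with e | e
  · rw [e, index_bot] at hM
    have := card_le_card_group D.A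
    rw [h.glob.card] at this
    omega
  · rw [e, index_top] at hM
    omega

theorem main2 (H : All2.{u}) [IsSimpleGroup G] {D : RD G} (h : D.Fa)
    (hs : IsStandardSubgroup D.A) (hR : ¬ PRankLE 2 1 D.K) : Spor.IsoSuz G := by
  obtain ⟨R, hP⟩ := H.pre G D h hs hR (exists_g h hs (not_normal h hs) fun N hN => by
    rcases hN.eq_bot_or_eq_top with rfl | rfl
    exacts [Or.inr bot_le, Or.inl le_top])
  obtain ⟨O, r, f, c, hA⟩ := H.wa G D R h hP
  obtain ⟨v, v', hB, hB'⟩ := H.wb G D R O r f c h hP hA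
  obtain ⟨W1, π1, h1⟩ := H.w4 G D R O r f c 1 h hA hB.f_add one_ne_zero
  have hv := H.vone G D R O W1 r f c v v' π1 h hP hA hB hB' h1
  obtain ⟨W, π, h4⟩ := H.w4 G D R O r f c v h hA hB.f_add (left_ne_zero_of_mul_eq_one hv)
  obtain ⟨Φ, hΦ⟩ := H.phi G D R O W r f c v v' π h hP hA hB hB' hv h4
  obtain ⟨C, hC⟩ := H.hd G D R O W r f c v v' π Φ h hP hA hB hB' hv h4 hΦ
  have hal := H.alpha G C W O hC
  obtain ⟨τ, κ, hT⟩ := H.tau G C W O hC hal
  obtain ⟨Q, ϖ, Ψ, hQ⟩ := H.qa G C W O τ κ hC hal hT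
  have hQC := H.kg G C W O Q ϖ Ψ (no_index_two h) hC hal hQ (H.qb G C W O Q τ κ ϖ Ψ hC hT hQ)
  have hb := H.beta G _ _ _ _ _ Q O ϖ Ψ (by simp) hQC
  obtain rfl := H.kill G _ _ _ _ _ Q O ϖ Ψ (by simp) hQC hb
  obtain ⟨Q', _, h1, h2, h3, ⟨e⟩, h5⟩ := H.fin G _ _ _ _ _ Q ϖ Ψ (by simp) hQC hb
  exact S1719.result (C.v 1) hQC.z2 Q' h1 h2 (by simpa using h3) e h5

theorem main1 (H1 : All1.{u}) [IsSimpleGroup G] (hG : ¬ IsMulCommutative G) {D : RD G} (h : D.Fa)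
    (hA : IsStandardSubgroup D.A) : ¬ PRankLE 2 1 D.K := fun hR => by
  obtain ⟨t, ht, t2⟩ := H10.even_card_iff.1 hA.2.1.1
  have hcomm : ∀ N : Subgroup G, N.Normal → N ≠ ⊥ → N = ⊤ := fun N hN h =>
    hN.eq_bot_or_eq_top.resolve_left h
  obtain ⟨O, hP⟩ := H1.rp G D t h hA hR ht t2 (by
    by_contra hc
    push Not at hc
    have hz := H6.zstar G (u := t) ⟨t2, fun g hg => by_contra fun e => hc g e hg.eq.symm⟩
    have hO : pPrimeCore 2 G = ⊥ := by
      by_contra hO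
      have h1 := hcomm _ inferInstance hO
      have h2 : (Nat.card (pPrimeCore 2 G)).Coprime 2 := H52.coprime_card_pPrimeCore
      rw [h1, card_top] at h2
      exact absurd (t2 ▸ orderOf_dvd_natCard t) ((Nat.Prime.coprime_iff_not_dvd Nat.prime_two).1 h2.symm)
    have h1 : t ∈ center G := mem_center_iff.2 fun g => by
      have := hz g
      rw [hO, mem_bot, mul_inv_eq_one, mul_inv_eq_iff_eq_mul] at this
      exact this.symm
    have h2 := hcomm (center G) inferInstance fun e => by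
      rw [e, mem_bot] at h1; rw [h1, orderOf_one] at t2; omega
    exact hG ⟨⟨fun a b => (mem_center_iff.1 (h2 ▸ mem_top b : b ∈ center G) a)⟩⟩)
  obtain ⟨f, c, hRA⟩ := H1.ra G D t O h hP
  obtain ⟨c0, hRQ⟩ := H1.rq G D t O f c h hP hRA
  have hRS := H1.rs G D t O f c c0 h hP hRA hRQ
  have hpu := H1.pure G D t O f c c0 h hP hRA hRQ hRS
  obtain ⟨Y, hY⟩ := H1.ry G D t O h hP
  rcases H1.rend G D t O Y f c c0 h hP hRA hRQ hRS hpu hY with ⟨M, hM⟩ | ⟨γ, φ, hb⟩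
  · exact no_index_two h M hM
  · obtain ⟨M, hM⟩ := H1.rbad G D t O Y f c c0 γ φ h hP hRA hRQ hRS hpu
      (H1.fus G D t O f c c0 h hP hRA hRQ hRS) hY hb
    exact no_index_two h M hM

theorem s1748 (H : All2.{u}) (H1 : All1.{u}) [IsSimpleGroup G] (hG : ¬ IsMulCommutative G)
    (A : Subgroup G) (hA : IsStandardSubgroup A) {F : Type*} [Field F] [Fintype F]
    (hF : Fintype.card F = 4) (e : Nonempty (A ≃* Matrix.ProjectiveSpecialLinearGroup (Fin 3) F)) :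
    Spor.IsoSuz G := by
  obtain ⟨D, rfl, h1, h2⟩ := H.fact G A ⟨e.some.trans (H28.pslEquiv (H28.equivF4 hF) _)⟩
  have h : D.Fa := ⟨h1, h2, H.par G D h1 h2⟩
  exact main2 H h hA (main1 H1 hG h hA)

end Cfsg.Agent.H42.AL
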