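import Cfsg.Agent.H42.ACKit
import Cfsg.Agent.H52.PComponent
import Cfsg.Agent.H52.Fitting
import Cfsg.Agent.H89.Cj
import Cfsg.Agent.H76.AsPre
import Cfsg.Agent.H2.Tri
import Cfsg.Agent.H80.SchurHopf

/-! Project AC: standard subgroups modulo a normal subgroup of odd order. -/

set_option autoImplicit false
set_option linter.unusedSectionVars false

namespace Cfsg.Agent.H42.AC

open Cfsg Subgroup Cfsg.Agent.H8
open scoped Pointwise commutatorElement

universe u

variable {G G' : Type u} [Group G] [Finite G] [Group G'] [Finite G'] {A : Subgroup G}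

theorem four_of (hR : ¬ PRankLE 2 1 (centralizer (A : Set G))) :
    ∃ a ∈ centralizer (A : Set G), ∃ b ∈ centralizer (A : Set G),
      a * a = 1 ∧ b * b = 1 ∧ a ≠ 1 ∧ b ≠ 1 ∧ a ≠ b ∧ a * b = b * a := by
  obtain ⟨a, b, h1, h2, h3, h4, h5, h6⟩ := H2.exists_two_of_not_pRankLE hR
  exact ⟨a, a.2, b, b.2, congrArg Subtype.val h1, congrArg Subtype.val h2,
    fun e => h3 (Subtype.ext e), fun e => h4 (Subtype.ext e), fun e => h5 (Subtype.ext e),
    congrArg Subtype.val h6.eq⟩

theorem mem_of_odd_pow {H : Subgroup G} {x : G} {n d : ℕ} (hx : x ^ 2 ^ n = 1) (hd : Odd d)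
    (h : x ^ d ∈ H) : x ∈ H := by
  obtain ⟨m, hm⟩ := exists_pow_eq_self_of_coprime (x := x) (n := d) (Nat.Coprime.coprime_dvd_right
    (orderOf_dvd_of_pow_eq_one hx) (Nat.Coprime.pow_right n hd.coprime_two_right))
  exact hm ▸ pow_mem h m

/-- `O(G)` centralizes `A`. -/
theorem core_le (hs : IsStandardSubgroup A) (hev : 2 ∣ Nat.card A)
    (hR : ¬ PRankLE 2 1 (centralizer (A : Set G))) {O : Subgroup G} [hO : O.Normal]
    (ho : Odd (Nat.card O)) : O ≤ centralizer (A : Set G) := by
  obtain ⟨a, ha, b, hb, a2, b2, a1, b1, ab, c⟩ := four_of hR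
  have k : ∀ {x y : G}, x ∈ centralizer (A : Set G) → x * x = 1 → x ≠ 1 → Commute y x →
      y ∈ normalizer (A : Set G) := fun hx h2 h1 e =>
    cent_N hs hx (n := 1) (by rwa [pow_one, pow_two]) h1 e.eq
  have hN : O ≤ normalizer (A : Set G) := H89.Rec.four_gen a2 b2 c a1 b1 ab ho
    (normalizer_eq_top_iff.2 hO ▸ mem_top _) (normalizer_eq_top_iff.2 hO ▸ mem_top _)
    (fun y _ => k ha a2 a1) (fun y _ => k hb b2 b1) fun y _ => k (mul_mem ha hb)
      (by rw [mul_assoc, ← mul_assoc b, ← c, mul_assoc, b2, mul_one, a2]) fun e =>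
        ab (by rw [← inv_eq_of_mul_eq_one_right e, inv_eq_of_mul_eq_one_right a2])
  rcases H52.IsQuasisimple.commutator_eq_or_eq_bot hs.1 hN with e | e
  · have := hev.trans (card_dvd_of_le (e ▸ commutator_le_right A O : A ≤ O))
    exact absurd (even_iff_two_dvd.2 this) (Nat.not_even_iff_odd.2 ho)
  · rwa [commutator_comm, commutator_eq_bot_iff_le_centralizer] at e

/-- A criterion for standard subgroups. -/
theorem std_of (hq : IsQuasisimple A) {t : G} (ht : t ∈ centralizer (A : Set G))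
    (t2 : orderOf t = 2)
    (h1 : ∀ g x, x ∈ centralizer (A : Set G) → g⁻¹ * x * g ∈ centralizer (A : Set G) →
      orderOf x = 2 → g ∈ normalizer (A : Set G))
    (h2 : ∀ g, (∀ a ∈ A, g * a * g⁻¹ ∈ centralizer (A : Set G)) → g ∈ normalizer (A : Set G)) :
    IsStandardSubgroup A := by
  have hNK : normalizer (A : Set G) ≤ normalizer (centralizer (A : Set G) : Set G) :=
    fun g hg => by
      rw [mem_normalizer_iff_conj_smul_eq] at hg ⊢
      rw [← centralizer_conj_smul, hg]
  refine ⟨hq, ⟨H10.even_card_iff.2 ⟨t, ht, t2⟩, fun g hg => H10.odd_card_iff.2 fun s hs s2 =>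
    hg (hNK (h1 g s hs.1 (mem_conj_smul.1 hs.2) s2))⟩, fun g hg hb => hg
      (mem_normalizer_iff_conj_smul_eq.1 (h2 g fun a ha => ?_)), le_antisymm hNK fun g hg =>
        h1 g t ht (by simpa using (mem_normalizer_iff.1 (inv_mem hg) t).1 ht) t2⟩
  rw [commutator_comm, commutator_eq_bot_iff_le_centralizer] at hb
  exact hb ⟨a, ha, rfl⟩

theorem perf_closure (hs : IsStandardSubgroup A) : Group.IsPerfect (normalClosure (A : Set G)) :=
  isPerfect_iff.2 (le_antisymm (commutator_le_self _) (normalClosure_le_normal fun _ ha =>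
    commutator_mono le_normalClosure le_normalClosure ((perf hs).ge ha)))

/-- A quotient map with kernel of odd order centralizing `A`. -/
structure OQ (π : G →* G') (A : Subgroup G) : Prop where
  surj : Function.Surjective π
  odd : Odd (Nat.card π.ker)
  le : π.ker ≤ centralizer (A : Set G)
  std : IsStandardSubgroup A
  ev : 2 ∣ Nat.card A

namespace OQ

variable {π : G →* G'} (h : OQ π A)
include h

theorem two_mem {x : G} {n : ℕ} (hx : x ^ 2 ^ n = 1) (hm : π x ∈ A.map π) : x ∈ A := by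
  obtain ⟨a, ha, e⟩ := hm
  have ho : a⁻¹ * x ∈ π.ker := by rw [MonoidHom.mem_ker, map_mul, map_inv, e, inv_mul_cancel]
  refine mem_of_odd_pow hx h.odd ?_
  have hc : Commute a (a⁻¹ * x) := K_comm (h.le ho) ha
  have := hc.mul_pow (Nat.card π.ker)
  rw [mul_inv_cancel_left, show (a⁻¹ * x) ^ Nat.card π.ker = 1 from
    congrArg Subtype.val (pow_card_eq_one' (x := (⟨_, ho⟩ : π.ker))), mul_one] at this
  exact this ▸ pow_mem ha _

theorem norm_iff {g : G} : π g ∈ normalizer (A.map π : Set G') ↔ g ∈ normalizer (A : Set G) := by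
  refine ⟨fun hg => mem_normalizer_fintype fun a ha => ?_, fun hg => le_normalizer_map π ⟨g, hg, rfl⟩⟩
  have : A ≤ MulAut.conj g⁻¹ • A := by
    conv_lhs => rw [← H52.IsQuasisimple.pElementClosure_eq (p := 2) h.std.1 h.ev]
    refine (closure_le _).2 ?_
    rintro x ⟨hx, k, hk⟩
    refine mem_conj_smul.2 (h.two_mem (n := k) ?_ ?_)
    · rw [show g⁻¹⁻¹ * x * g⁻¹ = g * x * g⁻¹ by group, conj_pow, ← hk, pow_orderOf_eq_one]; group
    · simpa using (mem_normalizer_iff.1 hg _).1 (mem_map_of_mem π hx)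
  simpa using mem_conj_smul.1 (this ha)

theorem not_le : ¬ A ≤ π.ker := fun e =>
  Nat.not_even_iff_odd.2 h.odd (even_iff_two_dvd.2 (h.ev.trans (card_dvd_of_le e)))

theorem cent_iff {g : G} :
    π g ∈ centralizer (A.map π : Set G') ↔ g ∈ centralizer (A : Set G) := by
  refine ⟨fun hg => ?_, fun hg => ?_⟩
  · rcases H52.IsQuasisimple.commutator_eq_or_eq_bot h.std.1
      (zpowers_le.2 (h.norm_iff.1 (K_N hg))) with e | e
    · refine absurd (e.ge.trans (commutator_le.2 ?_)) h.not_le
      rintro a ha _ ⟨i, rfl⟩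
      rw [MonoidHom.mem_ker, map_commutatorElement, commutatorElement_eq_one_iff_mul_comm, map_zpow]
      exact K_comm (zpow_mem hg i) (mem_map_of_mem π ha)
    · rw [commutator_comm, commutator_eq_bot_iff_le_centralizer] at e
      exact e (mem_zpowers g)
  · rintro _ ⟨a, ha, rfl⟩
    rw [← map_mul, K_comm hg ha, map_mul]

theorem std' : IsStandardSubgroup (A.map π) := by
  obtain ⟨t, ht, t2⟩ := H10.even_card_iff.1 h.std.2.1.1
  refine std_of (H52.IsQuasisimple.map h.std.1 π fun e => h.not_le ((Subgroup.map_eq_bot_iff _).1 e))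
    (h.cent_iff.2 ht) (orderOf_eq_prime (by rw [← map_pow, ← t2, pow_orderOf_eq_one, map_one])
      fun e => H10.odd_card_iff.1 h.odd t e t2) (fun g x hx hx' x2 => ?_)
    fun g hg => ?_
  · obtain ⟨g, rfl⟩ := h.surj g
    obtain ⟨y, rfl⟩ := h.surj x
    have e2 : π y * π y = 1 := by rw [← pow_two, ← x2, pow_orderOf_eq_one]
    obtain ⟨d, hd⟩ := h.odd
    have e : π (y ^ Nat.card π.ker) = π y := by
      rw [hd, map_pow, pow_succ, pow_mul, pow_two, e2, one_pow, one_mul]
    rw [← e] at hx hx' x2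
    refine h.norm_iff.2 (te2 h.std (h.cent_iff.1 hx) (h.cent_iff.1 (by simpa using hx')) ?_
      fun e => ?_)
    · rw [← (Commute.refl y).mul_pow]
      exact congrArg Subtype.val (pow_card_eq_one' (x := (⟨y * y, by
        rw [MonoidHom.mem_ker, map_mul, e2]⟩ : π.ker)))
    · rw [e, map_one, orderOf_one] at x2; omega
  · obtain ⟨g, rfl⟩ := h.surj g
    refine h.norm_iff.2 (mem_normalizer_iff_conj_smul_eq.2 ?_)
    by_contra hne
    refine h.std.2.2.1 g hne ?_
    rw [commutator_comm, commutator_eq_bot_iff_le_centralizer]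
    rintro _ ⟨a, ha, rfl⟩
    exact h.cent_iff.1 (by simpa using hg _ (mem_map_of_mem π ha))

theorem rank (hR : ¬ PRankLE 2 1 (centralizer (A : Set G))) :
    ¬ PRankLE 2 1 (centralizer (A.map π : Set G')) := fun hr => by
  obtain ⟨a, ha, b, hb, a2, b2, a1, b1, ab, c⟩ := four_of hR
  have k : ∀ {x : G}, x * x = 1 → x ≠ 1 → π x ≠ 1 := fun h2 h1 e =>
    H10.odd_card_iff.1 h.odd _ e (orderOf_eq_prime (by rwa [pow_two]) h1)
  have := H76.AsPre.rank1 hr (h.cent_iff.2 ha) (h.cent_iff.2 hb) (by rw [← map_mul, a2, map_one])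
    (by rw [← map_mul, b2, map_one]) (by rw [← map_mul, c, map_mul]) (k a2 a1) (k b2 b1)
  exact k (x := a * b) (by rw [mul_assoc, ← mul_assoc b, ← c, mul_assoc, b2, mul_one, a2])
    (fun e => ab (by rw [← inv_eq_of_mul_eq_one_right e, inv_eq_of_mul_eq_one_right a2]))
    (by rw [map_mul, this, ← map_mul, b2, map_one])

theorem normal (hn : (A.map π).Normal) : A.Normal :=
  normalizer_eq_top_iff.1 (eq_top_iff.2 fun _ _ =>
    h.norm_iff.1 (normalizer_eq_top_iff.2 hn ▸ mem_top _))

theorem cen_iff {a : A} : π.subgroupMap A a ∈ center (A.map π) ↔ a ∈ center A := by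
  rw [mem_center_iff, mem_center_iff]
  refine ⟨fun e b => Subtype.ext (K_comm (h.cent_iff.1 fun y hy =>
    congrArg Subtype.val (e ⟨y, hy⟩)) b.2), fun e b => ?_⟩
  obtain ⟨b, rfl⟩ := π.subgroupMap_surjective A b
  rw [← map_mul, e, map_mul]

theorem quot : Nonempty (A.map π ⧸ center (A.map π) ≃* A ⧸ center A) := by
  let f := (QuotientGroup.mk' (center (A.map π))).comp (π.subgroupMap A)
  have hk : f.ker = center A := Subgroup.ext fun a => by
    rw [MonoidHom.mem_ker, ← h.cen_iff]; exact QuotientGroup.eq_one_iff _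
  exact ⟨((QuotientGroup.quotientMulEquivOfEq hk).symm.trans
    (QuotientGroup.quotientKerEquivOfSurjective f ((QuotientGroup.mk'_surjective _).comp
      (π.subgroupMap_surjective A)))).symm⟩

/-- The normal closure of `A` is a stem extension of that of its image. -/
theorem stem {S : Type*} [Group S] {n : ℕ} (hM : HasCyclicSchurMultiplier S n)
    (e : normalClosure (A.map π : Set G') ≃* S) :
    ∃ σ : normalClosure (A : Set G) →* S, Function.Surjective σ ∧ Nat.card σ.ker ∣ n ∧
      Odd (Nat.card σ.ker) ∧ ∀ x, σ x = 1 ↔ π x = 1 := by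
  have hm : (normalClosure (A : Set G)).map π = normalClosure (A.map π : Set G') := by
    rw [map_normalClosure _ _ h.surj, coe_map]
  let σ : normalClosure (A : Set G) →* S :=
    e.toMonoidHom.comp ((MulEquiv.subgroupCongr hm).toMonoidHom.comp (π.subgroupMap _))
  have hs : Function.Surjective σ := e.surjective.comp
    ((MulEquiv.subgroupCongr hm).surjective.comp (π.subgroupMap_surjective _))
  have hk : ∀ x, σ x = 1 ↔ π x = 1 := fun x => by
    change e _ = 1 ↔ _
    rw [map_eq_one_iff e e.injective]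
    exact Subtype.ext_iff
  have hc : normalClosure (A : Set G) ≤ centralizer (π.ker : Set G) :=
    normalClosure_le_normal (le_centralizer_iff.1 h.le)
  have := perf_closure h.std
  obtain ⟨f, hf⟩ := H80.exists_surjective_ker_of_stem hM (ξ := σ) ⟨hs, fun x hx =>
    mem_center_iff.2 fun y => Subtype.ext (hc y.2 _ ((hk x).1 hx)).symm,
    fun _ _ => Group.IsPerfect.mem_commutator⟩
  refine ⟨σ, hs, (card_dvd_of_surjective f hf).trans (dvd_of_eq (Nat.card_zmod n)),
    Odd.of_dvd_nat h.odd ?_, hk⟩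
  exact card_dvd_of_injective (((Subgroup.subtype _).comp σ.ker.subtype).codRestrict π.ker
    fun x => (hk _).1 x.2) fun x y e => by
      have := congrArg Subtype.val e
      exact Subtype.ext (Subtype.ext this)

end OQ

theorem oq_core (hs : IsStandardSubgroup A) (hev : 2 ∣ Nat.card A)
    (hR : ¬ PRankLE 2 1 (centralizer (A : Set G))) : OQ (QuotientGroup.mk' (oddCore G)) A := by
  have ho : Odd (Nat.card (oddCore G)) := Nat.coprime_two_right.1 H52.coprime_card_pPrimeCore
  refine ⟨QuotientGroup.mk'_surjective _, ?_, ?_, hs, hev⟩ <;> rw [QuotientGroup.ker_mk']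
  exacts [ho, core_le hs hev hR ho]

end Cfsg.Agent.H42.AC
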