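import Cfsg.Agent.H28.AlQa
import Cfsg.Agent.H60.AlB
import Cfsg.Agent.H76.AsQB

/-! Project AL, piece KG: linear algebra and the involutions of `C(V) ∩ N(W)`. -/

set_option autoImplicit false
set_option synthInstance.maxSize 4000

namespace Cfsg.Agent.H42.KG

open Cfsg Subgroup Cfsg.Agent.H28 Cfsg.Agent.H30 QuadraticMap Cfsg.Agent.H42.AL Module
open Cfsg.Agent.H42.AS (om)
open H76.AsQB (z2 pself exists_ker indep)
open H60.AlT (ap vv2 qf pf qf_eq pf_eq)

section Geo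

variable {V : Type*} [AddCommGroup V] [Module (ZMod 2) V] [FiniteDimensional (ZMod 2) V]
  {Q : QuadraticForm (ZMod 2) V} (hQ : (polarBilin Q).Nondegenerate)

omit [FiniteDimensional (ZMod 2) V] in
theorem a2 (x : V) : x + x = 0 := by rw [← two_smul (ZMod 2), show (2 : ZMod 2) = 0 from rfl, zero_smul]

omit [FiniteDimensional (ZMod 2) V] in
theorem sub2 (x y : V) : x - y = x + y := by
  rw [sub_eq_add_neg, neg_eq_of_add_eq_zero_right (a2 y)]

include hQ

/-- An even involution in dimension at most seven is an Eichler map. -/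
theorem inv_eich (h7 : finrank (ZMod 2) V ≤ 7) {σ : O Q} (h1 : σ ∈ kerDS hQ) (h2 : σ * σ = 1)
    (h3 : σ ≠ 1) : ∃ u v c d : V, Q u = 0 ∧ polar Q u v = 0 ∧ u ≠ 0 ∧ v ≠ 0 ∧ v ≠ u ∧
      σ.1 c + c = u ∧ σ.1 d + d = v ∧ σ = eich Q u v := by
  have ss : ∀ x, σ.1 (σ.1 x) = x := fun x => by rw [← O_mul_apply, h2]; rfl
  have adj : ∀ x y, polar Q (σ.1 x + x) y = polar Q x (σ.1 y + y) := fun x y => by
    rw [polar_add_left, polar_add_right, ← O_polar σ (σ.1 x), ss]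
  have le : movSp σ ≤ fixSp σ := fun y hy => by
    obtain ⟨x, rfl⟩ := mem_movSp.1 hy
    rw [mem_fixSp, map_sub, ss, sub2, sub2, add_comm]
  have d1 := finrank_movSp_add_finrank_fixSp σ
  have d2 := Submodule.finrank_mono le
  have d3 : Even (finrank (ZMod 2) (movSp σ)) := by
    have := (mem_kerDS_of_two_eq_zero hQ rfl).1 h1
    rw [dickson_apply] at this
    exact (neg_one_pow_eq_one_iff_even (by decide)).1 this
  have d4 : finrank (ZMod 2) (movSp σ) ≠ 0 := fun k => h3 (O_ext fun x => by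
    have : σ.1 x - x ∈ movSp σ := mem_movSp.2 ⟨x, rfl⟩
    rw [Submodule.finrank_eq_zero.1 k, Submodule.mem_bot, sub_eq_zero] at this
    exact this)
  have d5 : finrank (ZMod 2) (movSp σ) = 2 := by
    obtain ⟨k, hk⟩ := d3
    omega
  have mv : ∀ x, σ.1 x + x ∈ movSp σ := fun x => mem_movSp.2 ⟨x, sub2 _ _⟩
  have orth : ∀ a ∈ movSp σ, ∀ b ∈ movSp σ, polar Q a b = 0 := fun a ha b hb => by
    obtain ⟨x, rfl⟩ := mem_movSp.1 ha
    rw [sub2, adj, mem_fixSp.1 (le hb), a2, polar_zero_right]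
  obtain ⟨u, hu, v, hv, qu, u0, v0, vu, sp⟩ : ∃ u ∈ movSp σ, ∃ v ∈ movSp σ, Q u = 0 ∧ u ≠ 0 ∧
      v ≠ 0 ∧ v ≠ u ∧ ∀ m ∈ movSp σ, ∃ s t : ZMod 2, m = s • u + t • v := by
    let B := finBasisOfFinrankEq (ZMod 2) (movSp σ) d5
    have li : ∀ s t : ZMod 2, s • (B 0 : V) + t • (B 1 : V) = 0 → s = 0 ∧ t = 0 := fun s t k => by
      have := B.linearIndependent
      rw [show (B : Fin 2 → movSp σ) = ![B 0, B 1] by ext i; fin_cases i <;> rfl,
        LinearIndependent.pair_iff] at this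
      exact this s t (Subtype.ext k)
    have sp : ∀ m ∈ movSp σ, ∃ s t : ZMod 2, m = s • (B 0 : V) + t • (B 1 : V) := fun m hm => by
      have := congrArg Subtype.val (B.sum_repr ⟨m, hm⟩)
      rw [Fin.sum_univ_two] at this
      exact ⟨_, _, this.symm⟩
    have n0 : (B 0 : V) ≠ 0 := fun k => one_ne_zero (li 1 0 (by simp [k])).1
    have n1 : (B 1 : V) ≠ 0 := fun k => one_ne_zero (li 0 1 (by simp [k])).2
    have n2 : (B 1 : V) ≠ B 0 := fun k => one_ne_zero (li 1 1 (by simp [k, a2])).2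
    by_cases q0 : Q (B 0) = 0
    · exact ⟨_, (B 0).2, _, (B 1).2, q0, n0, n1, n2, sp⟩
    by_cases q1 : Q (B 1) = 0
    · exact ⟨_, (B 1).2, _, (B 0).2, q1, n1, n0, n2.symm, fun m hm => by
        obtain ⟨s, t, e⟩ := sp m hm
        exact ⟨t, s, by rw [e, add_comm]⟩⟩
    refine ⟨_, add_mem (B 0).2 (B 1).2, _, (B 1).2, ?_, fun k => ?_, n1, fun k => ?_,
      fun m hm => ?_⟩
    · rw [Q_add, z2 q0, z2 q1, orth _ (B 0).2 _ (B 1).2]; rfl
    · exact one_ne_zero (li 1 1 (by simpa using k)).1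
    · exact n0 (by simpa using k)
    · obtain ⟨s, t, e⟩ := sp m hm
      refine ⟨s, s + t, ?_⟩
      have := a2 (s • (B 1 : V))
      rw [e]
      linear_combination (norm := module) - this
  obtain ⟨c, hc⟩ := mem_movSp.1 hu
  obtain ⟨d, hd⟩ := mem_movSp.1 hv
  rw [sub2] at hc hd
  have qq : ∀ x, Q (σ.1 x + x) = polar Q (σ.1 x + x) x := fun x => by
    rw [Q_add, O_map, CharTwo.add_self_eq_zero, zero_add, polar_add_left, pself, add_zero]
  have e1 : polar Q u c = 0 := by rw [← qu, ← hc, qq]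
  have e2 : polar Q v d = Q v := by rw [← hd, qq]
  have e3 : polar Q u d = polar Q v c := by rw [← hc, adj, hd, polar_comm]
  have e4 : polar Q v c = 1 := z2 fun k => u0 (eq_zero_of_polar hQ fun y => by
    obtain ⟨s, t, e⟩ := sp _ (mv y)
    rw [← hc, adj, e, polar_add_right, polar_smul_right', polar_smul_right', polar_comm Q c,
      polar_comm Q c, e1, k]
    simp)
  have uv := orth u hu v hv
  refine ⟨u, v, c, d, qu, uv, u0, v0, vu, hc, hd, O_ext fun x => ?_⟩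
  obtain ⟨s, t, e⟩ := sp _ (mv x)
  have k1 : polar Q x u = t := by
    rw [← hc, ← adj, e, polar_add_left, polar_smul_left', polar_smul_left', e1, e4]; simp
  have k2 : polar Q x v = s + t * Q v := by
    rw [← hd, ← adj, e, polar_add_left, polar_smul_left', polar_smul_left', e2, e3, e4, hd]; simp
  rw [eich_apply qu uv, k1, k2, ← add_left_inj x, e, sub2, sub2, add_smul, mul_comm t]
  have h1 := a2 x
  have h2 := a2 ((Q v * t) • u)
  linear_combination (norm := module) - h1 - h2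

/-- The even isometries are transitive on the nonzero singular vectors. -/
theorem trans1 (h3 : 3 ≤ finrank (ZMod 2) V) {x y : V} (hx : x ≠ 0) (hy : y ≠ 0) (h : Q x = Q y) :
    ∃ φ ∈ kerDS hQ, φ.1 x = y := by
  obtain ⟨g, hg⟩ := witt_one hQ hx hy h
  obtain ⟨φ, k1, k2⟩ := exists_ker hQ g (W := ZMod 2 ∙ y) (by
    rw [finrank_span_singleton hy]; omega)
  exact ⟨φ, k1, by rw [k2 _ (by rw [hg]; exact Submodule.mem_span_singleton_self y), hg]⟩

omit [FiniteDimensional (ZMod 2) V] hQ in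
theorem refl_self {v : V} : (refl Q v).1 v = v := refl_apply_of_orth (pself v)

/-- adjust the parity by a reflection that fixes the two vectors -/
theorem trans2 {u v u' v' w : V} (hu : u ≠ 0) (hv : v ≠ 0) (h : v ≠ u) (hu' : u' ≠ 0)
    (hv' : v' ≠ 0) (h' : v' ≠ u') (q1 : Q u = Q u') (q2 : Q v = Q v')
    (q3 : polar Q u v = polar Q u' v') (hw : Q w ≠ 0) (w1 : polar Q u' w = 0)
    (w2 : polar Q v' w = 0) : ∃ φ ∈ kerDS hQ, φ.1 u = u' ∧ φ.1 v = v' := by
  obtain ⟨g, g1, g2⟩ := witt_two hQ (indep hQ hu hv h) (indep hQ hu' hv' h') q1 q2 q3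
  rcases Int.units_eq_one_or (dickson hQ g) with k | k
  · exact ⟨g, (mem_kerDS_of_two_eq_zero hQ rfl).2 k, g1, g2⟩
  · exact ⟨refl Q w * g, (mem_kerDS_of_two_eq_zero hQ rfl).2
      (by rw [map_mul, k, dickson_refl hQ hw]; simp),
      by rw [O_mul_apply, g1, refl_apply_of_orth w1], by rw [O_mul_apply, g2, refl_apply_of_orth w2]⟩

end Geo

theorem idx1 : ∀ u v : N4, qf u = 0 → u ≠ 0 → pf u v = 0 → qf v = 0 → v = 0 ∨ v = u := by
  decide +kernel

theorem fix4 : ∀ u v : N4, qf u = 0 → u ≠ 0 → pf u v = 0 → qf v = 1 → ∀ x : N4,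
    x + pf x u • v - pf x v • u - (qf v * pf x u) • u = x → ∃ s t : ZMod 2, x = s • u + t • v := by
  decide +kernel

/-- the isotropic vectors of `W / V` -/
theorem iso4 {x : N4 × N4} (h : qq x = 0) :
    (∃ s n, q4 n = 0 ∧ x = sm s (n, 0)) ∨ ∃ φ ∈ kerDS hq4, ap φ x = (vP', vP) := by
  have h1 : q4 x.1 + q4 x.2 = 0 := congrArg QuadraticAlgebra.re h
  have h2 : polar q4 x.1 x.2 + q4 x.2 = 0 := congrArg QuadraticAlgebra.im h
  by_cases k : q4 x.2 = 0
  · left
    rw [k, add_zero] at h1 h2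
    have : ∀ a b : N4, qf a = 0 → pf a b = 0 → qf b = 0 →
        ∃ s n, qf n = 0 ∧ (a, b) = sm s (n, 0) := by decide +kernel
    simp only [← qf_eq, ← pf_eq] at this
    exact this _ _ h1 h2 k
  · right
    have k2 := z2 k
    have k1 : q4 x.1 = 1 := by rw [k2] at h1; revert h1; generalize q4 x.1 = a; revert a; decide
    have k3 : polar q4 x.1 x.2 = 1 := by
      rw [k2] at h2; revert h2; generalize polar q4 x.1 x.2 = a; revert a; decide
    have v : q4 vP' = 1 ∧ q4 vP = 1 ∧ polar q4 vP' vP = 1 ∧ q4 (vE + vF) ≠ 0 ∧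
        polar q4 vP' (vE + vF) = 0 ∧ polar q4 vP (vE + vF) = 0 ∧ vP' ≠ 0 ∧ vP ≠ 0 ∧ vP ≠ vP' := by
      simp only [qMinus_apply, polar_qMinus]
      decide
    obtain ⟨v1, v2, v3, v4, v5, v6, v7, v8, v9⟩ := v
    obtain ⟨φ, a, b, c⟩ := trans2 hq4 (u := x.1) (v := x.2) (fun e => by simp [e] at k1)
      (fun e => by simp [e] at k2) (fun e => by rw [e, pself] at k3; exact absurd k3 (by decide))
      v7 v8 v9 (k1.trans v1.symm) (k2.trans v2.symm) (k3.trans v3.symm) v4 v5 v6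
    exact ⟨φ, a, Prod.ext b c⟩

theorem bq_onto {x : N4 × N4} (h : x ≠ 0) (s : F4) : ∃ y, bq y x = s := by
  obtain ⟨y, hy⟩ : ∃ y, bq x y ≠ 0 := by
    by_contra! k
    exact h (H60.AlT.bq_nd k)
  refine ⟨sm (s * (bq x y)⁻¹) y, ?_⟩
  rw [H60.AlT.bq_sm, H60.AlT.bq_comm y, mul_assoc, inv_mul_cancel₀ hy, mul_one]

theorem qq_sm : ∀ s : F4, ∃ t : F4, ∀ n : N4, q4 n = 1 → qq (sm t (n, 0)) = s := by
  simp only [qq, qf_eq, pf_eq]
  decide +kernel

theorem same_pt : ∀ n m : N4, q4 n = 0 → q4 m = 0 → ∀ s t : F4,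
    bq (sm s (n, 0)) (sm t (m, 0)) = 0 → sm s (n, 0) ≠ 0 → ∃ t', sm t (m, 0) = sm t' (n, 0) := by
  simp only [bq, qf_eq, pf_eq]
  decide +kernel

theorem bq_vals : (∀ s t : F4, bq (sm s (vP + vP', vP)) (sm t (vE, 0)) = 0 ∧
    bq (sm s (vP', vP)) (sm t (vE, 0)) = 0) ∧
    ∀ s : F4, bq (sm s (vP + vP', vP)) (sm 1 (vP', vP)) = s := by
  simp only [bq, pf_eq]
  decide +kernel

end Cfsg.Agent.H42.KG
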