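import Cfsg.Agent.H42.ALKgA

/-! Project AL, piece KG: the involutions of `C(V) ∩ N(W)`. -/

set_option autoImplicit false
set_option linter.unusedSectionVars false

namespace Cfsg.Agent.H42.KG

open Cfsg Subgroup Cfsg.Agent.H28 Cfsg.Agent.H30 QuadraticMap Cfsg.Agent.H42.AL Module
open Cfsg.Agent.H42.AS (om)
open H76.AsQB (z2 pself)
open H60.AlT (ap vv2 qf pf qf_eq pf_eq)
open H28.AlQ (v_zero v_sq z_ne v_inj' π_v π_one v_comm mem_cV mem_V W_le odd_kill)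

universe u

variable {G : Type u} [Group G] {C : WD G} {W Od : Subgroup G} (h : WC C W Od)
include h

theorem four {a : G} (ha : a ∈ W) : a ^ 2 ^ 2 = 1 := by
  rw [show a ^ 2 ^ 2 = a * a * (a * a) by simp [pow_succ, mul_assoc], h.sq a ha, v_sq h]

theorem pW : IsPGroup 2 W := fun a => ⟨2, Subtype.ext (four h a.2)⟩

theorem π_inv {a : G} (ha : a ∈ W) : C.π a⁻¹ = C.π a := by
  have := h.π_mul _ (inv_mem ha) _ ha
  rw [inv_mul_cancel, π_one h] at this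
  exact add_right_cancel (this.symm.trans (vv2 _).symm)

theorem π_eq {a b : G} (ha : a ∈ W) (hb : b ∈ W) (e : C.π a = C.π b) : ∃ s, a = C.v s * b := by
  obtain ⟨s, k⟩ := (h.π_ker _ (mul_mem ha (inv_mem hb))).1 (by
    rw [h.π_mul _ ha _ (inv_mem hb), π_inv h hb, e, vv2])
  exact ⟨s, by rw [k]; group⟩

theorem nW {g a : G} (hg : g ∈ C.M0 W) (ha : a ∈ W) : g * a * g⁻¹ ∈ W :=
  (mem_normalizer_iff.1 hg.2 a).1 ha

theorem act {g a : G} (hg : g ∈ C.M0 W) (ha : a ∈ W) :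
    C.π (g * a * g⁻¹) = ap (C.Φ g) (C.π a) := h.phi.act g hg a ha

theorem cv {g : G} (hg : g ∈ C.M0 W) (s : F4) : g * C.v s = C.v s * g :=
  (hg.1 _ (subset_closure ⟨s, rfl⟩)).symm

theorem Φ_mul {g k : G} (hg : g ∈ C.M0 W) (hk : k ∈ C.M0 W) : C.Φ (g * k) = C.Φ g * C.Φ k :=
  h.phi.Φ_mul g hg k hk

theorem Φ_one : C.Φ 1 = 1 := by simpa using Φ_mul h (one_mem _) (one_mem _)

theorem Φ_inv {g : G} (hg : g ∈ C.M0 W) : C.Φ g⁻¹ = (C.Φ g)⁻¹ :=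
  eq_inv_of_mul_eq_one_left (by rw [← Φ_mul h (inv_mem hg) hg, inv_mul_cancel, Φ_one h])

theorem lift {φ : O q4} (k : φ ∈ kerDS hq4) : ∃ g ∈ C.M0 W, C.Φ g = φ :=
  let ⟨g, h1, h2, _⟩ := h.phi.Φ_surj φ k
  ⟨g, h1, h2⟩

theorem fuse {a b : G} (ha : a ∈ W) (hb : b ∈ W) (e : C.π a = C.π b) (n : C.π b ≠ 0) :
    IsConj b a := by
  obtain ⟨s, rfl⟩ := π_eq h ha hb e
  obtain ⟨y, hy⟩ := bq_onto n s
  obtain ⟨c, hc, rfl⟩ := h.π_surj y
  exact isConj_iff.2 ⟨c, by rw [h.comm c hc b hb, hy]; group⟩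

theorem cls {a : G} (ha : a ∈ W) (a2 : a * a = 1) :
    (∃ s n, q4 n = 0 ∧ C.π a = sm s (n, 0)) ∨ IsConj (C.r 1) a := by
  refine (iso4 (h.v_inj _ (by rw [← h.sq a ha, a2]))).imp_right fun ⟨φ, k1, k2⟩ => ?_
  obtain ⟨g, hg, rfl⟩ := lift h k1
  refine (fuse h (nW h hg ha) (h.rW 1) (by rw [act h hg ha, k2, h.πr, H60.AlT.sm_one])
    (by rw [h.πr]; decide)).trans (isConj_iff.2 ⟨g⁻¹, by group⟩)

theorem toE {n : N4} (n0 : n ≠ 0) (hn : q4 n = 0) : ∃ g ∈ C.M0 W, ∀ a ∈ W, ∀ s,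
    C.π a = sm s (n, 0) → C.π (g * a * g⁻¹) = sm s (vE, 0) := by
  obtain ⟨φ, k1, k2⟩ := trans1 hq4 (by simp) n0 H60.AlT.q_vals.2.2.2.2.1
    (hn.trans H60.AlT.q_vals.2.2.1.symm)
  obtain ⟨g, hg, rfl⟩ := lift h k1
  exact ⟨g, hg, fun a ha s e => by rw [act h hg ha, e, H60.AlT.ap_sm, ap, k2, map_zero]⟩

theorem pure_conj {a : G} (ha : a ∈ W) (a1 : a ≠ 1) {s : F4} {n : N4} (hn : q4 n = 0)
    (e : C.π a = sm s (n, 0)) : IsConj (C.v 1) a := by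
  by_cases k : C.π a = 0
  · obtain ⟨t, rfl⟩ := (h.π_ker a ha).1 k
    exact h.vconj t fun e => a1 (by rw [e, v_zero h])
  have s0 : s ≠ 0 := fun e' => k (by rw [e, e']; ext <;> simp [sm])
  obtain ⟨g, hg, k2⟩ := toE h (fun e' => k (by rw [e, e']; ext <;> simp [sm])) hn
  have c1 : IsConj (C.v s) (C.e s) := isConj_iff.2 ⟨C.n1⁻¹, by
    rw [inv_inv, mul_assoc, ← h.n1e]; group⟩
  have c2 := fuse h (nW h hg ha) (h.eW s) ((k2 a ha s e).trans (h.πe s).symm) (by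
    rw [h.πe]; clear c1 k2 e; revert s; decide)
  exact (((h.vconj s s0).trans c1).trans c2).trans (isConj_iff.2 ⟨g⁻¹, by group⟩)

theorem invW {a : G} (ha : a ∈ W) (a2 : a * a = 1) (a1 : a ≠ 1) :
    IsConj (C.v 1) a ∨ IsConj (C.r 1) a :=
  (cls h ha a2).imp_left fun ⟨_, _, hn, e⟩ => pure_conj h ha a1 hn e

variable [Finite G]

theorem memW {g : G} (hg : g ∈ C.M0 W) (e : C.Φ g = 1) {k : ℕ} (hk : g ^ 2 ^ k = 1) : g ∈ W := by
  obtain ⟨a, ha, o, ho, rfl⟩ := h.phi.Φ_ker g hg e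
  have : o ^ 2 ^ (k + 2) = 1 := by
    have e1 : (a * o) ^ 2 ^ (k + 2) = 1 := by rw [pow_add, pow_mul, hk, one_pow]
    have e2 : a ^ 2 ^ (k + 2) = 1 := by rw [add_comm, pow_add, pow_mul, four h ha, one_pow]
    rwa [Commute.mul_pow (h.OW o ho a ha).symm, e2, one_mul] at e1
  rwa [odd_kill h ho this, mul_one]

/-- the even involutions outside `W` are conjugate to `t` -/
theorem invM {y : G} (hy : y ∈ C.M0 W) (y2 : y * y = 1) (ev : C.Φ y ∈ kerDS hq4)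
    (n : C.Φ y ≠ 1) : IsConj (C.r 1) y := by
  have ti : C.t⁻¹ = C.t := inv_eq_of_mul_eq_one_right h.t2
  have nt : C.Φ C.t ≠ 1 := fun k => h.tW (memW h h.tM k (k := 1) (by simpa [pow_two] using h.t2))
  obtain ⟨u, v, c, d, q1, q2, u0, v0, vu, hc, hd, e⟩ := inv_eich hq4 (by simp) h.tev
    (by rw [← Φ_mul h h.tM h.tM, h.t2, Φ_one h]) nt
  obtain ⟨u', v', -, -, q1', q2', u0', v0', vu', -, -, e'⟩ := inv_eich hq4 (by simp) ev
    (by rw [← Φ_mul h hy hy, y2, Φ_one h]) n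
  have ns : ∀ {u v : N4}, q4 u = 0 → polar q4 u v = 0 → u ≠ 0 → v ≠ 0 → v ≠ u → q4 v = 1 :=
    fun {u v} a b c d e => z2 fun k =>
      (idx1 u v (qf_eq _ ▸ a) c (pf_eq _ _ ▸ b) (qf_eq _ ▸ k)).elim d e
  have qv := ns q1 q2 u0 v0 vu
  obtain ⟨φ, k1, k2, k3⟩ := trans2 hq4 u0' v0' vu' u0 v0 vu (q1'.trans q1.symm)
    ((ns q1' q2' u0' v0' vu').trans qv.symm) (q2'.trans q2.symm) (w := v) (by rw [qv]; decide) q2
    (pself v)
  obtain ⟨g, hg, rfl⟩ := lift h k1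
  have hy' : g * y * g⁻¹ ∈ C.M0 W := mul_mem (mul_mem hg hy) (inv_mem hg)
  have e1 : C.Φ (g * y * g⁻¹) = C.Φ C.t := by
    rw [Φ_mul h (mul_mem hg hy) (inv_mem hg), Φ_mul h hg hy, Φ_inv h hg, e', eich_conj, k2, k3, e]
  have y2' : g * y * g⁻¹ * (g * y * g⁻¹) = 1 := by rw [conj_mul, y2]; group
  refine (h.tr.trans ?_).trans (isConj_iff.2 ⟨g⁻¹, (by group : g⁻¹ * (g * y * g⁻¹) * g⁻¹⁻¹ = y)⟩)
  generalize g * y * g⁻¹ = x at hy' e1 y2'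
  obtain ⟨w, hw, o, ho, e2⟩ := h.phi.Φ_ker _ (mul_mem h.tM hy') (by
    rw [Φ_mul h h.tM hy', e1, ← Φ_mul h h.tM h.tM, h.t2, Φ_one h])
  have e3 : x = C.t * w * o := by rw [mul_assoc, ← e2, ← mul_assoc, h.t2, one_mul]
  have co : Commute (C.t * w) o := (Commute.mul_right (h.tO o ho) (h.OW o ho w hw)).symm
  have tw : C.t * w * (C.t * w) ∈ W := by
    have := mul_mem (nW h h.tM hw) hw
    rwa [ti, mul_assoc (C.t * w)] at this
  have o1 : o = 1 := odd_kill h ho (k := 3) (by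
    have e4 : (C.t * w * o) ^ 2 ^ 3 = 1 := by
      rw [← e3, show 2 ^ 3 = 2 * 4 from rfl, pow_mul, pow_two, y2', one_pow]
    rwa [co.mul_pow, show 2 ^ 3 = 2 * 2 ^ 2 from rfl, pow_mul, pow_two (C.t * w), four h tw,
      one_mul] at e4)
  rw [o1, mul_one] at e3
  subst e3
  -- the image of `w` is fixed by `t`
  have fx : ap (C.Φ C.t) (C.π w) = C.π w := by
    rw [← act h h.tM hw, ← π_inv h hw, ti]
    congr 1
    exact eq_inv_of_mul_eq_one_left (by rw [mul_assoc (C.t * w), y2'])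
  have im : ∀ x : N4, (C.Φ C.t).1 x = x → ∃ n, (C.Φ C.t).1 n + n = x := fun x k => by
    have := fix4 u v (qf_eq _ ▸ q1) u0 (pf_eq _ _ ▸ q2) (qf_eq _ ▸ qv) x (by
      rw [e, eich_apply q1 q2, polar_comm q4 x, polar_comm q4 x] at k
      simpa only [← qf_eq, ← pf_eq, polar_comm q4 x] using k)
    obtain ⟨s, t, rfl⟩ := this
    exact ⟨s • c + t • d, by rw [← hc, ← hd, map_add, map_smul, map_smul]; module⟩
  have cm : ∀ b ∈ W, b * C.t * b⁻¹ = C.t * (C.t * b * C.t⁻¹ * b⁻¹) ∧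
      C.π (C.t * b * C.t⁻¹ * b⁻¹) = ap (C.Φ C.t) (C.π b) + C.π b := fun b hb =>
    ⟨by rw [ti, ← mul_assoc, ← mul_assoc, ← mul_assoc, h.t2, one_mul],
      by rw [h.π_mul _ (nW h h.tM hb) _ (inv_mem hb), act h h.tM hb, π_inv h hb]⟩
  obtain ⟨n1, k4⟩ := im _ (congrArg Prod.fst fx)
  obtain ⟨n2, k5⟩ := im _ (congrArg Prod.snd fx)
  obtain ⟨b, hb, eb⟩ := h.π_surj (n1, n2)
  obtain ⟨s, e5⟩ := π_eq h hw (mul_mem (nW h h.tM hb) (inv_mem hb))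
    (by rw [(cm b hb).2, eb]; exact Prod.ext k4.symm k5.symm)
  -- `t v(s)` is conjugate to `t`
  obtain ⟨r, hr⟩ := qq_sm s
  obtain ⟨b', hb', eb'⟩ := h.π_surj (sm r (d, 0))
  have m := mul_mem (nW h h.tM hb') (inv_mem hb')
  have pa : C.π (C.t * b' * C.t⁻¹ * b'⁻¹) = sm r (v, 0) := by
    rw [(cm b' hb').2, eb', H60.AlT.ap_sm, ← hd]
    ext <;> simp [sm, ap]
  have sq := h.sq _ m
  rw [pa, hr v qv] at sq
  have iv : C.t * (C.t * b' * C.t⁻¹ * b'⁻¹) * C.t⁻¹ = (C.t * b' * C.t⁻¹ * b'⁻¹)⁻¹ := by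
    rw [← (cm b' hb').1]; group
  generalize C.t * b' * C.t⁻¹ * b'⁻¹ = a at m sq iv
  have c1 : a⁻¹ * C.t * a⁻¹⁻¹ = C.t * C.v s := by
    rw [← sq, ← iv]
    calc _ = C.t * a * (C.t⁻¹ * C.t) * (C.t * a * C.t⁻¹)⁻¹ := by group
      _ = _ := by rw [iv]; group
  refine (isConj_iff.2 ⟨_, c1⟩).trans (isConj_iff.2 ⟨b, ?_⟩)
  calc _ = b * C.t * (C.v s * b⁻¹) := by group
    _ = b * C.t * b⁻¹ * C.v s := by rw [(v_comm h s (inv_mem hb)).eq]; group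
    _ = _ := by
      rw [(cm b hb).1, e5, (v_comm h s (mul_mem (nW h h.tM hb) (inv_mem hb))).eq]; group

end Cfsg.Agent.H42.KG
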