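import Mathlib

/-! Extensions of a group by a submodule of a binary permutation module: derivations into the
permutation module, splitting and uniqueness. -/

set_option autoImplicit false

namespace Cfsg.Agent.H42.Ext

open MulAction

theorem two_self (a : ZMod 2) : a + a = 0 := by revert a; decide

theorem fun_self {X : Type*} (u : X → ZMod 2) : u + u = 0 := funext fun _ => two_self _

theorem odd_smul {M : Type*} [AddCommGroup M] (h : ∀ u : M, u + u = 0) {n : ℕ} (hn : Odd n)
    (u : M) : n • u = u := by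
  obtain ⟨k, rfl⟩ := hn
  rw [add_smul, mul_comm, mul_smul, two_smul, h, smul_zero, zero_add, one_smul]

/-- An extension of `G` whose kernel is embedded in the functions on the `G`-set `X`. -/
structure Data (E G X : Type*) [Group E] [Group G] [MulAction G X] where
  /-- the projection -/
  π : E →* G
  /-- the embedding of the kernel -/
  β : E → X → ZMod 2
  surj : Function.Surjective π
  add : ∀ n m, π n = 1 → π m = 1 → β (n * m) = β n + β m
  conj : ∀ g n x, π n = 1 → β (g * n * g⁻¹) (π g • x) = β n x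
  faith : ∀ n, π n = 1 → β n = 0 → n = 1

/-- The action on functions. -/
def act {G X : Type*} [Group G] [MulAction G X] (g : G) (u : X → ZMod 2) : X → ZMod 2 :=
  fun x => u (g⁻¹ • x)

section
variable {G X : Type*} [Group G] [MulAction G X]

theorem act_apply (g : G) (u : X → ZMod 2) (x : X) : act g u x = u (g⁻¹ • x) := rfl

theorem act_add (g : G) (u v : X → ZMod 2) : act g (u + v) = act g u + act g v := rfl

theorem act_zero (g : G) : act g (0 : X → ZMod 2) = 0 := rfl

theorem act_one (u : X → ZMod 2) : act (1 : G) u = u := by funext x; simp [act]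

theorem act_mul (g h : G) (u : X → ZMod 2) : act (g * h) u = act g (act h u) := by
  funext x; simp [act, mul_smul]

theorem act_sum {ι : Type*} (s : Finset ι) (g : G) (u : ι → X → ZMod 2) :
    act g (∑ i ∈ s, u i) = ∑ i ∈ s, act g (u i) := by
  funext x; simp [act, Finset.sum_apply]

end

variable {E E' G X : Type*} [Group E] [Group E'] [Group G] [MulAction G X]

namespace Data

variable (D : Data E G X)

theorem β_one : D.β 1 = 0 := by
  have h := D.add 1 1 (map_one _) (map_one _)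
  rw [mul_one, fun_self] at h
  exact h

theorem β_inv {n : E} (h : D.π n = 1) : D.β n⁻¹ = D.β n := by
  have h1 := D.add n⁻¹ n (by rw [map_inv, h, inv_one]) h
  rw [inv_mul_cancel, D.β_one] at h1
  rw [← add_zero (D.β n⁻¹), ← fun_self (D.β n), ← add_assoc, ← h1, zero_add]

theorem π_conj (g : E) {n : E} (h : D.π n = 1) : D.π (g * n * g⁻¹) = 1 := by simp [h]

theorem β_conj (g : E) {n : E} (h : D.π n = 1) : D.β (g * n * g⁻¹) = act (D.π g) (D.β n) := by
  funext x
  rw [act_apply, ← D.conj g n _ h, smul_inv_smul]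

/-- The image of the kernel. -/
def V : AddSubgroup (X → ZMod 2) where
  carrier := {u | ∃ n, D.π n = 1 ∧ D.β n = u}
  zero_mem' := ⟨1, map_one _, D.β_one⟩
  add_mem' := by
    rintro _ _ ⟨n, hn, rfl⟩ ⟨m, hm, rfl⟩
    exact ⟨n * m, by rw [map_mul, hn, hm, mul_one], D.add n m hn hm⟩
  neg_mem' := by
    rintro u hu
    rwa [neg_eq_of_add_eq_zero_left (fun_self u)]

theorem mem_V {u : X → ZMod 2} : u ∈ D.V ↔ ∃ n, D.π n = 1 ∧ D.β n = u := Iff.rfl

theorem act_mem (g : G) {u : X → ZMod 2} (h : u ∈ D.V) : act g u ∈ D.V := by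
  obtain ⟨n, hn, rfl⟩ := h
  obtain ⟨e, rfl⟩ := D.surj g
  exact ⟨_, D.π_conj e hn, D.β_conj e hn⟩

/-- Derivations extending the embedding of the kernel. -/
structure IsDer (f : E → X → ZMod 2) : Prop where
  mul : ∀ g h, f (g * h) = f g + act (D.π g) (f h)
  ker : ∀ n, D.π n = 1 → f n = D.β n

variable {D}

theorem IsDer.cob {f : E → X → ZMod 2} (h : D.IsDer f) (u : X → ZMod 2) :
    D.IsDer fun e => f e + (act (D.π e) u + u) where
  mul g k := by
    rw [h.mul, map_mul, act_mul, act_add, act_add]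
    have := fun_self (act (D.π g) u)
    calc _ = f g + act (D.π g) (f k) + (act (D.π g) (act (D.π k) u) + u) +
          (act (D.π g) u + act (D.π g) u) := by rw [this, add_zero]
      _ = _ := by abel
  ker n hn := by rw [hn, act_one, fun_self, add_zero, h.ker n hn]

theorem IsDer.mem_ker {f : E → X → ZMod 2} (h : D.IsDer f) {n : E} (hn : D.π n = 1) :
    f n ∈ D.V := ⟨n, hn, (h.ker n hn).symm⟩

theorem IsDer.one {f : E → X → ZMod 2} (h : D.IsDer f) : f 1 = 0 := by
  rw [h.ker 1 (map_one _), D.β_one]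

theorem IsDer.inv {f : E → X → ZMod 2} (h : D.IsDer f) (g : E) :
    f g⁻¹ = act (D.π g)⁻¹ (f g) := by
  have h1 := h.mul g⁻¹ g
  rw [inv_mul_cancel, h.one, map_inv] at h1
  rw [← add_zero (f g⁻¹), ← fun_self (act (D.π g)⁻¹ (f g)), ← add_assoc, ← h1, zero_add]

theorem IsDer.congr {f : E → X → ZMod 2} (h : D.IsDer f) {e e' : E} (he : D.π e = D.π e') :
    f e + f e' ∈ D.V := by
  have h1 : D.π (e * e'⁻¹) = 1 := by rw [map_mul, map_inv, he, mul_inv_cancel]
  have h2 := h.mul (e * e'⁻¹) e'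
  rw [inv_mul_cancel_right, h1, act_one] at h2
  rw [h2, add_assoc, fun_self, add_zero]
  exact h.mem_ker h1

/-- A derivation is inner on a subgroup of odd order, modulo the kernel. -/
theorem IsDer.odd {f : E → X → ZMod 2} (h : D.IsDer f) (L : Subgroup G) [Finite L]
    (hL : Odd (Nat.card L)) : ∃ u, ∀ e, D.π e ∈ L → f e + (act (D.π e) u + u) ∈ D.V := by
  have := Fintype.ofFinite L
  choose s hs using D.surj
  refine ⟨∑ l : L, f (s l), fun e he => ?_⟩
  have h1 : ∑ l : L, (f (e * s l) + f (s (((⟨_, he⟩ : L) * l : L) : G))) ∈ D.V :=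
    sum_mem fun l _ => h.congr (by rw [map_mul, hs, hs]; rfl)
  have h2 : ∑ l : L, f (s (((⟨_, he⟩ : L) * l : L) : G)) = ∑ l : L, f (s l) :=
    Equiv.sum_comp (Equiv.mulLeft (⟨_, he⟩ : L)) (fun l : L => f (s l))
  rw [Finset.sum_add_distrib, h2, Finset.sum_congr rfl (fun (l : L) _ => h.mul e (s l)), Finset.sum_add_distrib, Finset.sum_const,
    Finset.card_univ, ← Nat.card_eq_fintype_card, odd_smul fun_self hL, ← act_sum] at h1
  rwa [← add_assoc]

/-- The elements sent into the image of the kernel. -/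
def IsDer.sub {f : E → X → ZMod 2} (h : D.IsDer f) : Subgroup E where
  carrier := {e | f e ∈ D.V}
  one_mem' := h.mem_ker (map_one _)
  mul_mem' := fun {a b} ha hb => by
    show f (a * b) ∈ D.V
    rw [h.mul]
    exact add_mem ha (D.act_mem _ hb)
  inv_mem' := fun {a} ha => by
    show f a⁻¹ ∈ D.V
    rw [h.inv]
    exact D.act_mem _ ha

theorem eq_top_of_gen (D : Data E G X) (K : Subgroup E) (hK : ∀ n, D.π n = 1 → n ∈ K) {S : Set G}
    (hS : Subgroup.closure S = ⊤) (h : ∀ g ∈ S, ∃ e ∈ K, D.π e = g) (e : E) : e ∈ K := by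
  have h1 : D.π e ∈ K.map D.π := by
    have : Subgroup.closure S ≤ K.map D.π := (Subgroup.closure_le _).mpr h
    exact this (hS ▸ Subgroup.mem_top _)
  obtain ⟨k, hk, e1⟩ := h1
  have := mul_mem (hK (e * k⁻¹) (by rw [map_mul, map_inv, e1, mul_inv_cancel])) hk
  rwa [inv_mul_cancel_right] at this

/-- An inner derivation splits the extension. -/
theorem IsDer.split {f : E → X → ZMod 2} (h : D.IsDer f) {S : Set G}
    (hS : Subgroup.closure S = ⊤) (hf : ∀ g ∈ S, ∃ e, f e ∈ D.V ∧ D.π e = g) :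
    ∃ H : Subgroup E, H ⊓ D.π.ker = ⊥ ∧ H ⊔ D.π.ker = ⊤ := by
  let H : Subgroup E :=
    { carrier := {e | f e = 0}
      one_mem' := h.one
      mul_mem' := fun {a b} ha hb => by
        show f (a * b) = 0
        rw [h.mul, ha, hb, act_zero, add_zero]
      inv_mem' := fun {a} ha => by
        show f a⁻¹ = 0
        rw [h.inv, ha, act_zero] }
  refine ⟨H, eq_bot_iff.mpr fun n hn => D.faith n hn.2 ((h.ker n hn.2).symm.trans hn.1),
    eq_top_iff.mpr fun e _ => ?_⟩
  obtain ⟨n, hn, e1⟩ := D.eq_top_of_gen h.sub (fun n hn => h.mem_ker hn) hS hf e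
  have h1 : D.π n⁻¹ = 1 := by rw [map_inv, hn, inv_one]
  have h2 : n⁻¹ * e ∈ H := by
    show f (n⁻¹ * e) = 0
    rw [h.mul, h1, act_one, h.ker _ h1, D.β_inv hn, e1, fun_self]
  have := mul_mem (Subgroup.mem_sup_right (S := H) (T := D.π.ker) hn)
    (Subgroup.mem_sup_left (T := D.π.ker) h2)
  rwa [mul_inv_cancel_left] at this

theorem IsDer.exists_eq {D' : Data E' G X} {f : E → X → ZMod 2} {f' : E' → X → ZMod 2}
    (h : D.IsDer f) (h' : D'.IsDer f') (hV : D.V = D'.V) {S : Set G}
    (hS : Subgroup.closure S = ⊤)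
    (hf : ∀ g ∈ S, ∃ e e', D.π e = g ∧ D'.π e' = g ∧ f e + f' e' ∈ D.V) (e : E) :
    ∃ e', D'.π e' = D.π e ∧ f' e' = f e := by
  let K : Subgroup E :=
    { carrier := {e | ∃ e', D'.π e' = D.π e ∧ f' e' = f e}
      one_mem' := ⟨1, by rw [map_one, map_one], by rw [h.one, h'.one]⟩
      mul_mem' := by
        rintro a b ⟨a', h1, h2⟩ ⟨b', h3, h4⟩
        exact ⟨a' * b', by rw [map_mul, map_mul, h1, h3], by rw [h.mul, h'.mul, h1, h2, h4]⟩
      inv_mem' := by
        rintro a ⟨a', h1, h2⟩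
        exact ⟨a'⁻¹, by rw [map_inv, map_inv, h1], by rw [h.inv, h'.inv, h1, h2]⟩ }
  refine D.eq_top_of_gen K (fun n hn => ?_) hS (fun g hg => ?_) e
  · obtain ⟨n', h1, h2⟩ := hV ▸ h.mem_ker hn
    exact ⟨n', h1.trans hn.symm, (h'.ker _ h1).trans h2⟩
  · obtain ⟨a, a', h1, h2, h3⟩ := hf g hg
    obtain ⟨n', h4, h5⟩ := hV ▸ h3
    refine ⟨a, ⟨n' * a', by rw [map_mul, h4, one_mul, h1, h2], ?_⟩, h1⟩
    rw [h'.mul, h4, act_one, h'.ker _ h4, h5, add_assoc, fun_self, add_zero]

theorem IsDer.inj {f : E → X → ZMod 2} (h : D.IsDer f) {a b : E} (h1 : D.π a = D.π b)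
    (h2 : f a = f b) : a = b := by
  have h3 : D.π (a * b⁻¹) = 1 := by rw [map_mul, map_inv, h1, mul_inv_cancel]
  have h4 := h.mul (a * b⁻¹) b
  rw [inv_mul_cancel_right, h3, act_one, h2, h.ker _ h3] at h4
  exact mul_inv_eq_one.mp (D.faith _ h3 (by simpa using h4))

/-- Two extensions with cohomologous derivations are isomorphic. -/
theorem IsDer.iso {D' : Data E' G X} {f : E → X → ZMod 2} {f' : E' → X → ZMod 2}
    (h : D.IsDer f) (h' : D'.IsDer f') (hV : D.V = D'.V) {S : Set G}
    (hS : Subgroup.closure S = ⊤)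
    (hf : ∀ g ∈ S, ∃ e e', D.π e = g ∧ D'.π e' = g ∧ f e + f' e' ∈ D.V) : Nonempty (E ≃* E') := by
  choose F h1 h2 using h.exists_eq h' hV hS hf
  have h3 := h'.exists_eq h hV.symm hS fun g hg => by
    obtain ⟨a, a', k1, k2, k3⟩ := hf g hg
    exact ⟨a', a, k2, k1, by rwa [add_comm, ← hV]⟩
  refine ⟨MulEquiv.ofBijective (MonoidHom.mk' F fun a b => h'.inj ?_ ?_) ⟨fun a b e => ?_, fun b => ?_⟩⟩
  · rw [map_mul, h1, h1, h1, map_mul]
  · rw [h'.mul, h2, h2, h2, h1, h.mul]
  · have e' : F a = F b := e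
    exact h.inj (by rw [← h1, e', h1]) (by rw [← h2, e', h2])
  · obtain ⟨a, k1, k2⟩ := h3 b
    exact ⟨a, h'.inj ((h1 a).trans k1) ((h2 a).trans k2)⟩

theorem exists_chi (D : Data E G X) (H : Subgroup E) (x0 : X) (hfix : ∀ h ∈ H, D.π h • x0 = x0)
    (h0 : ∀ n ∈ H, D.π n = 1 → D.β n x0 = 0) :
    ∃ χ : E → ZMod 2, (∀ a b, D.π a ∈ H.map D.π → D.π b ∈ H.map D.π → χ (a * b) = χ a + χ b) ∧
      ∀ n, D.π n = 1 → χ n = D.β n x0 := by
  classical
  let χ : E → ZMod 2 := fun e => if h : D.π e ∈ H.map D.π then D.β (e * h.choose⁻¹) x0 else 0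
  have key : ∀ e h, h ∈ H → D.π h = D.π e → χ e = D.β (e * h⁻¹) x0 := fun e h hh he => by
    have h1 : D.π e ∈ H.map D.π := ⟨h, hh, he⟩
    obtain ⟨h2, h3⟩ := h1.choose_spec
    have h4 : D.π (h * h1.choose⁻¹) = 1 := by rw [map_mul, map_inv, h3, he, mul_inv_cancel]
    have h5 : e * h1.choose⁻¹ = e * h⁻¹ * (h * h1.choose⁻¹) := by group
    simp only [χ, dif_pos h1]
    rw [h5, D.add _ _ (by rw [map_mul, map_inv, he, mul_inv_cancel]) h4, Pi.add_apply,
      h0 _ (mul_mem hh (inv_mem h2)) h4, add_zero]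
  refine ⟨χ, ?_, fun n hn => by rw [key n 1 (one_mem _) (by rw [map_one, hn]), inv_one, mul_one]⟩
  rintro a b ⟨a', ha, e1⟩ ⟨b', hb, e2⟩
  have h1 : D.π (a * a'⁻¹) = 1 := by rw [map_mul, map_inv, e1, mul_inv_cancel]
  have h2 : D.π (b * b'⁻¹) = 1 := by rw [map_mul, map_inv, e2, mul_inv_cancel]
  have h3 : a * b * (a' * b')⁻¹ = a * a'⁻¹ * (a' * (b * b'⁻¹) * a'⁻¹) := by group
  have h4 := D.conj a' _ x0 h2
  rw [hfix _ ha] at h4
  rw [key _ _ (mul_mem ha hb) (by rw [map_mul, map_mul, e1, e2]), key _ _ ha e1, key _ _ hb e2, h3,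
    D.add _ _ h1 (D.π_conj _ h2), Pi.add_apply, h4]

/-- A splitting over a subgroup of odd index in a point stabiliser induces a derivation. -/
theorem exists_der [Finite G] [IsPretransitive G X] (D : Data E G X) (H : Subgroup E) (x0 : X)
    (hfix : ∀ h ∈ H, D.π h • x0 = x0) (h0 : ∀ n ∈ H, D.π n = 1 → D.β n x0 = 0) {k : ℕ}
    (hk : Odd k) (hc : (H.map D.π).index = Nat.card X * k) : ∃ f, D.IsDer f := by
  classical
  obtain ⟨χ, h1, h2⟩ := D.exists_chi H x0 hfix h0
  set K := H.map D.π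
  have := Fintype.ofFinite (G ⧸ K)
  have : Finite X := Finite.of_surjective (fun g : G => g • x0) fun x => exists_smul_eq G x0 x
  have := Fintype.ofFinite X
  choose s hs using D.surj
  let el : E → G ⧸ K → E := fun e y => (s y.out)⁻¹ * e * s ((D.π e)⁻¹ • y).out
  have hel : ∀ e y, D.π (el e y) ∈ K := fun e y => by
    simp only [el, map_mul, map_inv, hs, mul_assoc]
    rw [← QuotientGroup.eq, ← smul_eq_mul, ← MulAction.Quotient.smul_mk, QuotientGroup.out_eq',
      QuotientGroup.out_eq', smul_inv_smul]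
  let pr : G ⧸ K → X := fun y => y.out • x0
  have hpr : ∀ (g : G) y, pr (g • y) = g • pr y := fun g y => by
    have h3 : (g * y.out)⁻¹ * (g • y).out ∈ K := by
      rw [← QuotientGroup.eq, ← smul_eq_mul, ← MulAction.Quotient.smul_mk, QuotientGroup.out_eq',
        QuotientGroup.out_eq']
    obtain ⟨h, hh, e⟩ := h3
    have h4 : (g • y).out = g * y.out * D.π h := by rw [e]; group
    simp only [pr]
    rw [h4, mul_smul, hfix h hh, mul_smul]
  have hsum : ∀ (g : G) (x : X) (F : G ⧸ K → ZMod 2),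
      ∑ y ∈ Finset.univ.filter (fun y => pr y = x), F (g • y) =
        ∑ y ∈ Finset.univ.filter (fun y => pr y = g • x), F y := fun g x F =>
    Finset.sum_equiv (MulAction.toPerm g) (fun y => by simp [hpr]) fun _ _ => rfl
  have hcard : ∀ x, (Finset.univ.filter (fun y => pr y = x)).card =
      (Finset.univ.filter (fun y => pr y = x0)).card := fun x => by
    obtain ⟨g, rfl⟩ := exists_smul_eq G x0 x
    exact (Finset.card_equiv (MulAction.toPerm g) fun y => by simp [hpr]).symm
  have hk' : (Finset.univ.filter (fun y => pr y = x0)).card = k := by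
    have h3 := Finset.card_eq_sum_card_fiberwise (f := pr) (s := Finset.univ) (t := Finset.univ)
      fun _ _ => Finset.mem_univ _
    rw [Finset.sum_congr rfl fun x _ => hcard x, Finset.sum_const, Finset.card_univ,
      Finset.card_univ, ← Nat.card_eq_fintype_card, ← Nat.card_eq_fintype_card, smul_eq_mul,
      ← Subgroup.index_eq_card, hc] at h3
    have : Nonempty X := ⟨x0⟩
    exact (Nat.eq_of_mul_eq_mul_left Nat.card_pos h3).symm
  refine ⟨fun e x => ∑ y ∈ Finset.univ.filter (fun y => pr y = x), χ (el e y), fun g h => ?_,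
    fun n hn => ?_⟩
  · funext x
    rw [Pi.add_apply, act_apply, ← hsum, ← Finset.sum_add_distrib]
    refine Finset.sum_congr rfl fun y _ => ?_
    rw [← h1 _ _ (hel _ _) (hel _ _)]
    congr 1
    simp only [el, map_mul, mul_inv_rev, mul_smul]
    group
  · funext x
    rw [Finset.sum_congr rfl (g := fun _ => D.β n x), Finset.sum_const, hcard, hk',
      odd_smul two_self hk]
    intro y hy
    have h3 : el n y = (s y.out)⁻¹ * n * (s y.out)⁻¹⁻¹ := by simp [el, hn]
    rw [h3, h2 _ (D.π_conj _ hn), D.β_conj _ hn, act_apply, map_inv, inv_inv, hs]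
    exact congrArg _ (Finset.mem_filter.mp hy).2

/-- The square of a lift of an involution, evaluated at a fixed point. -/
theorem sq_smul (D : Data E G X) {t : E} (ht : D.π (t * t) = 1) {g : G}
    (hg : g * D.π t = D.π t * g) {x : X} (hx : D.π t • x = x) :
    D.β (t * t) (g • x) = D.β (t * t) x := by
  obtain ⟨e, rfl⟩ := D.surj g
  have h1 : D.π (e * t * e⁻¹ * t⁻¹) = 1 := by
    simp only [map_mul, map_inv]
    rw [hg]
    group
  have h2 : e * (t * t) * e⁻¹ =
      e * t * e⁻¹ * t⁻¹ * (t * (e * t * e⁻¹ * t⁻¹) * t⁻¹) * (t * t) := by group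
  have h3 := D.conj t _ (D.π e • x) h1
  rw [← mul_smul, ← hg, mul_smul, hx] at h3
  rw [← D.conj e _ x ht, h2, D.add _ _ (by rw [map_mul, h1, D.π_conj _ h1, mul_one]) ht,
    D.add _ _ h1 (D.π_conj _ h1), Pi.add_apply, Pi.add_apply, h3, two_self, zero_add]

theorem sq_zero (D : Data E G X) {t : E} (ht : D.π (t * t) = 1) {g : G}
    (hg : g * D.π t = D.π t * g) {x y : X} (hx : D.π t • x = x)
    (h : ∀ u ∈ D.V, ∑ k ∈ Finset.range 7, u (g ^ k • x) = u y + u (D.π t • y)) :
    D.β (t * t) x = 0 := by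
  have h1 := h _ ⟨_, ht, rfl⟩
  have h2 := D.conj t _ y ht
  rw [show t * (t * t) * t⁻¹ = t * t by group] at h2
  rw [h2, two_self, Finset.sum_congr rfl fun k _ =>
    D.sq_smul ht (Commute.pow_left (a := g) (b := D.π t) hg k) hx, Finset.sum_const,
    Finset.card_range, odd_smul two_self (by decide)] at h1
  exact h1

end Data

theorem dihedral_cases {Q : Type*} [Group Q] {s t : Q} (hs : s * s = 1) (ht : t * t = 1)
    (h : s * t * (s * t) * (s * t * (s * t)) = 1) {q : Q} (hq : q ∈ Subgroup.closure {s, t}) :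
    q ∈ [1, s, t, s * t, t * s, s * t * s, t * s * t, s * t * s * t] := by
  have hs' : ∀ x, s * (s * x) = x := fun x => by rw [← mul_assoc, hs, one_mul]
  have ht' : ∀ x, t * (t * x) = x := fun x => by rw [← mul_assoc, ht, one_mul]
  have h1 : t * (s * (t * s)) = s * (t * (s * t)) := by
    have h2 : t * (s * (t * (s * (s * t * (s * t) * (s * t * (s * t)))))) = t * (s * (t * s)) := by
      rw [h, mul_one]
    simp only [mul_assoc, hs', ht'] at h2
    exact h2.symm
  have h2 : t * (s * (t * (s * t))) = s * (t * s) := by rw [← h1, ht']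
  have si : s⁻¹ = s := inv_eq_of_mul_eq_one_right hs
  have ti : t⁻¹ = t := inv_eq_of_mul_eq_one_right ht
  have key : ∀ x ∈ ({s, t} : Set Q),
      ∀ y ∈ [1, s, t, s * t, t * s, s * t * s, t * s * t, s * t * s * t],
        x * y ∈ [1, s, t, s * t, t * s, s * t * s, t * s * t, s * t * s * t] := by
    rintro x (rfl | rfl) y hy <;> simp only [List.mem_cons, List.not_mem_nil, or_false] at hy <;>
      rcases hy with rfl | rfl | rfl | rfl | rfl | rfl | rfl | rfl <;>
      simp only [mul_assoc, mul_one, hs, ht, hs', ht', h1, h2, List.mem_cons, true_or, or_true]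
  induction hq using Subgroup.closure_induction_left with
  | one => exact List.mem_cons_self
  | mul_left x hx y _ ih => exact key x hx y ih
  | inv_mul_cancel x hx y _ ih =>
    refine key _ ?_ y ih
    rcases hx with rfl | rfl
    · rw [si]; exact Or.inl rfl
    · rw [ti]; exact Or.inr rfl

namespace Data

/-- Splitting over a dihedral group of order eight whose involutions lift to involutions. -/
theorem dihedral (D : Data E G X) {s t : E} {x : X} (sx : D.π s • x = x) (tx : D.π t • x = x)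
    (hs : D.π (s * s) = 1) (ht : D.π (t * t) = 1)
    (hr : D.π (s * t * (s * t) * (s * t * (s * t))) = 1)
    (hs' : D.β (s * s) x = 0) (ht' : D.β (t * t) x = 0)
    (hr' : D.β (s * t * (s * t) * (s * t * (s * t))) x = 0)
    (hne : ∀ g ∈ [D.π s, D.π t, D.π s * D.π t, D.π t * D.π s, D.π s * D.π t * D.π s,
      D.π t * D.π s * D.π t, D.π s * D.π t * D.π s * D.π t], g ≠ 1) :
    ∀ n ∈ Subgroup.closure {s, t}, D.π n = 1 → D.β n x = 0 := by
  let S : Subgroup E := (stabilizer G x).comap D.π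
  let U : Subgroup S :=
    { carrier := {n | D.π n = 1 ∧ D.β n x = 0}
      one_mem' := ⟨map_one _, congrFun D.β_one x⟩
      mul_mem' := fun {a b} ha hb => ⟨by rw [Subgroup.coe_mul, map_mul, ha.1, hb.1, mul_one], by
        rw [Subgroup.coe_mul, D.add _ _ ha.1 hb.1, Pi.add_apply, ha.2, hb.2, add_zero]⟩
      inv_mem' := fun {a} ha => ⟨by rw [Subgroup.coe_inv, map_inv, ha.1, inv_one], by
        rw [Subgroup.coe_inv, D.β_inv ha.1, ha.2]⟩ }
  have : U.Normal := ⟨fun n hn g => ⟨D.π_conj _ hn.1, by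
    have h1 := D.conj g n x hn.1
    rw [show D.π g • x = x from g.2] at h1
    exact h1.trans hn.2⟩⟩
  let s' : S := ⟨s, sx⟩
  let t' : S := ⟨t, tx⟩
  intro n hn hn1
  have h1 : Subgroup.closure {s, t} = (Subgroup.closure {s', t'}).map S.subtype := by
    rw [MonoidHom.map_closure, Set.image_pair]
    rfl
  rw [h1] at hn
  obtain ⟨m, hm, rfl⟩ := hn
  have h2 : (QuotientGroup.mk' U m) ∈
      Subgroup.closure {QuotientGroup.mk' U s', QuotientGroup.mk' U t'} := by
    rw [← Set.image_pair, ← MonoidHom.map_closure]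
    exact ⟨m, hm, rfl⟩
  have h3 := dihedral_cases (s := QuotientGroup.mk' U s') (t := QuotientGroup.mk' U t')
    ((QuotientGroup.eq_one_iff (s' * s')).mpr ⟨hs, hs'⟩)
    ((QuotientGroup.eq_one_iff (t' * t')).mpr ⟨ht, ht'⟩)
    ((QuotientGroup.eq_one_iff (s' * t' * (s' * t') * (s' * t' * (s' * t')))).mpr ⟨hr, hr'⟩) h2
  rcases List.mem_cons.mp h3 with h4 | h4
  · exact ((QuotientGroup.eq_one_iff m).mp h4).2
  · let ρ : S ⧸ U →* G := QuotientGroup.lift U (D.π.comp S.subtype) fun a ha => ha.1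
    have h5 := List.mem_map_of_mem (f := ρ) h4
    simp only [List.map_cons, List.map_nil, map_mul] at h5
    exact absurd hn1 (hne _ h5)

end Data

end Cfsg.Agent.H42.Ext
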