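import Cfsg.Agent.H42.Ext23
import Cfsg.Agent.H42.Parker
import Cfsg.Prelude.Def_Spor_Mathieu

/-! Extensions of the Mathieu group of degree 23: the projection and the pairing with words. -/

set_option autoImplicit false

namespace Cfsg.Agent.H42.Ext

open Cfsg MulAction Pk
open scoped Pointwise

/-- The Mathieu group of degree 23 as a point stabiliser. -/
noncomputable def toG : Spor.M23 →* G23 where
  toFun x := ⟨⟨x.1, x.2.1⟩, x.2.2⟩
  map_one' := rfl
  map_mul' _ _ := rfl

/-- Extensions with kernel embedded in the functions on flags. -/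
abbrev Dat (E : Type*) [Group E] := Data E G23 Fs

variable {E : Type*} [Group E] (N : Subgroup E) [N.Normal] (φ : E ⧸ N ≃* Spor.M23)

/-- The projection of an extension. -/
noncomputable def proj : E →* G23 := toG.comp (φ.toMonoidHom.comp (QuotientGroup.mk' N))

theorem proj_surj : Function.Surjective (proj N φ) := fun g => by
  obtain ⟨q, hq⟩ := φ.surjective ⟨g.1.1, g.1.2, g.2⟩
  obtain ⟨e, rfl⟩ := QuotientGroup.mk_surjective q
  exact ⟨e, congrArg toG hq⟩

theorem proj_eq_one {e : E} : proj N φ e = 1 ↔ e ∈ N := by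
  rw [← QuotientGroup.eq_one_iff, ← φ.map_eq_one_iff]
  exact ⟨fun h => Subtype.ext (congrArg (fun x : G23 => x.1.1) h), fun h => congrArg toG h⟩

theorem proj_ker : (proj N φ).ker = N := Subgroup.ext fun _ => proj_eq_one N φ

theorem evN_ip (w : ℕ → ZMod 2) (z : ℕ) : evN w 24 z = ip (toWord z) fun p => w (idx p) := by
  rw [evN, ← Fin.sum_univ_eq_sum_range (fun i => if z.testBit i then w i else 0), ip,
    ← Equiv.sum_comp ptEquiv]
  refine Finset.sum_congr rfl fun p _ => ?_
  show (if z.testBit (idx p) then w (idx p) else 0) = toWord z p * _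
  rw [toWord, ite_mul, one_mul, zero_mul]

theorem Par.V_eq {E' : Type*} [Group E'] {D : Data E G23 Fs} {D' : Data E' G23 Fs}
    {Wd : (ℕ → ZMod 2) → Prop} {μ : ℕ → ℕ} {perp : ℕ → Bool} (P : Par D Wd μ perp)
    (P' : Par D' Wd μ perp) : D.V = D'.V :=
  AddSubgroup.ext fun u => (P.mem u).trans (P'.mem u).symm

theorem split_of {D : Data E G23 Fs} {f : E → Fs → ZMod 2} (hf : D.IsDer f) {d : Fs → ZMod 2}
    (hd : d = 0) (h : ∀ l e, D.π e = gG l → f e + (if 2 ≤ l then d else 0) ∈ D.V) :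
    ∃ H : Subgroup E, H ⊓ D.π.ker = ⊥ ∧ H ⊔ D.π.ker = ⊤ :=
  hf.split closure_gG fun g hg => by
    obtain ⟨l, rfl⟩ : ∃ l, gG l = g := by rcases hg with rfl | rfl | rfl <;> exact ⟨_, rfl⟩
    obtain ⟨e, he⟩ := D.surj (gG l)
    exact ⟨e, by simpa [hd] using h l e he, he⟩

end Cfsg.Agent.H42.Ext
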