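import Cfsg.Agent.H42.HtDefs

/-! A standard subgroup `A₁₀`, the exotic case: the assembly. -/

set_option autoImplicit false

namespace Cfsg.Agent.H42.HT

open Cfsg Cfsg.Agent.H63 Cfsg.Agent.H63.SL Cfsg.Agent.H63.AN Subgroup
open Cfsg.Agent.H7.AA (ev d2 Acts KA NA)
open Cfsg.Agent.H68.HN (K K1 eU)

universe u

theorem cf_cf {G : Type u} [Group G] (g h : G) (ψ : Al →* G) : cf g (cf h ψ) = cf (g * h) ψ :=
  MonoidHom.ext fun σ => by simp only [H7.AA.cj_apply]; group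

theorem ten_of (ff : FF) (kt : KtStmt.{u}) (x1 : X1Stmt.{u}) (co : CoStmt.{u}) (nw : NwStmt.{u})
    (md : MdStmt.{u}) (gx : GxStmt.{u}) (t3 : T3Stmt.{u}) (ta : TaStmt.{u}) (tb : TbStmt.{u})
    (tc1 : Tc1Stmt.{u}) (tc2 : Tc2Stmt.{u}) (oz : OzStmt.{u}) (mid : MidStmt.{u})
    (spk : SpkStmt.{u}) (nk : NkStmt.{u}) (i1 : I1Stmt.{u}) (i2 : I2Stmt.{u}) (zs : ZsStmt.{u})
    (en : EndStmt.{u}) : TenStmt.{u} := by
  intro G _ _ ψ t b k a X gl hc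
  have f : Fr ψ t := ⟨b, k, kt ff ψ t b k⟩
  have fa : ∀ g : G, Fr (cf g ψ) (g * t * g⁻¹) := fun g =>
    ⟨(a g).1, (a g).2, kt ff _ _ (a g).1 (a g).2⟩
  have fb : ∀ {τ h}, Co ψ t τ h → Fr (cf h ψ) τ ∧ ∀ g : G, Fr (cf g (cf h ψ)) (g * τ * g⁻¹) :=
    fun {τ h} c => ⟨c.ht ▸ fa h, fun g => by
      rw [cf_cf, ← c.ht, show g * (h * t * h⁻¹) * g⁻¹ = g * h * t * (g * h)⁻¹ by group]
      exact fa _⟩
  have fin : ∀ {τ h J}, Co ψ t τ h → Md (bt (cf h ψ)) τ (ev ψ w) (τ * ev ψ v) →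
      Nw (cf h ψ) τ (ev ψ w) (ev ψ v) t → Oz (bt (cf h ψ)) (ev ψ w) (τ * ev ψ v) →
      Ns (bt (cf h ψ)) (ev ψ w) (τ * ev ψ v) J →
      (∃ g ∈ Mr (ev ψ w) (τ * ev ψ v), g * t * g⁻¹ = t * ev ψ w) ∨ ¬ IsConj t (t * ev ψ w) →
      Spor.IsoHN X := fun {τ h J} c m n o s g => by
    obtain ⟨k0, z⟩ := (nk ff ψ t f fa τ h c J).2 s
    have rr : τ * ev ψ v * (τ * ev ψ v) = ev ψ w := by
      have e := n.st
      rw [inv_eq_of_mul_eq_one_right n.s2] at e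
      rw [mul_assoc, ← mul_assoc (ev ψ v), e, ← mul_assoc, m.τ2, one_mul]
    refine en ff ψ t f fa X gl h _ J rr o s (zs _ _ m.w2 m.w1 rr fun y yw hy => ?_)
    have c1 := s.sq rr _ hy (by rw [conj_mul, rr, yw.eq, mul_inv_cancel_right])
    obtain ⟨x, hx, e | e⟩ := s.dec _ ((mem_Mr m.w2).1 hy).1 c1 ⟨2, by
      rw [conj_pow, show 2 ^ 2 = 2 * 2 from rfl, pow_mul, sq (τ * ev ψ v), rr, sq, m.w2]; group⟩
    · exact absurd e (i1 ff ψ t f fa τ h J k0 c s z g y yw x hx)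
    · refine (mem_Mr m.w2).2 ⟨yw, (i2 ff ψ t f fa τ h J k0 c s z y yw x hx e).imp ?_ ?_⟩ <;>
        rintro rfl
      · rw [e, s.one, mul_one]
      · rw [e, s.ju]
  rcases hc with ⟨g, sx⟩ | ⟨⟨τ, d⟩, e4, e2⟩
  · obtain ⟨ne, g, sx, d⟩ := x1 ff ψ t f fa g sx
    obtain ⟨h, c⟩ := co ff ψ t f fa ne _ d
    have n := nw ff ψ t f fa _ h c
    have m := (md ff _ _ (fb c).1 (fb c).2 _ _ _ n).2
    obtain ⟨g1, g2, o⟩ := gx ff ψ t f fa g _ h sx rfl c n m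
    rcases (mid ff _ _ _ _ m o).1 ⟨g, g1, g2⟩ with ⟨J, s⟩ | ⟨L, s⟩ | ⟨L, s⟩
    · exact fin c m n o s (Or.inl ⟨g, g1, sx.gt⟩)
    · exact absurd s ((spk ff ψ t f fa _ h c L).2 g sx rfl g1).1
    · exact absurd s ((spk ff ψ t f fa _ h c L).2 g sx rfl g1).2
  · have nt : ¬ IsConj t (t * ev ψ w) := fun e => e2 ⟨w, by decide, by decide, by decide, e⟩
    obtain ⟨h, c⟩ := co ff ψ t f fa (fun q e _ => nt (isConj_iff.2 ⟨q, e⟩)) _ d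
    have n := nw ff ψ t f fa _ h c
    obtain ⟨m1, m2⟩ := md ff _ _ (fb c).1 (fb c).2 _ _ _ n
    obtain ⟨p1, p2, p3, p4⟩ := t3 ff ψ t f fa e2 τ h c
    obtain ⟨g, z⟩ := ta ff _ _ (fb c).1 (fb c).2 p2 p1 (p3 e4)
    obtain ⟨g, z, gu⟩ := tb ff _ _ (fb c).1 (fb c).2 _ _ _ g n z
    obtain ⟨g, z, hg⟩ := tc2 ff _ _ (fb c).1 (fb c).2 _ _ _ g n z gu
      (tc1 ff _ _ (fb c).1 (fb c).2 _ _ _ g n z gu)
    have gt : g * τ * g⁻¹ = τ * bt (cf h ψ) z8' := by rw [bt_apply]; exact z.gt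
    have gz : Commute g (bt (cf h ψ) z8') := by rw [bt_apply]; exact z.gz
    rcases hg with hg | hg
    · rcases (mid ff _ _ _ _ m1 (oz ff _ _ _ _ g m1 hg gt gz)).2 ⟨g, hg, gt⟩ (p4 _ (Or.inl rfl))
        with ⟨J, s⟩ | ⟨L, s⟩
      · exact absurd s (nk ff ψ t f fa τ h c J).1
      · exact absurd s ((spk ff ψ t f fa _ h c L).1 e2 e4 _ (Or.inl rfl))
    · have o := oz ff _ _ _ _ g m2 hg gt gz
      rcases (mid ff _ _ _ _ m2 o).2 ⟨g, hg, gt⟩ (p4 _ (Or.inr rfl)) with ⟨J, s⟩ | ⟨L, s⟩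
      · exact fin c m2 n o s (Or.inr nt)
      · exact absurd s ((spk ff ψ t f fa _ h c L).1 e2 e4 _ (Or.inr rfl))

end Cfsg.Agent.H42.HT
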