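import Cfsg.Agent.H42.HtDefs

/-! The normal closure of `A` in the normaliser of `⟨w, r⟩`. -/

set_option autoImplicit false

namespace Cfsg.Agent.H42.HT

open Cfsg Cfsg.Agent.H63 Cfsg.Agent.H63.SL Subgroup
open Cfsg.Agent.H68.HN (K K1 eU)
open Cfsg.Agent.H48.HS (Ac Cn)
open scoped commutatorElement

universe u

variable {G : Type u} [Group G]

theorem rr_up {M : Subgroup G} {w r x : M} (h : Rr w r x) : Rr w.1 r.1 x.1 := by
  rcases h with rfl | rfl | rfl | rfl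
  exacts [.inl rfl, .inr (.inl rfl), .inr (.inr (.inl rfl)), .inr (.inr (.inr rfl))]

theorem rr_up' {M : Subgroup G} {w' r' x : M} {w r : G} (hw : w'.1 = w) (hr : r'.1 = r)
    (h : Rr w' r' x) : Rr w r x.1 := hw ▸ hr ▸ rr_up h

theorem cm_up {M : Subgroup G} {a b : M} {c : G} (hb : b.1 = c) (h : Commute a b) :
    Commute a.1 c := hb ▸ congrArg Subtype.val h.eq

theorem is2_dn {M : Subgroup G} {x : M} (h : Is2 x.1) : Is2 x := h.imp fun _ e => Subtype.ext e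

theorem norm_of {M S : Subgroup G} (h : M ≤ N[S]) : (S.subgroupOf M).Normal :=
  ⟨fun a ha n => (mem_normalizer_iff.1 (h n.2) a.1).1 ha⟩

section Up

variable [Finite G] {w r : G} {β : A8 →* G} {γ : A8 →* Mr w r} {w' r' : Mr w r}
  (w2 : w * w = 1) (hγ : ∀ σ, (γ σ).1 = β σ) (hw : w'.1 = w) (hr : r'.1 = r)
  (top : ∀ n, n ∈ Mr w' r')
include w2 hγ hw hr top

theorem Ns.up {J : K → Mr w r} (s : Ns γ w' r' J) : Ns β w r fun a => (J a).1 where
  mul a ha b hb := congrArg Subtype.val (s.mul a ha b hb)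
  inj a ha b hb e := s.inj a ha b hb (Subtype.ext e)
  ju := (congrArg Subtype.val s.ju).trans hw
  cr a ha := (cm_up hr (s.cr a ha).symm).symm
  dom n hn := (s.dom ⟨n, hn⟩ (top _)).imp fun _ h a ha => congrArg Subtype.val (h a ha)
  two n hn c p := by
    exact rr_up' hw hr (s.two ⟨n, hn⟩ (top _) (fun a ha => Subtype.ext (c a ha)) (is2_dn p))
  hA σ := (s.hA σ).imp fun _ h => ⟨h.1, (congrArg Subtype.val h.2).trans (hγ σ)⟩
  gen S hS hA a ha := s.gen (S.subgroupOf (Mr w r))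
    (haveI := norm_of hS; fun n _ => normalizer_eq_top (S.subgroupOf (Mr w r)) ▸ mem_top n)
    (fun σ => show (γ σ).1 ∈ S from hγ σ ▸ hA σ) a ha
  dec n c1 c2 p := by
    have hn : n ∈ Mr w r := (mem_Mr w2).2 ⟨c1, .inl (by rw [c2.eq, mul_inv_cancel_right])⟩
    obtain ⟨a, ha, e⟩ := s.dec ⟨n, hn⟩ (Subtype.ext (by simpa [hw] using c1.eq))
      (Subtype.ext (by simpa [hr] using c2.eq)) (is2_dn p)
    exact ⟨a, ha, e.imp (congrArg Subtype.val) fun e => by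
      simpa [hr] using congrArg Subtype.val e⟩
  sq e n hn h := cm_up hr (s.sq (Subtype.ext (by simpa [hw, hr] using e)) ⟨n, hn⟩
    (top _) (Subtype.ext (by simpa [hw] using h)))

omit [Finite G] w2 in
theorem Sp.up {L : Subgroup (Mr w r)} (s : Sp γ w' r' L) : Sp β w r (L.map (Mr w r).subtype) where
  nrm n hn := mem_normalizer_iff.2 fun x => ⟨by
    rintro ⟨y, hy, rfl⟩
    exact ⟨_, (mem_normalizer_iff.1 (s.nrm (top ⟨n, hn⟩)) y).1 hy, rfl⟩, by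
    rintro ⟨y, hy, e⟩
    exact ⟨_, (mem_normalizer_iff.1 (s.nrm (top ⟨n, hn⟩⁻¹)) y).1 hy, by
      have e : y.1 = n * x * n⁻¹ := e
      simp [e, mul_assoc]⟩⟩
  hA σ := ⟨γ σ, s.hA σ, hγ σ⟩
  nw := fun ⟨y, hy, e⟩ => s.nw ((Subtype.ext (e.trans hw.symm) : y = w') ▸ hy)
  cw := by rintro _ ⟨y, hy, rfl⟩; exact cm_up hw (s.cw y hy)
  cr := by rintro _ ⟨y, hy, rfl⟩; exact cm_up hr (s.cr y hy)

theorem SpH.up {L : Subgroup (Mr w r)} (s : SpH γ w' r' L) :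
    SpH β w r (L.map (Mr w r).subtype) where
  toSp := s.toSp.up hγ hw hr top
  dec n c1 c2 p := by
    have hn : n ∈ Mr w r := (mem_Mr w2).2 ⟨c1, .inl (by rw [c2.eq, mul_inv_cancel_right])⟩
    obtain ⟨k, hk, x, hx, e⟩ := s.dec ⟨n, hn⟩ (Subtype.ext (by simpa [hw] using c1.eq))
      (Subtype.ext (by simpa [hr] using c2.eq)) (is2_dn p)
    exact ⟨k, ⟨k, hk, rfl⟩, x, rr_up' hw hr hx, congrArg Subtype.val e⟩
  cls := by
    rintro _ ⟨a, ha, rfl⟩ _ ⟨b, hb, rfl⟩ _ ⟨c, hc, rfl⟩ h1 h2 h3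
    obtain ⟨m, hm, e⟩ := s.cls a ha b hb c hc ((orderOf_coe a).symm.trans h1)
      ((orderOf_coe b).symm.trans h2) ((orderOf_coe c).symm.trans h3)
    exact ⟨m, ⟨m, hm, rfl⟩, e.imp (congrArg Subtype.val)
      (Or.imp (congrArg Subtype.val) (congrArg Subtype.val))⟩

omit [Finite G] w2 in
theorem SpL.up {L : Subgroup (Mr w r)} (s : SpL γ w' r' L) :
    SpL β w r (L.map (Mr w r).subtype) where
  toSp := s.toSp.up hγ hw hr top
  dec a ha b hb y hy p := by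
    obtain ⟨y, rfl, hz⟩ : ∃ y' : Mr w r, y'.1 = y ∧ Rr w' r' y' := by
      rcases hy with rfl | rfl | rfl | rfl
      exacts [⟨1, rfl, .inl rfl⟩, ⟨w', hw, .inr (.inl rfl)⟩, ⟨r', hr, .inr (.inr (.inl rfl))⟩,
        ⟨r' * w', by rw [coe_mul, hw, hr], .inr (.inr (.inr rfl))⟩]
    obtain ⟨k, hk, x, hx, e⟩ := s.dec ⟨a, ha⟩ (top _) ⟨b, hb⟩ (top _) y hz (is2_dn p)
    exact ⟨k, ⟨k, hk, rfl⟩, x, rr_up' hw hr hx, congrArg Subtype.val e⟩

end Up

theorem mid_top (ff : FF) (quo : QuoStmt.{u}) (std : StdStmt.{u}) (tri : TriStmt.{u})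
    (trk : TrkStmt.{u}) (trw : TrwStmt.{u}) (out : OutStmt.{u}) (ks : KsStmt.{u})
    (jm : JmStmt.{u}) (jn : JnStmt.{u}) [Finite G] {β : A8 →* G} {τ w r : G} (m : Md β τ w r)
    (top : ∀ n : G, Commute n w ∧ (n * r * n⁻¹ = r ∨ n * r * n⁻¹ = r * w)) (o : Oz β w r)
    {p : Prop} (h : (p ∧ ∃ g, KX β g) ∨ (IsConj τ (τ * β z8') ∧
      ∀ x, Rr w r x → ¬ IsConj τ (τ * β w2' * x))) :
    (∃ J, Ns β w r J) ∨ (∃ L, SpH β w r L) ∨ (p ∧ ∃ L, SpL β w r L) := by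
  obtain ⟨H, _, f, q⟩ := quo ff β τ w r m top o
  have : Finite H := Finite.of_surjective f q.surj
  obtain ⟨s, l⟩ := std ff β τ w r m top f q
  have kz : (IsConj τ (τ * β z8') ∧ ∀ x, Rr w r x → ¬ IsConj τ (τ * β w2' * x)) →
      KZ (f.comp β) (f τ) := fun h =>
    ⟨map_mul f τ _ ▸ f.map_isConj h.1, fun e => let ⟨x, hx, e⟩ := l e; h.2 x hx e⟩
  have k : (∃ g, KX (f.comp β) g) ∨ KZ (f.comp β) (f τ) := h.imp
    (fun ⟨_, g, x, y, h1, h2, h3⟩ => ⟨f g, x, y, h1, h2, by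
      simpa using congrArg f h3⟩) kz
  obtain ⟨k1, k2⟩ := trk ff _ _ s k
  obtain ⟨Y, y, c⟩ := ((tri ff _ _ s q.core).resolve_left k1).resolve_left (trw ff _ _ s k)
  obtain ⟨L, L1⟩ := ks ff β τ w r m top f q Y y
  obtain ⟨j1, j2⟩ := jm ff β τ w r m top f q Y L L1
  obtain ⟨o1, o2⟩ := out.1 Y y.nrm y.cY
  have := L1.nrm
  have sp : w ∉ L → Sp β w r L := fun nw =>
    ⟨fun n _ => normalizer_eq_top L ▸ mem_top n, fun σ => L1.hA ⟨σ, rfl⟩, nw,
      fun k _ => (top k).1, fun k hk => (L1.cen r).2 q.kr k hk⟩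
  have nt : ¬ Commute τ r := fun c => m.w1 (mul_eq_left.1
    (m.τr.symm.trans (by rw [c.eq, mul_inv_cancel_right])))
  rcases c.resolve_left (k2 Y y) with ⟨c1, c2⟩ | c
  · rcases h with h | h
    · refine .inr (.inr ⟨h.1, L, sp (j1 c1), fun a _ b _ x hx e => L1.dec _ e ?_⟩)
      have : f x = 1 := by
        rcases hx with rfl | rfl | rfl | rfl
        exacts [map_one f, q.kw, q.kr, by rw [map_mul, q.kw, q.kr, one_mul]]
      rw [map_mul, this, mul_one, map_commutatorElement]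
      exact o2 c1 _ _
    · exact absurd c2 (kz h).2
  rcases j2 c with ⟨nw, hs⟩ | ⟨hw, z⟩
  · refine .inr (.inl ⟨L, sp nw, fun n _ c2 e => L1.dec n e ?_, fun a ha b hb d hd h1 h2 h3 => ?_⟩)
    · by_contra k
      have := L1.cr (n * τ) (map_mul f n τ ▸ o1 c _ _ k fun e => nt (L1.cr τ e))
      exact nt (by simpa using c2.inv_left.mul_left this)
    · rcases out.2 hs ⟨a, ha⟩ ⟨b, hb⟩ ⟨d, hd⟩ ((orderOf_coe _).symm.trans h1)
        ((orderOf_coe _).symm.trans h2) ((orderOf_coe _).symm.trans h3) with e | e | e <;>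
        obtain ⟨x, e⟩ := isConj_iff.1 e <;> refine ⟨x, x.2, ?_⟩
      exacts [.inl (congrArg Subtype.val e), .inr (.inl (congrArg Subtype.val e)),
        .inr (.inr (congrArg Subtype.val e))]
  · exact .inl (jn ff β τ w r m top f q Y L L1 c hw z)

theorem mid_of (quo : QuoStmt.{u}) (std : StdStmt.{u}) (tri : TriStmt.{u})
    (trk : TrkStmt.{u}) (trw : TrwStmt.{u}) (out : OutStmt.{u}) (ks : KsStmt.{u})
    (jm : JmStmt.{u}) (jn : JnStmt.{u}) : MidStmt.{u} := by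
  intro ff G _ _ β τ w r m o
  have mk : ∀ {n}, Commute n w → Commute n r → n ∈ Mr w r := fun c1 c2 =>
    (mem_Mr m.w2).2 ⟨c1, .inl (by rw [c2.eq, mul_inv_cancel_right])⟩
  let γ : A8 →* Mr w r := β.codRestrict _ fun σ => mk (m.cw σ).symm (m.cr σ).symm
  let τ' : Mr w r := ⟨τ, (mem_Mr m.w2).2 ⟨m.τw, .inr m.τr⟩⟩
  let w' : Mr w r := ⟨w, mk rfl m.rw.symm⟩
  let r' : Mr w r := ⟨r, mk m.rw rfl⟩
  have top : ∀ n : Mr w r, Commute n w' ∧ (n * r' * n⁻¹ = r' ∨ n * r' * n⁻¹ = r' * w') := fun n =>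
    ⟨Subtype.ext ((mem_Mr m.w2).1 n.2).1, ((mem_Mr m.w2).1 n.2).2.imp Subtype.ext Subtype.ext⟩
  have w2 : w' * w' = 1 := Subtype.ext m.w2
  have tp : ∀ n, n ∈ Mr w' r' := fun n => (mem_Mr w2).2 (top n)
  have m' : Md γ τ' w' r' :=
    ⟨fun a b e => m.inj (congrArg Subtype.val e), w2, fun e => m.w1 (congrArg Subtype.val e),
      Subtype.ext m.τ2, Subtype.ext m.τw, Subtype.ext m.rw, m.r2.imp Subtype.ext Subtype.ext,
      Subtype.ext m.τr, fun σ => Subtype.ext (m.cτ σ), fun σ => Subtype.ext (m.cw σ),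
      fun σ => Subtype.ext (m.cr σ), fun n c1 c2 => mem_normalizer_fintype (by
        rintro _ ⟨σ, rfl⟩
        obtain ⟨σ', e⟩ := (mem_normalizer_iff.1 (m.cN n (congrArg Subtype.val c1)
          (congrArg Subtype.val c2)) _).1 ⟨σ, rfl⟩
        exact ⟨σ', Subtype.ext e⟩),
      fun n c1 c2 c3 p => (m.two n (congrArg Subtype.val c1) (congrArg Subtype.val c2)
        (fun σ => congrArg Subtype.val (c3 σ)) (p.imp fun _ e => congrArg Subtype.val e)).imp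
        Subtype.ext (Or.imp Subtype.ext (Or.imp Subtype.ext Subtype.ext)),
      fun e => m.nc ((Mr w r).subtype.map_isConj e)⟩
  have o' : Oz γ w' r' := fun Y h1 _ h3 σ y hy => Subtype.ext (o (Y.map (Mr w r).subtype)
    (by rwa [card_map_of_injective (subtype_injective _)])
    (by rintro _ ⟨y, -, rfl⟩; exact y.2.1) (fun n hn => mem_normalizer_fintype (by
      rintro _ ⟨y, hy, rfl⟩
      exact ⟨_, (mem_normalizer_iff.1 (h3 (tp ⟨n, hn⟩)) y).1 hy, rfl⟩)) σ y ⟨y, hy, rfl⟩)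
  have hγ : ∀ σ, (γ σ).1 = β σ := fun _ => rfl
  have up : ∀ {p : Prop}, (∃ J, Ns γ w' r' J) ∨ (∃ L, SpH γ w' r' L) ∨ (p ∧ ∃ L, SpL γ w' r' L) →
      (∃ J, Ns β w r J) ∨ (∃ L, SpH β w r L) ∨ (p ∧ ∃ L, SpL β w r L) :=
    Or.imp (fun ⟨_, s⟩ => ⟨_, s.up m.w2 hγ rfl rfl tp⟩) (Or.imp
      (fun ⟨_, s⟩ => ⟨_, s.up m.w2 hγ rfl rfl tp⟩)
      fun ⟨a, _, s⟩ => ⟨a, _, s.up hγ rfl rfl tp⟩)
  refine ⟨fun ⟨g, hg, x, y, h1, h2, h3⟩ => ?_, fun ⟨g, hg, e⟩ h => ?_⟩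
  · exact (up (mid_top ff quo std tri trk trw out ks jm jn m' top o' (p := True)
      (.inl ⟨trivial, ⟨g, hg⟩, x, y, h1, h2, Subtype.ext h3⟩))).imp_right (Or.imp_right And.right)
  · exact (up (mid_top ff quo std tri trk trw out ks jm jn m' top o' (p := False)
      (.inr ⟨isConj_iff.2 ⟨⟨g, hg⟩, Subtype.ext e⟩, fun x hx e =>
        h x.1 (rr_up hx) ((Mr w r).subtype.map_isConj e)⟩))).imp_right
      fun k => k.resolve_right And.left

end Cfsg.Agent.H42.HT
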