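import Cfsg.Agent.H42.Cls

/-!
# Subgroups of small index: Sylow counting and orbit arguments
-/

set_option autoImplicit false
set_option maxRecDepth 1000000

open Cfsg MulAction
open scoped Pointwise

namespace Cfsg.Agent.H42

section

variable {G X : Type*} [Group G] [MulAction G X]

theorem mem_normalizer_zpowers [Finite G] {g x : G} :
    g ∈ Subgroup.normalizer (Subgroup.zpowers x : Set G) ↔ g * x * g⁻¹ ∈ Subgroup.zpowers x := by
  refine ⟨fun h => (Subgroup.mem_normalizer_iff.mp h x).mp (Subgroup.mem_zpowers x), fun h => ?_⟩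
  refine Subgroup.mem_normalizer_fintype fun y ⟨n, e⟩ => ?_
  rw [← e, ← conj_zpow]
  exact Subgroup.zpow_mem _ h n

theorem mem_of_index_lt_prime [Finite G] {H L : Subgroup G} (hHL : H ≤ L) {n p : ℕ} (hp : p.Prime)
    (hn : n < p) (hc : Nat.card L = n * Nat.card H) {x : G} (hx : x ∈ L) (h : x ^ p = 1) : x ∈ H := by
  have h1 := relIndex_eq_of_card hHL hc
  have h0 : n ≠ 0 := by
    rintro rfl
    exact (Nat.card_pos (α := L)).ne' (by simpa using hc)
  have h2 := (Subgroup.pow_mem_of_relIndex_ne_zero_of_dvd (H := H) (K := L) (by rwa [h1]) hx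
    (n := n.factorial) fun m h0 hm => Nat.dvd_factorial h0 (h1 ▸ hm)).1
  obtain ⟨m, hm⟩ := exists_pow_eq_self_of_coprime (x := x) (n := n.factorial)
    (((hp.coprime_factorial_of_lt hn).symm).coprime_dvd_right (orderOf_dvd_of_pow_eq_one h))
  rw [← hm]
  exact H.pow_mem h2 m

theorem sylow_norm [Finite G] {p : ℕ} [hp : Fact p.Prime] (K H : Subgroup G) (hHK : H ≤ K) {x : G}
    (hx : x ∈ H) (ho : orderOf x = p) (hK : ¬ p ^ 2 ∣ Nat.card K) {N : ℕ}
    (hN : Nat.card ↥(K ⊓ Subgroup.normalizer (Subgroup.zpowers x : Set G)) = N) :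
    ∃ n m, n % p = 1 ∧ Nat.card H = n * m ∧ m ∣ N ∧ p ∣ m ∧
      (m = N → K ⊓ Subgroup.normalizer (Subgroup.zpowers x : Set G) ≤ H) := by
  obtain ⟨n, h1, h2⟩ := sylow_count (p := p) (a := 1) H (Subgroup.zpowers x)
    (Subgroup.zpowers_le_of_mem hx) (by rw [Nat.card_zpowers, ho, pow_one])
    fun h => hK (h.trans (Subgroup.card_dvd_of_le hHK))
  have h3 : H ⊓ Subgroup.normalizer (Subgroup.zpowers x : Set G) ≤
      K ⊓ Subgroup.normalizer (Subgroup.zpowers x : Set G) := inf_le_inf_right _ hHK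
  refine ⟨n, _, h1, h2, hN ▸ Subgroup.card_dvd_of_le h3, ?_, fun h => ?_⟩
  · rw [← ho, ← Nat.card_zpowers]
    exact Subgroup.card_dvd_of_le (le_inf (Subgroup.zpowers_le_of_mem hx) Subgroup.le_normalizer)
  · rw [← Subgroup.eq_of_le_of_card_ge h3 (hN.trans h.symm).le]
    exact inf_le_left

theorem sylow_norm' [Finite G] {p : ℕ} [hp : Fact p.Prime] (K H : Subgroup G) (hHK : H ≤ K) {x : G}
    (hx : x ∈ K) (ho : orderOf x = p) (hK : ¬ p ^ 2 ∣ Nat.card K) {N : ℕ}
    (hN : Nat.card ↥(K ⊓ Subgroup.normalizer (Subgroup.zpowers x : Set G)) = N)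
    (hH : p ∣ Nat.card H) : ∃ n m, n % p = 1 ∧ Nat.card H = n * m ∧ m ∣ N ∧ p ∣ m := by
  obtain ⟨k, hk, h⟩ := exists_cj_mem K H hx ho hK hHK hH
  obtain ⟨n, m, h1, h2, h3, h4, -⟩ := sylow_norm K (cj k H) (cj_le hk hHK) h ho hK hN
  exact ⟨n, m, h1, (card_cj k H).symm.trans h2, h3, h4⟩

theorem orbit_cases [Finite G] (K H : Subgroup G) (hKH : K ≤ H) (x : X) (hx : ∀ k ∈ K, k • x = x)
    {m : ℕ} (hm : ∀ y ∈ orbit H x, y ≠ x → m ≤ (orbit K y).ncard) :
    H ≤ stabilizer G x ∨ (m + 1 ≤ (orbit H x).ncard ∧ (orbit H x).ncard - 1 ∣ Nat.card K) ∨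
      2 * m + 1 ≤ (orbit H x).ncard := by
  by_cases h1 : H ≤ stabilizer G x
  · exact Or.inl h1
  obtain ⟨g, hg, h2⟩ := SetLike.not_le_iff_exists.mp h1
  have hf : (orbit H x).Finite := Set.finite_range _
  have h3 : ∀ y ∈ orbit H x \ {x}, orbit K y ⊆ orbit H x \ {x} := by
    rintro _ ⟨⟨a, rfl⟩, ha⟩ _ ⟨k, rfl⟩
    refine ⟨⟨⟨k, hKH k.2⟩ * a, mul_smul _ _ _⟩, fun h => ha ?_⟩
    exact (MulAction.injective (k : G) (h.trans (hx k k.2).symm) : _)
  have h4 : (orbit H x \ {x}).ncard + 1 = (orbit H x).ncard :=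
    Set.ncard_sdiff_singleton_add_one (mem_orbit_self x) hf
  have h5 : g • x ∈ orbit H x \ {x} := ⟨⟨⟨g, hg⟩, rfl⟩, h2⟩
  have h6 := hm _ h5.1 h5.2
  by_cases h7 : orbit H x \ {x} ⊆ orbit K (g • x)
  · have h8 := (h3 _ h5).antisymm h7
    rw [← h8] at h4
    refine Or.inr (Or.inl ⟨by omega, ?_⟩)
    rw [← h4]
    exact ncard_orbit_dvd_card K _
  · obtain ⟨y, hy, h8⟩ := Set.not_subset.mp h7
    have h9 : Disjoint (orbit K (g • x)) (orbit K y) := by
      rw [Set.disjoint_left]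
      intro z h1 h2
      exact h8 (orbit_eq_iff.mpr h1 ▸ mem_orbit_symm.mp h2)
    have h10 := Set.ncard_le_ncard (Set.union_subset (h3 _ h5) (h3 _ hy)) (hf.subset Set.sdiff_subset)
    rw [Set.ncard_union_eq h9 (Set.finite_range _) (Set.finite_range _)] at h10
    have := hm _ hy.1 hy.2
    exact Or.inr (Or.inr (by omega))

theorem le_stabilizer_of_index [Finite G] (K H : Subgroup G) (hKH : K ≤ H)
    (hc : Nat.card H = 24 * Nat.card K) (h23 : ¬ 23 ∣ Nat.card K) (x : X) (hx : ∀ k ∈ K, k • x = x)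
    (hm : ∀ y ∈ orbit H x, y ≠ x → 12 ≤ (orbit K y).ncard) : H ≤ stabilizer G x := by
  have h1 := ncard_orbit_mul_card_dvd H K hKH x hx
  rw [hc, Nat.mul_dvd_mul_iff_right Nat.card_pos] at h1
  have h2 := Nat.le_of_dvd (by norm_num) h1
  rcases orbit_cases K H hKH x hx hm with h | ⟨h3, h4⟩ | h
  · exact h
  · generalize (orbit H x).ncard = n at *
    obtain rfl : n = 24 := by interval_cases n <;> simp_all
    exact absurd h4 h23
  · omega

theorem le_stabilizer_of_cj {k : G} {H : Subgroup G} {x : X} (h : cj k H ≤ stabilizer G x) :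
    H ≤ stabilizer G (k⁻¹ • x) := fun g hg => smul_eq_of_cj (fun _ hg => h hg) g hg

theorem cj_inv_le_of_conj {a : G} {H K L : Subgroup G} (hK : ∀ x, x ∈ K ↔ a * x * a⁻¹ ∈ L)
    (h : H ≤ L) : cj a⁻¹ H ≤ K := fun x hx => (hK x).mpr (h (by simpa using mem_cj.mp hx))

theorem le_cj_inv_of_conj {a : G} {H K L : Subgroup G} (hK : ∀ x, x ∈ K ↔ a * x * a⁻¹ ∈ L)
    (h : L ≤ H) : K ≤ cj a⁻¹ H := fun x hx => mem_cj.mpr (by simpa using h ((hK x).mp hx))

end

theorem gen_singleton (x : ℕ) : gen [x] = Subgroup.zpowers (toM x) := by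
  rw [Subgroup.zpowers_eq_closure, gen]
  congr 1
  ext y
  simp [eq_comm]

theorem Enc.small_orbits {X : Type*} [MulAction M24 X] (E : Enc M24 X)
    (hok : ∀ g, inM g = true → E.ok g) (hcl : E.clos gens24 = ⊤) {gens : List ℕ}
    (hg : ∀ g ∈ gens, inM g = true) (K H : Subgroup M24) (hK : ∀ g ∈ gens, E.grp g ∈ K) {x0 : ℕ}
    (h0 : E.valid x0) {fuel m : ℕ} (h : orbAll (actsOf E.act gens24) x0 fuel (fun y =>
      Bool.or (Nat.beq y x0) (Nat.ble m (orbLB (actsOf E.act gens) y m))) = true) :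
    ∀ y ∈ orbit H (E.dec x0), y ≠ E.dec x0 → m ≤ (orbit K y).ncard := by
  rintro _ ⟨a, rfl⟩ hne
  obtain ⟨y, hy, e, h1⟩ := E.forall_orbit (fun g hg => hok g (inM_gens24 g hg)) h0 h
    (x := (a : M24) • E.dec x0) ⟨⟨a, hcl ▸ trivial⟩, rfl⟩
  rw [Bool.or_eq_true, beq_iff, ble_iff] at h1
  rcases h1 with rfl | h1
  · exact absurd e.symm hne
  · have h2 := E.orbLB_le (fun g h => hok g (hg g h)) K hK hy m
    rw [e] at h2
    exact h1.trans h2

theorem Enc.norm_smul_eq {X : Type*} [MulAction M24 X] (E : Enc M24 X)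
    (hok : ∀ g, inM g = true → E.ok g) (hgrp : ∀ g, E.grp g = toM g) {gens : List ℕ}
    (hg : ∀ g ∈ gens, inM g = true) {x x0 : ℕ} (hx : inM x = true) (h0 : E.valid x0)
    (hfix : E.act x x0 = x0) {fuel : ℕ} (h : orbAll (actsOf E.act gens) x0 fuel (fun y =>
      Bool.or (Nat.beq y x0) (!allL (fun g => Nat.beq (E.act g y) y) [x])) = true) {n : M24}
    (hn : n ∈ E.clos gens) (hN : n ∈ Subgroup.normalizer (Subgroup.zpowers (toM x) : Set M24)) :
    n • E.dec x0 = E.dec x0 := by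
  refine E.smul_eq_of_normalizes (fun g h => hok g (hg g h)) h0 (gensP := [x])
    (fun g h => List.mem_singleton.mp h ▸ hok x hx) h (Subgroup.zpowers (toM x))
    (fun g h => by rw [List.mem_singleton.mp h, hgrp]; exact Subgroup.mem_zpowers _)
    (fun s hs => Subgroup.zpowers_le_of_mem (H := stabilizer M24 (E.dec x0)) ?_ hs) hn fun s hs => ?_
  · show toM x • E.dec x0 = E.dec x0
    rw [← hgrp, ← E.dec_act _ _ (hok x hx) h0, hfix]
  · simpa using (Subgroup.mem_normalizer_iff.mp (Subgroup.inv_mem _ hN) s).mp hs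

theorem card_inf_normalizer {K L : Subgroup M24} {gensL : List ℕ} (hL : L = gen gensL)
    (hg : ∀ g ∈ gensL, inM g = true) (hLK : L ≤ K) {x : ℕ} (hx : inM x = true)
    (hN : K ⊓ Subgroup.normalizer (Subgroup.zpowers (toM x) : Set M24) ≤ L) {fuel fuel' m : ℕ}
    (h : orb (actsOf pmul [x]) pid fuel false (fun t _ =>
      orbCnt (actsOf pmul gensL) pid fuel' (fun y => force (pconj y x) t.mem) m) = true) :
    Nat.card ↥(K ⊓ Subgroup.normalizer (Subgroup.zpowers (toM x) : Set M24)) = m := by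
  obtain ⟨t, n, h1, -, h2, -⟩ := gen_orb (gens := [x]) (by simpa using hx) h
  rw [← ncard_gen_filter hg h1
    (fun y => y ∈ Subgroup.normalizer (Subgroup.zpowers (toM x) : Set M24)) fun y hy => by
      rw [force_eq, ← h2 _ (inM_pconj hy hx), toM_pconj hy hx, gen_singleton,
        mem_normalizer_zpowers], ← hL, ← SetLike.coe_sort_coe, Nat.card_coe_set_eq]
  congr 1
  ext y
  exact ⟨fun h => ⟨hN h, h.2⟩, fun h => ⟨hLK h.1, h.2⟩⟩

/-- The test applied to a candidate orbit. -/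
noncomputable def prune (acts : List (ℕ → ℕ)) (x k h n F : ℕ) (r : ℕ → Bool) (tr : Bool)
    (u : ℕ) : Bool :=
  Bool.or (Bool.or (!Nat.beq (img x u) u) (!Nat.beq (Nat.mod h (pc u)) 0))
    (Bool.or (Bool.or (Bool.or (Bool.or (r u) (r (Nat.xor u 16777215)))
      (Bool.or (r (Nat.xor u F)) (r (Nat.xor (Nat.xor u F) 16777215))))
      (Bool.and tr (Nat.beq u (Nat.xor F 16777215))))
    (Bool.or (Nat.ble (n + 1) (orbLB acts u (n + 1))) (force (orbSize acts u (n + 2)) fun s =>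
      Bool.and (!Nat.beq s 0) (!Nat.beq (Nat.mod k (Nat.mul s h)) 0))))

theorem msmul_xor {g : M24} {a b : ℕ} (ha : g • toSet a = toSet a) (hb : g • toSet b = toSet b) :
    g • toSet (Nat.xor a b) = toSet (Nat.xor a b) := by
  rw [toSet_xor]
  exact (smul_symmDiff g _ _).trans (congrArg₂ symmDiff ha hb)

theorem msmul_full (g : M24) : g • toSet 16777215 = toSet 16777215 := by
  rw [toSet_full, msmul_univ]

/-- A subgroup of small index stabilises a set of a listed kind or is transitive. -/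
theorem orb_cases {K H : Subgroup M24} (hHK : H ≤ K) {gens : List ℕ}
    (hg : ∀ g ∈ gens, inM g = true) (hK : K = gen gens) {k h n : ℕ} (hk : Nat.card K = k)
    (hh : Nat.card H = h) (hn : k ≤ n * h) {p x : ℕ} [Fact p.Prime] (hx : inM x = true)
    (hxK : toM x ∈ K) (ho : ordP p x = true) (hp : ¬ p ^ 2 ∣ k) (hp' : p ∣ h) {i : ℕ} (hi : i < 24)
    {F : ℕ} (hF : F < 2 ^ 24) (hKF : K ≤ stabilizer M24 (toSet F)) (hiF : tb F i = false)
    {r : ℕ → Bool} {tr : Bool} {bs : List ℕ}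
    (hc : withTabs fimg gens (fun a => unionsChk x p (prune a x k h n F r tr) bs (Nat.pow 2 i) F) = true)
    (R : Finset GolayPt → Prop) (hR : ∀ w < 2 ^ 24, r w = true → R (toSet w))
    (hR' : ∀ g ∈ K, ∀ s, R s → R (g • s)) :
    (∃ s, R s ∧ H ≤ stabilizer M24 s) ∨
      (tr = true ∧ ∀ a ∉ toSet F, ∀ b ∉ toSet F, ∃ g ∈ H, g • a = b) := by
  obtain ⟨c, hcK, hxH⟩ := exists_cj_mem K H hxK ((ordP_iff hx).mp ho) (hk ▸ hp) hHK (hh ▸ hp')
  have hle := cj_le hcK hHK
  rw [← card_cj c H] at hh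
  rw [← fastSet] at hc
  obtain ⟨u, hu, e, h1⟩ := unionsChk_spec hx hc (U := orbF (cj c H) (pt i)) (smul_orbF hxH _)
    (by rw [toSet_pow hi]; simpa using self_mem_orbF _ _) (fun q hq => by
      rw [Finset.mem_compl, mem_orbF]
      rintro ⟨g, hg, rfl⟩
      rw [smul_mem_iff_of_mem_stabilizer (hKF (hle hg)), pt_mem_toSet hi, hiF] at hq
      exact absurd hq (by decide))
  have h2 : ∀ g ∈ cj c H, g • toSet u = toSet u := fun g hg => e ▸ smul_orbF hg _
  have key : ∀ w < 2 ^ 24, r w = true → (∀ g ∈ cj c H, g • toSet w = toSet w) →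
      ∃ s, R s ∧ H ≤ stabilizer M24 s := fun w hw h3 h4 =>
    ⟨_, hR' _ (K.inv_mem hcK) _ (hR w hw h3), le_stabilizer_of_cj h4⟩
  have hfull : 16777215 < 2 ^ 24 := by norm_num
  simp only [prune, Bool.or_eq_true, Bool.not_eq_true', beq_false_iff, Bool.and_eq_true, beq_iff,
    ble_iff, force_eq] at h1
  rcases h1 with (h1 | h1) | (((h1 | h1) | (h1 | h1)) | h1) | h1 | h1
  · exact absurd ((toM_mem_stabilizer_toSet hx hu).mp (h2 _ hxH)) h1
  · refine absurd (Nat.mod_eq_zero_of_dvd ?_) h1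
    rw [← card_toSet hu, e, ← hh]
    exact card_orbF_dvd _ _
  · exact Or.inl (key _ hu h1 h2)
  · exact Or.inl (key _ (xor_lt hu hfull) h1 fun g hg => msmul_xor (h2 g hg) (msmul_full g))
  · exact Or.inl (key _ (xor_lt hu hF) h1 fun g hg => msmul_xor (h2 g hg) (hKF (hle hg)))
  · exact Or.inl (key _ (xor_lt (xor_lt hu hF) hfull) h1 fun g hg =>
      msmul_xor (msmul_xor (h2 g hg) (hKF (hle hg))) (msmul_full g))
  · refine Or.inr ⟨h1.1, fun a ha b hb => ?_⟩
    rw [h1.2, toSet_compl] at e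
    have h3 : ∀ a ∉ toSet F, ∃ g ∈ cj c H, g • pt i = c • a := fun a ha => by
      rw [← mem_orbF, ← e, Finset.mem_compl, smul_mem_iff_of_mem_stabilizer (hKF hcK)]
      exact ha
    obtain ⟨g, hg, e1⟩ := h3 a ha
    obtain ⟨g', hg', e2⟩ := h3 b hb
    refine ⟨c⁻¹ * (g' * g⁻¹) * c, mem_cj.mp (mul_mem hg' (inv_mem hg)), ?_⟩
    rw [mul_smul, ← e1, mul_smul, mul_smul, inv_smul_smul, e2, inv_smul_smul]
  · exfalso
    have h3 := encSet.orbLB_le (gens := gens) hg K (fun g h => hK ▸ toM_mem_gen h) (x0 := u) hu (n + 1)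
    have h4 := ncard_orbit_mul_card_le K _ hle (toSet u) h2
    rw [hk, hh] at h4
    have h5 : (n + 1) * h ≤ n * h := ((Nat.mul_le_mul_right _ (h1.trans h3)).trans h4).trans hn
    have h6 : 0 < h := hh ▸ Nat.card_pos
    nlinarith
  · exfalso
    have h3 := encSet.ncard_orbit_of_orbSize (gens := gens) hg (x0 := u) hu h1.1 rfl
    have h4 := ncard_orbit_mul_card_dvd K _ hle (toSet u) h2
    rw [hk, hh] at h4
    refine h1.2 (Nat.mod_eq_zero_of_dvd ?_)
    subst hK
    exact h3 ▸ h4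

theorem card_of_transitive {H : Subgroup M24} {F : Finset GolayPt} (hF : H ≤ stabilizer M24 F)
    (h : ∀ a ∉ F, ∀ b ∉ F, ∃ g ∈ H, g • a = b) {p : GolayPt} (hp : p ∉ F) :
    Nat.card H = (24 - F.card) * Nat.card ↥(H ⊓ stabilizer M24 p) := by
  rw [card_eq_orbF_mul H p, ← card_pt, ← Finset.card_compl]
  congr 2
  ext q
  rw [mem_orbF, Finset.mem_compl]
  exact ⟨fun ⟨g, hg, e⟩ => e ▸ fun h => hp ((smul_mem_iff_of_mem_stabilizer (hF hg)).mp h),
    h p hp q⟩

/-! ## Normalisers of Sylow subgroups of prime order -/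

instance fact_prime_five : Fact (Nat.Prime 5) := ⟨by norm_num⟩

instance fact_prime_seven : Fact (Nat.Prime 7) := ⟨by norm_num⟩

/-- An element of order 7. -/
def x7 : ℕ := 967278358228413736413445418658415648

theorem inM_x7 : inM x7 = true := by decide +kernel

theorem orderOf_x7 : orderOf (toM x7) = 7 := (ordP_iff inM_x7).mp (by decide +kernel)

theorem x7_mem_G22 : toM x7 ∈ G22 := mem_of_inK22 _ inM_x7 (by decide +kernel)

theorem card_G21 : Nat.card G21 = 20160 := card_stab_three pt23_ne_pt0 pt23_ne_pt1 pt0_ne_pt1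

/-- Generators. -/
def gensL7 : List ℕ := [966151996314433300984468237877620768, 982973169907935351442038312785188896]

theorem gensL7_chk : genChk gensL7
    [[2, 0, 2],
    [4, 4, 0, 3, 4],
    [7, 0, 2],
    [4, 2, 4]]
    [(2, [981716224128048982828018616042065952]),
    (3, [984154630448920748845654661843716128, 966679299090847180137864131394340896])] 168 = true := by decide +kernel

theorem card_norm_x7 :
    Nat.card ↥(G22 ⊓ Subgroup.normalizer (Subgroup.zpowers (toM x7) : Set M24)) = 21 := by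
  have h1 := encSet.card_inf_stabilizer_le (gens := gens21) inM_gens21 G21 gens21_mem
    (x0 := 15762208) (show _ < 2 ^ 24 by norm_num) 130 (n := 120) (m := 168) (by norm_num)
    (orbSize_set (by decide +kernel)) (by rw [card_G21])
  have hg := genChk_inM gensL7_chk
  refine card_inf_normalizer (eq_gen_of_genChk gensL7_chk (G21 ⊓ stabilizer M24 (toSet 15762208))
    (fun g h => ⟨⟨⟨allL_fix_pt hg (i := 23) (by norm_num) (by decide +kernel) g h,
      allL_fix_pt hg (i := 0) (by norm_num) (by decide +kernel) g h⟩,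
      allL_fix_pt hg (i := 1) (by norm_num) (by decide +kernel) g h⟩,
      allL_fix_set hg (by norm_num) (by decide +kernel) g h⟩) h1).1 hg (fun _ h => h.1.1) inM_x7
    (fun n hn => ?_) (fuel := 10) (fuel' := 170) (by decide +kernel)
  have h2 : n ∈ G21 := ⟨hn.1, encPt.norm_smul_eq (fun _ h => h) (fun _ => rfl) inM_gens22 inM_x7
    (x0 := 1) (show 1 < 24 by norm_num) (by decide +kernel) (fuel := 25) (by decide +kernel)
    (G22_eq ▸ hn.1 : n ∈ gen gens22) hn.2⟩
  exact ⟨h2, encSet.norm_smul_eq (fun _ h => h) (fun _ => rfl) inM_gens21 inM_x7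
    (x0 := 15762208) (show _ < 2 ^ 24 by norm_num) (by decide +kernel) (fuel := 130)
    (by decide +kernel) (G21_eq ▸ h2 : n ∈ gen gens21) hn.2⟩

theorem M22_seven {p q : GolayPt} (hpq : p ≠ q) {H : Subgroup M24}
    (hH : H ≤ stabilizer M24 p ⊓ stabilizer M24 q) (h7 : 7 ∣ Nat.card H) :
    ∃ n, n % 7 = 1 ∧ (Nat.card H = n * 7 ∨ Nat.card H = n * 21) := by
  obtain ⟨a, rfl, rfl⟩ := exists_smul_two pt23_ne_pt0 hpq
  rw [← card_cj a⁻¹ H] at h7 ⊢
  obtain ⟨n, m, h1, h2, h3, h4⟩ := sylow_norm' G22 _ (cj_inv_le_of_conj (conj_mem_stab2 a _ _) hH)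
    x7_mem_G22 orderOf_x7 (by rw [card_G22]; norm_num) card_norm_x7 h7
  refine ⟨n, h1, ?_⟩
  have := Nat.le_of_dvd (by norm_num) h3
  interval_cases m <;> simp_all

/-- An element of order 11. -/
def x11 : ℕ := 980499426742428918133651689770993856

theorem inM_x11 : inM x11 = true := by decide +kernel

theorem orderOf_x11 : orderOf (toM x11) = 11 := (ordP_iff inM_x11).mp (by decide +kernel)

theorem x11_mem_G22 : toM x11 ∈ G22 := mem_of_inK22 _ inM_x11 (by decide +kernel)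

theorem card_norm_x11 :
    Nat.card ↥(G22 ⊓ Subgroup.normalizer (Subgroup.zpowers (toM x11) : Set M24)) = 55 :=
  card_inf_normalizer (K := G22) GL11_eq inM_gensL (fun _ h => ⟨h.2, h.1.2⟩) inM_x11
    (fun n hn => ⟨⟨encSet.norm_smul_eq (fun _ h => h) (fun _ => rfl) inM_gens22 inM_x11
      (x0 := dod0) dod0_lt (by decide +kernel) (fuel := 700)
      ((fastSet _ (fun a => orbAll a _ _ _)).trans (by decide +kernel))
      (G22_eq ▸ hn.1 : n ∈ gen gens22) hn.2, hn.1.2⟩, hn.1.1⟩)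
    (fuel := 12) (fuel' := 700) (by decide +kernel)

theorem M22_eleven {p q : GolayPt} (hpq : p ≠ q) {H : Subgroup M24}
    (hH : H ≤ stabilizer M24 p ⊓ stabilizer M24 q) (h11 : 11 ∣ Nat.card H) :
    ∃ n, n % 11 = 1 ∧ (Nat.card H = n * 11 ∨ Nat.card H = n * 55) := by
  obtain ⟨a, rfl, rfl⟩ := exists_smul_two pt23_ne_pt0 hpq
  rw [← card_cj a⁻¹ H] at h11 ⊢
  obtain ⟨n, m, h1, h2, h3, h4⟩ := sylow_norm' G22 _ (cj_inv_le_of_conj (conj_mem_stab2 a _ _) hH)
    x11_mem_G22 orderOf_x11 (by rw [card_G22]; norm_num) card_norm_x11 h11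
  refine ⟨n, h1, ?_⟩
  have := Nat.le_of_dvd (by norm_num) h3
  interval_cases m <;> simp_all

set_option linter.all false in
theorem eqns_Idx2 : True := by
  first | (have := @prune.eq_def.{0,0,0,0,0,0}) | (have := @prune.eq_def.{0,0,0,0,0}) | (have := @prune.eq_def.{0,0,0,0}) | (have := @prune.eq_def.{0,0,0}) | (have := @prune.eq_def.{0,0}) | (have := @prune.eq_def.{0}) | (have := @prune.eq_def) | skip
  first | (have := @prune.eq_1.{0,0,0,0,0,0}) | (have := @prune.eq_1.{0,0,0,0,0}) | (have := @prune.eq_1.{0,0,0,0}) | (have := @prune.eq_1.{0,0,0}) | (have := @prune.eq_1.{0,0}) | (have := @prune.eq_1.{0}) | (have := @prune.eq_1) | skip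
  first | (have := @prune.eq_2.{0,0,0,0,0,0}) | (have := @prune.eq_2.{0,0,0,0,0}) | (have := @prune.eq_2.{0,0,0,0}) | (have := @prune.eq_2.{0,0,0}) | (have := @prune.eq_2.{0,0}) | (have := @prune.eq_2.{0}) | (have := @prune.eq_2) | skip
  first | (have := @prune.eq_3.{0,0,0,0,0,0}) | (have := @prune.eq_3.{0,0,0,0,0}) | (have := @prune.eq_3.{0,0,0,0}) | (have := @prune.eq_3.{0,0,0}) | (have := @prune.eq_3.{0,0}) | (have := @prune.eq_3.{0}) | (have := @prune.eq_3) | skip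
  first | (have := @prune.eq_unfold.{0,0,0,0,0,0}) | (have := @prune.eq_unfold.{0,0,0,0,0}) | (have := @prune.eq_unfold.{0,0,0,0}) | (have := @prune.eq_unfold.{0,0,0}) | (have := @prune.eq_unfold.{0,0}) | (have := @prune.eq_unfold.{0}) | (have := @prune.eq_unfold) | skip
  first | (have := @prune.congr_simp.{0,0,0,0,0,0}) | (have := @prune.congr_simp.{0,0,0,0,0}) | (have := @prune.congr_simp.{0,0,0,0}) | (have := @prune.congr_simp.{0,0,0}) | (have := @prune.congr_simp.{0,0}) | (have := @prune.congr_simp.{0}) | (have := @prune.congr_simp) | skip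
  first | (have := @x7.eq_def.{0,0,0,0,0,0}) | (have := @x7.eq_def.{0,0,0,0,0}) | (have := @x7.eq_def.{0,0,0,0}) | (have := @x7.eq_def.{0,0,0}) | (have := @x7.eq_def.{0,0}) | (have := @x7.eq_def.{0}) | (have := @x7.eq_def) | skip
  first | (have := @x7.eq_1.{0,0,0,0,0,0}) | (have := @x7.eq_1.{0,0,0,0,0}) | (have := @x7.eq_1.{0,0,0,0}) | (have := @x7.eq_1.{0,0,0}) | (have := @x7.eq_1.{0,0}) | (have := @x7.eq_1.{0}) | (have := @x7.eq_1) | skip
  first | (have := @x7.eq_2.{0,0,0,0,0,0}) | (have := @x7.eq_2.{0,0,0,0,0}) | (have := @x7.eq_2.{0,0,0,0}) | (have := @x7.eq_2.{0,0,0}) | (have := @x7.eq_2.{0,0}) | (have := @x7.eq_2.{0}) | (have := @x7.eq_2) | skip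
  first | (have := @x7.eq_3.{0,0,0,0,0,0}) | (have := @x7.eq_3.{0,0,0,0,0}) | (have := @x7.eq_3.{0,0,0,0}) | (have := @x7.eq_3.{0,0,0}) | (have := @x7.eq_3.{0,0}) | (have := @x7.eq_3.{0}) | (have := @x7.eq_3) | skip
  first | (have := @x7.eq_unfold.{0,0,0,0,0,0}) | (have := @x7.eq_unfold.{0,0,0,0,0}) | (have := @x7.eq_unfold.{0,0,0,0}) | (have := @x7.eq_unfold.{0,0,0}) | (have := @x7.eq_unfold.{0,0}) | (have := @x7.eq_unfold.{0}) | (have := @x7.eq_unfold) | skip
  first | (have := @x7.congr_simp.{0,0,0,0,0,0}) | (have := @x7.congr_simp.{0,0,0,0,0}) | (have := @x7.congr_simp.{0,0,0,0}) | (have := @x7.congr_simp.{0,0,0}) | (have := @x7.congr_simp.{0,0}) | (have := @x7.congr_simp.{0}) | (have := @x7.congr_simp) | skip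
  first | (have := @gensL7.eq_def.{0,0,0,0,0,0}) | (have := @gensL7.eq_def.{0,0,0,0,0}) | (have := @gensL7.eq_def.{0,0,0,0}) | (have := @gensL7.eq_def.{0,0,0}) | (have := @gensL7.eq_def.{0,0}) | (have := @gensL7.eq_def.{0}) | (have := @gensL7.eq_def) | skip
  first | (have := @gensL7.eq_1.{0,0,0,0,0,0}) | (have := @gensL7.eq_1.{0,0,0,0,0}) | (have := @gensL7.eq_1.{0,0,0,0}) | (have := @gensL7.eq_1.{0,0,0}) | (have := @gensL7.eq_1.{0,0}) | (have := @gensL7.eq_1.{0}) | (have := @gensL7.eq_1) | skip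
  first | (have := @gensL7.eq_2.{0,0,0,0,0,0}) | (have := @gensL7.eq_2.{0,0,0,0,0}) | (have := @gensL7.eq_2.{0,0,0,0}) | (have := @gensL7.eq_2.{0,0,0}) | (have := @gensL7.eq_2.{0,0}) | (have := @gensL7.eq_2.{0}) | (have := @gensL7.eq_2) | skip
  first | (have := @gensL7.eq_3.{0,0,0,0,0,0}) | (have := @gensL7.eq_3.{0,0,0,0,0}) | (have := @gensL7.eq_3.{0,0,0,0}) | (have := @gensL7.eq_3.{0,0,0}) | (have := @gensL7.eq_3.{0,0}) | (have := @gensL7.eq_3.{0}) | (have := @gensL7.eq_3) | skip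
  first | (have := @gensL7.eq_unfold.{0,0,0,0,0,0}) | (have := @gensL7.eq_unfold.{0,0,0,0,0}) | (have := @gensL7.eq_unfold.{0,0,0,0}) | (have := @gensL7.eq_unfold.{0,0,0}) | (have := @gensL7.eq_unfold.{0,0}) | (have := @gensL7.eq_unfold.{0}) | (have := @gensL7.eq_unfold) | skip
  first | (have := @gensL7.congr_simp.{0,0,0,0,0,0}) | (have := @gensL7.congr_simp.{0,0,0,0,0}) | (have := @gensL7.congr_simp.{0,0,0,0}) | (have := @gensL7.congr_simp.{0,0,0}) | (have := @gensL7.congr_simp.{0,0}) | (have := @gensL7.congr_simp.{0}) | (have := @gensL7.congr_simp) | skip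
  first | (have := @x11.eq_def.{0,0,0,0,0,0}) | (have := @x11.eq_def.{0,0,0,0,0}) | (have := @x11.eq_def.{0,0,0,0}) | (have := @x11.eq_def.{0,0,0}) | (have := @x11.eq_def.{0,0}) | (have := @x11.eq_def.{0}) | (have := @x11.eq_def) | skip
  first | (have := @x11.eq_1.{0,0,0,0,0,0}) | (have := @x11.eq_1.{0,0,0,0,0}) | (have := @x11.eq_1.{0,0,0,0}) | (have := @x11.eq_1.{0,0,0}) | (have := @x11.eq_1.{0,0}) | (have := @x11.eq_1.{0}) | (have := @x11.eq_1) | skip
  first | (have := @x11.eq_2.{0,0,0,0,0,0}) | (have := @x11.eq_2.{0,0,0,0,0}) | (have := @x11.eq_2.{0,0,0,0}) | (have := @x11.eq_2.{0,0,0}) | (have := @x11.eq_2.{0,0}) | (have := @x11.eq_2.{0}) | (have := @x11.eq_2) | skip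
  first | (have := @x11.eq_3.{0,0,0,0,0,0}) | (have := @x11.eq_3.{0,0,0,0,0}) | (have := @x11.eq_3.{0,0,0,0}) | (have := @x11.eq_3.{0,0,0}) | (have := @x11.eq_3.{0,0}) | (have := @x11.eq_3.{0}) | (have := @x11.eq_3) | skip
  first | (have := @x11.eq_unfold.{0,0,0,0,0,0}) | (have := @x11.eq_unfold.{0,0,0,0,0}) | (have := @x11.eq_unfold.{0,0,0,0}) | (have := @x11.eq_unfold.{0,0,0}) | (have := @x11.eq_unfold.{0,0}) | (have := @x11.eq_unfold.{0}) | (have := @x11.eq_unfold) | skip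
  first | (have := @x11.congr_simp.{0,0,0,0,0,0}) | (have := @x11.congr_simp.{0,0,0,0,0}) | (have := @x11.congr_simp.{0,0,0,0}) | (have := @x11.congr_simp.{0,0,0}) | (have := @x11.congr_simp.{0,0}) | (have := @x11.congr_simp.{0}) | (have := @x11.congr_simp) | skip
  trivial

end Cfsg.Agent.H42
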