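import Cfsg.Agent.H42.LT3B
import Cfsg.Agent.H10.LTHe5
import Cfsg.Agent.H24.LT3Id2

/-! The component `A₆` does not occur in the Held group; `IdStmt` from `CoreStmt`. -/

set_option autoImplicit false

namespace Cfsg.Agent.H42.LT

open Subgroup Cfsg.Agent.H93.LT

universe u

theorem a6_not_he {G : Type u} [Group G] [Finite G] {h : H93.LT.Top G} {k : Hyp G} (e : Fit h k)
    (q : h.Quot (alternatingGroup (Fin 6))) (he : k.e = 1) (ht : h.t ∉ h.X)
    (hHe : Cfsg.Spor.IsoHe h.X) : False := by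
  obtain ⟨g⟩ := hHe
  obtain ⟨u, hu, -, ⟨n, hn⟩, H⟩ := idA6' e q he ht
  obtain ⟨-, i, i1, i2, i3⟩ := H10.He5.main (g ⟨u, hu⟩) (m := n)
    (by rw [← map_pow, show (⟨u, hu⟩ : h.X) ^ 5 ^ n = 1 from Subtype.ext hn, map_one])
  refine i1 ((map_eq_one_iff _ g.symm.injective).1 (Subtype.ext (H _ (g.symm i).2 ?_ ?_)))
  · rw [← coe_mul, ← map_mul, i2, map_one, coe_one]
  · simpa using (i3.map g.symm).map h.X.subtype

theorem idStmt (hc : CoreStmt.{u}) (hk : KitStmt.{u}) : IdStmt.{u} :=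
  H24.LT3.idStmt' hc hk id7 idA7 idL5 fun _ _ _ _ _ e q he ht hH => a6_not_he e q he ht hH

end Cfsg.Agent.H42.LT
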