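import Cfsg.Agent.H3.LTAl2
import Cfsg.Agent.H93.LT2Defs

/-! Type EE: the basic facts on `U`. -/

set_option autoImplicit false
set_option linter.unusedSectionVars false

namespace Cfsg.Agent.H42.LT

open Subgroup Cfsg.Agent.H85 Cfsg.Agent.H93.LT Cfsg.Agent.H3.LTB

universe u

variable {G : Type u} [Group G]

theorem mem_sup_inv {K : Subgroup G} {g x : G} (hg : g ∈ normalizer (K : Set G)) (h2 : g * g = 1)
    (hx : x ∈ K ⊔ zpowers g) : x ∈ K ∨ x * g ∈ K := by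
  refine cases_closure hg h2 (s := (K : Set G) ∪ {g}) (fun y hy => hy.imp id id) ?_
  rwa [Subgroup.closure_union, closure_eq, ← zpowers_eq_closure]

theorem card_two {A B : Subgroup G} (h : A ≤ B) {g : G} (hg : g ∈ B) (hA : g ∉ A)
    (e : ∀ x ∈ B, x ∈ A ∨ x * g ∈ A) : Nat.card B = 2 * Nat.card A := by
  have : (A.subgroupOf B).index = 2 := index_eq_two_iff.2 ⟨⟨g, hg⟩, fun b => by
    simp only [mem_subgroupOf, coe_mul]
    rcases e b b.2 with k | k
    · exact Or.inr ⟨k, fun l => hA ((mul_mem_cancel_left k).1 l)⟩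
    · exact Or.inl ⟨k, fun l => hA ((mul_mem_cancel_left l).1 k)⟩⟩
  rw [← (A.subgroupOf B).index_mul_card, this, Nat.card_congr (subgroupOfEquivOfLe h).toEquiv]

theorem card_sup_inv {K : Subgroup G} {g : G} (hg : g ∈ normalizer (K : Set G)) (h2 : g * g = 1)
    (hK : g ∉ K) : Nat.card (K ⊔ zpowers g : Subgroup G) = 2 * Nat.card K :=
  card_two le_sup_left (mem_sup_right (mem_zpowers g)) hK fun _ => mem_sup_inv hg h2

theorem comm_closure {s : Set G} {v x : G} (h : ∀ y ∈ s, Commute y v) (hx : x ∈ closure s) :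
    Commute x v := mem_centralizer_singleton_iff.1
  ((closure_le (centralizer {v})).2 (fun y hy => mem_centralizer_singleton_iff.2 (h y hy)) hx)

theorem ea_closure {s : Set G} (h1 : ∀ x ∈ s, x * x = 1) (h2 : ∀ x ∈ s, ∀ y ∈ s, Commute x y) :
    EA (closure s) := fun x hx => by
  induction hx using closure_induction with
  | mem x hx => exact h1 x hx
  | one => exact one_mul 1
  | mul x y hx hy a b =>
    have c : Commute x y := comm_closure (fun v hv => (comm_closure (fun w hw => h2 w hw v hv) hy).symm) hx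
    rw [c.symm.mul_mul_mul_comm, a, b, one_mul]
  | inv x _ a => rw [← mul_inv_rev, a, inv_one]

theorem ea_sup {A : Subgroup G} (hA : EA A) {g : G} (h2 : g * g = 1) (c : ∀ x ∈ A, Commute x g) :
    EA (A ⊔ zpowers g) := by
  rw [zpowers_eq_closure, ← closure_eq A, ← Subgroup.closure_union]
  refine ea_closure ?_ ?_
  · rintro x (hx | rfl); exacts [hA x hx, h2]
  · rintro x (hx | rfl) y (hy | rfl)
    exacts [EA.comm hA hx hy, c x hx, (c y hy).symm, Commute.refl _]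

theorem ea_p {A : Subgroup G} (hA : EA A) : IsPGroup 2 A := fun x =>
  ⟨1, Subtype.ext (by rw [pow_one, pow_two]; exact hA x x.2)⟩

theorem four_cases {Z : Subgroup G} {p q x : G} (cp : ∀ c ∈ Z, Commute c p)
    (cq : ∀ c ∈ Z, Commute c q) (pp : p * p = 1) (qq : q * q = 1) (pq : Commute p q)
    (hx : x ∈ Z ⊔ zpowers p ⊔ zpowers q) :
    ∃ c ∈ Z, x = c ∨ x = c * p ∨ x = c * q ∨ x = c * p * q := by
  have np : p ∈ normalizer (Z : Set G) := centralizer_le_normalizer _ fun c hc => cp c hc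
  have k : ∀ {y}, y ∈ Z ⊔ zpowers p → ∃ c ∈ Z, y = c ∨ y = c * p := fun {y} hy =>
    (mem_sup_inv np pp hy).elim (fun e => ⟨y, e, Or.inl rfl⟩) fun e =>
      ⟨_, e, Or.inr (by rw [mul_assoc, pp, mul_one])⟩
  have nq : q ∈ normalizer ((Z ⊔ zpowers p : Subgroup G) : Set G) :=
    centralizer_le_normalizer _ fun y hy => by
      obtain ⟨c, hc, rfl | rfl⟩ := k hy
      exacts [cq _ hc, (cq _ hc).mul_left pq]
  rcases mem_sup_inv nq qq hx with e | e <;> obtain ⟨c, hc, l | l⟩ := k e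
  · exact ⟨c, hc, Or.inl l⟩
  · exact ⟨c, hc, Or.inr (Or.inl l)⟩
  · exact ⟨c, hc, Or.inr (Or.inr (Or.inl (by rw [← l, mul_assoc, qq, mul_one])))⟩
  · exact ⟨c, hc, Or.inr (Or.inr (Or.inr (by rw [← l, mul_assoc, qq, mul_one])))⟩

/-- an elementary subgroup of order at least `32` centralises no conjugate of `t` -/
theorem no_ea32 [Finite G] {h : Hyp G} (K : Kit h) {A : Subgroup G} (hA : EA A)
    (hc : 32 ≤ Nat.card A) {u : G} (hu : A ≤ centralizer {u}) : ¬ IsConj h.t u := fun e => by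
  obtain ⟨g, -, e2⟩ := K.into u A e (ea_p hA) hu
  have c : Nat.card (cj g⁻¹ A) = Nat.card A := card_cj _ _
  have := K.j16 (cj g⁻¹ A) (fun x hx => by simpa [mul_assoc] using e2 _ (mem_cj.1 hx))
    (fun x hx => cn_one (g := g⁻¹) (by rw [cn_mul']; exact hA _ (mem_cj.1 hx))) (by omega)
  have h1 := K.cE.1
  have h2 := K.cE.2.1
  rcases this with e | e <;> rw [e] at c <;> omega

namespace EE

variable (h : EE G)

theorem ZU_eq : h.ZU = h.P ⊔ zpowers h.x ⊔ zpowers h.y := by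
  simp only [TT.ZU, Pre.P, zpowers_eq_closure, ← Subgroup.closure_union]
  congr 1; ext; simp only [Set.mem_union, Set.mem_insert_iff, Set.mem_singleton_iff]; tauto
theorem K1_eq : h.K1 = h.ZU ⊔ zpowers h.a ⊔ zpowers h.m := by
  simp only [TT.ZU, TT.K1, zpowers_eq_closure, ← Subgroup.closure_union]
  congr 1; ext; simp only [Set.mem_union, Set.mem_insert_iff, Set.mem_singleton_iff]; tauto
theorem K2_eq : h.K2 = h.ZU ⊔ zpowers h.b ⊔ zpowers h.n := by
  simp only [TT.ZU, TT.K2, zpowers_eq_closure, ← Subgroup.closure_union]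
  congr 1; ext; simp only [Set.mem_union, Set.mem_insert_iff, Set.mem_singleton_iff]; tauto
theorem U_eq : h.U = h.K1 ⊔ zpowers h.b ⊔ zpowers h.n := by
  simp only [TT.U, TT.K1, zpowers_eq_closure, ← Subgroup.closure_union]
  congr 1; ext; simp only [Set.mem_union, Set.mem_insert_iff, Set.mem_singleton_iff]; tauto
theorem U_eq' : h.U = h.K1 ⊔ h.K2 := by
  simp only [TT.U, TT.K1, TT.K2, ← Subgroup.closure_union]
  congr 1; ext; simp only [Set.mem_union, Set.mem_insert_iff, Set.mem_singleton_iff]; tauto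
theorem T2_eq : h.T2 = h.U ⊔ zpowers h.t := by
  simp only [TT.U, TT.T2, zpowers_eq_closure, ← Subgroup.closure_union]
  congr 1; ext; simp only [Set.mem_union, Set.mem_insert_iff, Set.mem_singleton_iff]; tauto
theorem T3_eq : h.T3 = h.T2 ⊔ zpowers h.g := by
  simp only [TT.T3, TT.T2, zpowers_eq_closure, ← Subgroup.closure_union]
  congr 1; ext; simp only [Set.mem_union, Set.mem_insert_iff, Set.mem_singleton_iff]; tauto

theorem xz : Commute h.x h.z := E.xz h.toEE0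
theorem yz : Commute h.y h.z := E.yz h.toEE0

theorem zZ : h.z ∈ h.ZU := subset_closure (by simp)
theorem fZ : h.f ∈ h.ZU := subset_closure (by simp)
theorem xZ : h.x ∈ h.ZU := subset_closure (by simp)
theorem yZ : h.y ∈ h.ZU := subset_closure (by simp)
theorem PZ : h.P ≤ h.ZU := ZU_eq h ▸ le_sup_left.trans le_sup_left
theorem wZ : h.w ∈ h.ZU := (mul_mem_cancel_left (inv_mem (xZ h))).1 (PZ h h.wx)
theorem ZK1 : h.ZU ≤ h.K1 := K1_eq h ▸ le_sup_left.trans le_sup_left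
theorem ZK2 : h.ZU ≤ h.K2 := K2_eq h ▸ le_sup_left.trans le_sup_left
theorem K1U : h.K1 ≤ h.U := U_eq' h ▸ le_sup_left
theorem K2U : h.K2 ≤ h.U := U_eq' h ▸ le_sup_right
theorem ZUU : h.ZU ≤ h.U := (ZK1 h).trans (K1U h)
theorem aK : h.a ∈ h.K1 := subset_closure (by simp)
theorem mK : h.m ∈ h.K1 := subset_closure (by simp)
theorem bK : h.b ∈ h.K2 := subset_closure (by simp)
theorem nK : h.n ∈ h.K2 := subset_closure (by simp)
theorem UT2 : h.U ≤ h.T2 := T2_eq h ▸ le_sup_left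
theorem tT2 : h.t ∈ h.T2 := subset_closure (by simp)
theorem T1T2 : closure {h.t, h.f, h.a, h.b, h.x, h.y} ≤ h.T2 :=
  closure_mono (by intro v; simp; tauto)

theorem eaK1 : EA h.K1 := ea_closure (by
    rintro v (rfl | rfl | rfl | rfl | rfl | rfl)
    exacts [h.zz, h.ff, h.xx, h.yy, h.aa, h.mm]) (by
  have := fz h.toHyp; have := xz h; have := yz h; have := h.za; have := h.mz; have := h.xf
  have := h.yf; have := h.fa; have := h.mf; have := h.xy; have := h.xa; have := h.mx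
  have := h.ya; have := h.my; have := h.ma
  rintro v (rfl | rfl | rfl | rfl | rfl | rfl) w (rfl | rfl | rfl | rfl | rfl | rfl) <;>
    first | exact Commute.refl _ | assumption | (symm; assumption))

theorem eaK2 : EA h.K2 := ea_closure (by
    rintro v (rfl | rfl | rfl | rfl | rfl | rfl)
    exacts [h.zz, h.ff, h.xx, h.yy, h.bb, h.nn]) (by
  have := fz h.toHyp; have := xz h; have := yz h; have := h.zb; have := h.nz; have := h.xf
  have := h.yf; have := h.fb; have := h.nf; have := h.xy; have := h.xb; have := h.nx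
  have := h.yb; have := h.ny; have := h.nb
  rintro v (rfl | rfl | rfl | rfl | rfl | rfl) w (rfl | rfl | rfl | rfl | rfl | rfl) <;>
    first | exact Commute.refl _ | assumption | (symm; assumption))

theorem eaZ : EA h.ZU := fun x hx => eaK1 h x (ZK1 h hx)

theorem c1 {u v : G} (hu : u ∈ h.K1) (hv : v ∈ h.K1) : Commute u v := EA.comm (eaK1 h) hu hv
theorem c2 {u v : G} (hu : u ∈ h.K2) (hv : v ∈ h.K2) : Commute u v := EA.comm (eaK2 h) hu hv

/-- `ZU` is central in `U` -/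
theorem cZ {c u : G} (hc : c ∈ h.ZU) (hu : u ∈ h.U) : Commute c u :=
  (mem_centralizer_singleton_iff.1 ((U_eq' h ▸ sup_le
    (fun _ hv => mem_centralizer_singleton_iff.2 (c1 h hv (ZK1 h hc)))
    (fun _ hv => mem_centralizer_singleton_iff.2 (c2 h hv (ZK2 h hc))) :
      h.U ≤ centralizer {c}) hu)).symm

theorem memZ {c : G} (hc : c ∈ h.ZU) :
    ∃ p ∈ h.P, c = p ∨ c = p * h.x ∨ c = p * h.y ∨ c = p * h.x * h.y :=
  four_cases (fun _ k => cZ h (PZ h k) (ZUU h (xZ h))) (fun _ k => cZ h (PZ h k) (ZUU h (yZ h)))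
    h.xx h.yy h.xy (ZU_eq h ▸ hc)

theorem memK1 {k : G} (hk : k ∈ h.K1) :
    ∃ c ∈ h.ZU, k = c ∨ k = c * h.a ∨ k = c * h.m ∨ k = c * h.a * h.m :=
  four_cases (fun _ k => cZ h k (K1U h (aK h))) (fun _ k => cZ h k (K1U h (mK h)))
    h.aa h.mm h.ma.symm (K1_eq h ▸ hk)

theorem memK2 {k : G} (hk : k ∈ h.K2) :
    ∃ c ∈ h.ZU, k = c ∨ k = c * h.b ∨ k = c * h.n ∨ k = c * h.b * h.n :=
  four_cases (fun _ k => cZ h k (K2U h (bK h))) (fun _ k => cZ h k (K2U h (nK h)))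
    h.bb h.nn h.nb.symm (K2_eq h ▸ hk)

theorem tP {p : G} (hp : p ∈ h.P) : Commute h.t p := comm_P h.toHyp hp (tz h.toHyp) h.tf

theorem tw : cn h.t h.w = h.t * h.z := by
  rw [← mul_inv_cancel_left h.x h.w, cn_mul, h.tx, cn_comm ((tP h h.wx).mul_left
    (cZ h (zZ h) (ZUU h (PZ h h.wx))))]

/-- an element moving `t` to `t z` -/
theorem cn_t {v : G} (e : cn h.t v = h.t * h.z) (vv : v * v = 1) : cn v h.t = v * h.z := by
  have e1 : v⁻¹ = v := inv_eq_of_mul_eq_one_right vv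
  have e2 : h.t⁻¹ = h.t := inv_eq_of_mul_eq_one_right h.tt
  rw [cn, e1] at e
  have e3 : h.t * v = v * (h.t * h.z) := by rw [← e, mul_assoc v, ← mul_assoc v v, vv, one_mul]
  rw [cn, e2, e3, mul_assoc, mul_assoc, ← (tz h.toHyp).eq, ← mul_assoc h.t, h.tt, one_mul]

theorem xt : cn h.x h.t = h.x * h.z := cn_t h h.tx h.xx
theorem wt : cn h.w h.t = h.w * h.z := cn_t h (tw h) (eaZ h _ (wZ h))

theorem nfix {v : G} (e : cn v h.t = v * h.z) : cn v h.t ≠ v ∧ cn (v * h.z) h.t ≠ v * h.z :=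
  ⟨fun k => h.z1 (by simpa [e] using k), fun k => h.z1 (by
    rw [cn_mul', e, cn_comm (tz h.toHyp).symm] at k; simpa using k)⟩

/-- the action of `K₁` on `b` -/
theorem act1 {k : G} (hk : k ∈ h.K1) : ∃ δ ∈ h.ZU, cn h.b k = h.b * δ ∧
    (cn δ h.t = δ → ∃ c ∈ h.ZU, k = c ∧ δ = 1 ∨ k = c * h.a ∧ δ = h.z) := by
  obtain ⟨c, hc, e⟩ := memK1 h hk
  have e1 : cn h.b c = h.b := cn_comm (cZ h hc (K2U h (bK h))).symm
  rcases e with rfl | rfl | rfl | rfl
  · exact ⟨1, one_mem _, by rw [e1, mul_one], fun _ => ⟨_, hc, Or.inl ⟨rfl, rfl⟩⟩⟩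
  · exact ⟨_, zZ h, by rw [cn_mul, e1, ba h.toHyp], fun _ => ⟨_, hc, Or.inr ⟨rfl, rfl⟩⟩⟩
  · exact ⟨_, xZ h, by rw [cn_mul, e1, h.bm], fun k => absurd k (nfix h (xt h)).1⟩
  · exact ⟨_, mul_mem (xZ h) (zZ h), by
      rw [cn_mul, cn_mul, e1, ba h.toHyp, cn_mul', h.bm, cn_comm h.mz.symm, mul_assoc],
      fun k => absurd k (nfix h (xt h)).2⟩

/-- the action of `K₂` on `a` -/
theorem act2 {k : G} (hk : k ∈ h.K2) : ∃ δ ∈ h.ZU, cn h.a k = h.a * δ ∧
    (cn δ h.t = δ → ∃ c ∈ h.ZU, k = c ∧ δ = 1 ∨ k = c * h.b ∧ δ = h.z) := by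
  obtain ⟨c, hc, e⟩ := memK2 h hk
  have e1 : cn h.a c = h.a := cn_comm (cZ h hc (K1U h (aK h))).symm
  rcases e with rfl | rfl | rfl | rfl
  · exact ⟨1, one_mem _, by rw [e1, mul_one], fun _ => ⟨_, hc, Or.inl ⟨rfl, rfl⟩⟩⟩
  · exact ⟨_, zZ h, by rw [cn_mul, e1, h.ab], fun _ => ⟨_, hc, Or.inr ⟨rfl, rfl⟩⟩⟩
  · exact ⟨_, wZ h, by rw [cn_mul, e1, h.an], fun k => absurd k (nfix h (wt h)).1⟩
  · exact ⟨_, mul_mem (wZ h) (zZ h), by
      rw [cn_mul, cn_mul, e1, h.ab, cn_mul', h.an, cn_comm h.nz.symm, mul_assoc],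
      fun k => absurd k (nfix h (wt h)).2⟩

theorem Z_of1 {k : G} (hk : k ∈ h.K1) (c : Commute h.b k) : k ∈ h.ZU := by
  obtain ⟨δ, -, e, l⟩ := act1 h hk
  have : δ = 1 := by simpa [cn_comm c] using e
  obtain ⟨c, hc, ⟨rfl, -⟩ | ⟨-, e2⟩⟩ := l (by simp [this, cn])
  exacts [hc, absurd (e2.symm.trans this) h.z1]

theorem Z_of2 {k : G} (hk : k ∈ h.K2) (c : Commute h.a k) : k ∈ h.ZU := by
  obtain ⟨δ, -, e, l⟩ := act2 h hk
  have : δ = 1 := by simpa [cn_comm c] using e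
  obtain ⟨c, hc, ⟨rfl, -⟩ | ⟨-, e2⟩⟩ := l (by simp [this, cn])
  exacts [hc, absurd (e2.symm.trans this) h.z1]

theorem tU : h.t ∉ h.U := fun e =>
  (nfix h (xt h)).1 (cn_comm (cZ h (xZ h) e))

theorem mb : cn h.m h.b = h.m * h.x := by
  have e := h.bm
  rw [cn, inv_eq_of_mul_eq_one_right h.mm] at e
  have e3 : h.b * h.m = h.m * (h.b * h.x) := by rw [← e, mul_assoc h.m, ← mul_assoc h.m h.m, h.mm, one_mul]
  rw [cn, inv_eq_of_mul_eq_one_right h.bb, e3, mul_assoc, mul_assoc, h.xb.eq, ← mul_assoc h.b, h.bb,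
    one_mul]

theorem mn' : cn h.m h.n = h.m * (h.m * h.n * h.m * h.n) := by
  rw [cn, inv_eq_of_mul_eq_one_right h.nn, mul_assoc h.m h.n, mul_assoc h.m, ← mul_assoc h.m h.m, h.mm,
    one_mul]

theorem mt : cn h.m h.t = h.a * h.m := by
  have e := h.tm
  rw [cn, inv_eq_of_mul_eq_one_right h.mm] at e
  rw [cn, inv_eq_of_mul_eq_one_right h.tt, ← inv_mul_cancel_left h.t h.a, ← e,
    inv_eq_of_mul_eq_one_right h.tt]
  simp only [mul_assoc, h.mm, mul_one]

theorem nt : cn h.n h.t = h.b * h.n := by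
  have e := h.tn
  rw [cn, inv_eq_of_mul_eq_one_right h.nn] at e
  rw [cn, inv_eq_of_mul_eq_one_right h.tt, ← inv_mul_cancel_left h.t h.b, ← e,
    inv_eq_of_mul_eq_one_right h.tt]
  simp only [mul_assoc, h.nn, mul_one]

theorem yt : cn h.y h.t ∈ h.ZU := by
  rcases E.ty h.toEE0 with e | e
  · rw [cn_comm (Commute.symm (comm_of_cn e))]; exact yZ h
  · have : cn h.y h.t = h.f * h.y := by
      rw [cn, inv_eq_of_mul_eq_one_right h.yy] at e
      rw [cn, inv_eq_of_mul_eq_one_right h.tt, ← inv_mul_cancel_left h.t h.f, ← e,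
        inv_eq_of_mul_eq_one_right h.tt]
      simp only [mul_assoc, h.yy, mul_one]
    exact this ▸ mul_mem (fZ h) (yZ h)

theorem ty_ne (hy : h.y ≠ 1) : cn h.t h.y = h.t * h.f := by
  rcases h.alt with e | e | e
  exacts [absurd e.1 hy, absurd e.1 hy, e.1]

theorem f_ne : h.f ≠ 1 ∧ h.f ≠ h.z :=
  ⟨fun e => h.fL (e ▸ one_mem _), fun e => h.fL (e ▸ zL h.toHyp)⟩

variable [Finite G]

theorem bN : h.b ∈ normalizer (h.K1 : Set G) := mem_N fun k hk => by
  obtain ⟨c, hc, e⟩ := memK1 h hk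
  have e1 : cn c h.b = c := cn_comm (cZ h hc (K2U h (bK h)))
  have a1 : cn h.a h.b ∈ h.K1 := h.ab ▸ mul_mem (aK h) (ZK1 h (zZ h))
  have a2 : cn h.m h.b ∈ h.K1 := mb h ▸ mul_mem (mK h) (ZK1 h (xZ h))
  have hc := ZK1 h hc
  rcases e with rfl | rfl | rfl | rfl <;> simp only [cn_mul', e1]
  exacts [hc, mul_mem hc a1, mul_mem hc a2, mul_mem (mul_mem hc a1) a2]

theorem nN : h.n ∈ normalizer (h.K1 : Set G) := mem_N fun k hk => by
  obtain ⟨c, hc, e⟩ := memK1 h hk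
  have e1 : cn c h.n = c := cn_comm (cZ h hc (K2U h (nK h)))
  have a1 : cn h.a h.n ∈ h.K1 := h.an ▸ mul_mem (aK h) (ZK1 h (wZ h))
  have a2 : cn h.m h.n ∈ h.K1 := mn' h ▸ mul_mem (mK h) (ZK1 h h.mn)
  have hc := ZK1 h hc
  rcases e with rfl | rfl | rfl | rfl <;> simp only [cn_mul', e1]
  exacts [hc, mul_mem hc a1, mul_mem hc a2, mul_mem (mul_mem hc a1) a2]

theorem K2N : h.K2 ≤ normalizer (h.K1 : Set G) := K2_eq h ▸ sup_le (sup_le
  ((ZK1 h).trans le_normalizer) (zpowers_le_of_mem (bN h))) (zpowers_le_of_mem (nN h))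

theorem memU {u : G} (hu : u ∈ h.U) : ∃ k ∈ h.K1, ∃ l ∈ h.K2, k * l = u :=
  (mem_sup_of_le_normalizer (K2N h)).1 (U_eq' h ▸ hu)

theorem tN : h.t ∈ normalizer (h.U : Set G) := mem_N_closure (by
  have aU := K1U h (aK h)
  have bU := K2U h (bK h)
  rintro v (rfl | rfl | rfl | rfl | rfl | rfl | rfl | rfl)
  exacts [(cn_comm (tz h.toHyp).symm).symm ▸ ZUU h (zZ h), (cn_comm h.tf.symm).symm ▸ ZUU h (fZ h),
    xt h ▸ ZUU h (mul_mem (xZ h) (zZ h)), ZUU h (yt h), (cn_comm h.ta.symm).symm ▸ aU,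
    (cn_comm h.tb.symm).symm ▸ bU, mt h ▸ mul_mem aU (K1U h (mK h)),
    nt h ▸ mul_mem bU (K2U h (nK h))])

theorem T2N : h.T2 ≤ normalizer (h.U : Set G) :=
  T2_eq h ▸ sup_le le_normalizer (zpowers_le_of_mem (tN h))

theorem memT2 {v : G} (hv : v ∈ h.T2) : v ∈ h.U ∨ ∃ u ∈ h.U, v = h.t * u :=
  (mem_sup_inv (tN h) h.tt (T2_eq h ▸ hv)).imp id fun e => ⟨_, cn_mem (tN h) e, by
    rw [cn, mul_assoc, mul_inv_cancel_left, mul_assoc, h.tt, mul_one]⟩

theorem cardP : Nat.card h.P = 4 := by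
  have e : h.P = zpowers h.z ⊔ zpowers h.f := by
    simp only [Pre.P, zpowers_eq_closure, ← Subgroup.closure_union]; rfl
  have o : orderOf h.z = 2 := orderOf_eq_prime (by rw [pow_two, h.zz]) h.z1
  rw [e, card_sup_inv (centralizer_le_normalizer _ (by
    rintro _ ⟨n, rfl⟩; exact ((fz h.toHyp).symm.zpow_left n).eq)) h.ff fun k =>
      (mem_zp h.toHyp k).elim (f_ne h).1 (f_ne h).2, Nat.card_zpowers, o]

theorem cardZ : (h.y = 1 ∧ Nat.card h.ZU = 8) ∨ (h.y ≠ 1 ∧ Nat.card h.ZU = 16) := by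
  have nx : h.x ∈ normalizer (h.P : Set G) :=
    centralizer_le_normalizer _ fun _ k => cZ h (PZ h k) (ZUU h (xZ h))
  have e1 : Nat.card (h.P ⊔ zpowers h.x : Subgroup G) = 8 := by
    rw [card_sup_inv nx h.xx fun k => (nfix h (xt h)).1 (cn_comm (tP h k).symm), cardP]
  by_cases hy : h.y = 1
  · exact Or.inl ⟨hy, by rw [ZU_eq, hy, zpowers_one_eq_bot, sup_bot_eq, e1]⟩
  refine Or.inr ⟨hy, ?_⟩
  have le : h.P ⊔ zpowers h.x ≤ h.ZU := ZU_eq h ▸ le_sup_left
  suffices k : h.y ∉ h.P ⊔ zpowers h.x by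
    rw [ZU_eq, card_sup_inv (centralizer_le_normalizer _ fun _ k => cZ h (le k) (ZUU h (yZ h))) h.yy
      k, e1]
  intro k
  rcases mem_sup_inv nx h.xx k with k | k
  · exact (f_ne h).1 (by simpa [cn_comm (tP h k)] using ty_ne h hy)
  · have := cn_comm (tP h k)
    rw [h.xy.symm.eq, cn_mul, h.tx, cn_mul', ty_ne h hy, cn_comm (yz h).symm, mul_assoc,
      mul_eq_left] at this
    exact (f_ne h).2 ((eq_inv_of_mul_eq_one_left this).trans (inv_eq_of_mul_eq_one_right h.zz))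

theorem cardK1 : Nat.card h.K1 = 4 * Nat.card h.ZU := by
  have na : h.a ∈ normalizer (h.ZU : Set G) :=
    centralizer_le_normalizer _ fun _ k => cZ h k (K1U h (aK h))
  have le : h.ZU ⊔ zpowers h.a ≤ h.K1 := K1_eq h ▸ le_sup_left
  suffices k : h.m ∉ h.ZU ⊔ zpowers h.a by
    rw [K1_eq, card_sup_inv (centralizer_le_normalizer _ fun _ k => c1 h (le k) (mK h)) h.mm k,
      card_sup_inv na h.aa fun k => nab h.toHyp (cZ h k (K2U h (bK h)))]
    omega
  intro k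
  rcases mem_sup_inv na h.aa k with k | k <;> have := cn_comm (cZ h k (K2U h (bK h))).symm
  · rw [h.bm, mul_eq_left] at this
    exact (nfix h (xt h)).1 (by simp [this, cn])
  · rw [cn_mul, h.bm, cn_mul', ba h.toHyp, cn_comm h.xa, mul_assoc, mul_eq_left, ← (xz h).eq] at this
    exact (nfix h (xt h)).2 (by simp [this, cn])

theorem cardK2 : Nat.card h.K2 = 4 * Nat.card h.ZU := by
  have na : h.b ∈ normalizer (h.ZU : Set G) :=
    centralizer_le_normalizer _ fun _ k => cZ h k (K2U h (bK h))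
  have le : h.ZU ⊔ zpowers h.b ≤ h.K2 := K2_eq h ▸ le_sup_left
  suffices k : h.n ∉ h.ZU ⊔ zpowers h.b by
    rw [K2_eq, card_sup_inv (centralizer_le_normalizer _ fun _ k => c2 h (le k) (nK h)) h.nn k,
      card_sup_inv na h.bb fun k => nab h.toHyp (cZ h k (K1U h (aK h))).symm]
    omega
  intro k
  rcases mem_sup_inv na h.bb k with k | k <;> have := cn_comm (cZ h k (K1U h (aK h))).symm
  · rw [h.an, mul_eq_left] at this
    exact (nfix h (wt h)).1 (by simp [this, cn])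
  · rw [cn_mul, h.an, cn_mul', h.ab, cn_comm (cZ h (wZ h) (K2U h (bK h))), mul_assoc, mul_eq_left,
      (cZ h (zZ h) (ZUU h (wZ h))).eq] at this
    exact (nfix h (wt h)).2 (by simp [this, cn])

theorem cardU : Nat.card h.U = 4 * Nat.card h.K1 := by
  suffices k : h.n ∉ h.K1 ⊔ zpowers h.b by
    rw [U_eq, card_sup_inv (N_sup (fun v hv => mem_sup_left (cn_mem (nN h) hv))
      ((cn_comm h.nb.symm).symm ▸ mem_sup_right (mem_zpowers _))) h.nn k,
      card_sup_inv (bN h) h.bb fun k => nab h.toHyp (c1 h (aK h) k)]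
    omega
  intro k
  rcases mem_sup_inv (bN h) h.bb k with k | k <;> have := cn_comm (c1 h (aK h) k)
  · rw [h.an, mul_eq_left] at this
    exact (nfix h (wt h)).1 (by simp [this, cn])
  · rw [cn_mul, h.an, cn_mul', h.ab, cn_comm (cZ h (wZ h) (K2U h (bK h))), mul_assoc, mul_eq_left,
      (cZ h (zZ h) (ZUU h (wZ h))).eq] at this
    exact (nfix h (wt h)).2 (by simp [this, cn])

theorem cards : (h.y = 1 ∧ Nat.card h.K1 = 32 ∧ Nat.card h.U = 128) ∨
    (h.y ≠ 1 ∧ Nat.card h.K1 = 64 ∧ Nat.card h.U = 256) := by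
  have h1 := cardK1 h
  have h2 := cardU h
  exact (cardZ h).imp (fun e => ⟨e.1, by omega, by omega⟩) fun e => ⟨e.1, by omega, by omega⟩

theorem pU : IsPGroup 2 h.U := by
  rcases cards h with e | e
  exacts [IsPGroup.of_card (n := 7) e.2.2, IsPGroup.of_card (n := 8) e.2.2]

theorem pT2 : IsPGroup 2 h.T2 := T2_eq h ▸
  (pquot_zp (tN h) (k := 1) (by rw [pow_one, pow_two, h.tt]; exact one_mem _)).isPGroup (pU h)

theorem cardT2 : Nat.card h.T2 = 2 * Nat.card h.U := by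
  rw [T2_eq, card_sup_inv (tN h) h.tt (tU h)]

theorem centU : h.U ⊓ centralizer (h.U : Set G) = h.ZU := by
  refine le_antisymm (fun u hu => ?_) (le_inf (ZUU h) fun c hc u hu => (cZ h hc hu).symm)
  obtain ⟨k, hk, l, hl, rfl⟩ := memU h hu.1
  have e1 : Commute h.b (k * l) := hu.2 _ (K2U h (bK h))
  have e2 : Commute h.a (k * l) := hu.2 _ (K1U h (aK h))
  exact mul_mem (Z_of1 h hk (by simpa using e1.mul_right (c2 h (bK h) hl).inv_right))
    (Z_of2 h hl (by simpa using (c1 h (aK h) hk).inv_right.mul_right e2))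

/-- an involution of `U` lies in an elementary subgroup of the order of `K₁` -/
theorem inv_U {u : G} (hu : u ∈ h.U) (uu : u * u = 1) :
    ∃ A : Subgroup G, EA A ∧ h.ZU ≤ A ∧ A ≤ h.U ∧ u ∈ A ∧ Nat.card A = Nat.card h.K1 := by
  obtain ⟨k, hk, l, hl, rfl⟩ := memU h hu
  by_cases k1 : k ∈ h.ZU
  · exact ⟨_, eaK2 h, ZK2 h, K2U h, mul_mem (ZK2 h k1) hl, (cardK2 h).trans (cardK1 h).symm⟩
  by_cases l1 : l ∈ h.ZU
  · exact ⟨_, eaK1 h, ZK1 h, K1U h, mul_mem hk (ZK1 h l1), rfl⟩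
  have kk := eaK1 h k hk
  have ll := eaK2 h l hl
  have c : Commute k l := by
    have := eq_inv_of_mul_eq_one_left uu
    rwa [mul_inv_rev, inv_eq_of_mul_eq_one_right kk, inv_eq_of_mul_eq_one_right ll] at this
  have le : h.ZU ⊔ zpowers k ≤ h.K1 := sup_le (ZK1 h) (zpowers_le_of_mem hk)
  have cl : ∀ x ∈ h.ZU ⊔ zpowers k, Commute x l := fun x hx => mem_centralizer_singleton_iff.1
    ((sup_le (fun v hv => mem_centralizer_singleton_iff.2 (cZ h hv (K2U h hl)))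
      (zpowers_le_of_mem (mem_centralizer_singleton_iff.2 c)) : _ ≤ centralizer {l}) hx)
  refine ⟨h.ZU ⊔ zpowers k ⊔ zpowers l, ea_sup (fun x hx => eaK1 h x (le hx)) ll cl,
    le_sup_left.trans le_sup_left, sup_le (le.trans (K1U h)) (zpowers_le_of_mem (K2U h hl)),
    mul_mem (mem_sup_left (mem_sup_right (mem_zpowers _))) (mem_sup_right (mem_zpowers _)), ?_⟩
  rw [card_sup_inv (centralizer_le_normalizer _ fun x hx => cl x hx) ll fun e =>
    l1 (Z_of2 h hl (c1 h (aK h) (le e))), card_sup_inv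
    (centralizer_le_normalizer _ fun x hx => cZ h hx (K1U h hk)) kk k1, cardK1]
  omega

theorem nD (K : Kit h.toHyp) {u : G} (hu : u ∈ h.U) : ¬ IsConj h.t u := fun e => by
  have uu : u * u = 1 := by
    obtain ⟨c, rfl⟩ := isConj_iff.1 e
    rw [conj_mul, h.tt, mul_one, mul_inv_cancel]
  obtain ⟨A, h1, -, -, h2, h3⟩ := inv_U h hu uu
  refine no_ea32 K h1 ?_ (fun x hx => mem_centralizer_singleton_iff.2 (EA.comm h1 hx h2)) e
  rcases cards h with k | k <;> omega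

theorem tcos0 {c : G} (hc : c ∈ h.ZU) (e : (h.t * c) * (h.t * c) = 1) :
    ∃ v ∈ h.ZU, cn h.t v = h.t * c ∨ (h.y = 1 ∧ cn (h.t * h.f) v = h.t * c) := by
  have c0 : Commute h.t c := by
    have := eq_inv_of_mul_eq_one_left e
    rwa [mul_inv_rev, inv_eq_of_mul_eq_one_right h.tt, inv_eq_of_mul_eq_one_right (eaZ h c hc)] at this
  have txy : h.y ≠ 1 → cn h.t (h.x * h.y) = h.t * (h.z * h.f) := fun hy => by
    rw [cn_mul, h.tx, cn_mul', ty_ne h hy, cn_comm (yz h).symm, mul_assoc, (fz h.toHyp).eq]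
  have hP : c ∈ h.P := by
    obtain ⟨p, hp, k⟩ := memZ h hc
    have c1 : Commute h.t (p⁻¹ * c) := (tP h hp).inv_right.mul_right c0
    have nx : ¬ Commute h.t h.x := fun l => (nfix h (xt h)).1 (cn_comm l.symm)
    by_cases hy : h.y = 1
    · rcases k with rfl | rfl | rfl | rfl
      exacts [hp, (nx (by simpa using c1)).elim, by simpa [hy] using hp,
        (nx (by simpa [hy] using c1)).elim]
    · rcases k with rfl | rfl | rfl | rfl
      · exact hp
      · exact (nx (by simpa using c1)).elim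
      · rw [inv_mul_cancel_left] at c1
        exact ((f_ne h).1 (by simpa [cn_comm c1] using ty_ne h hy)).elim
      · rw [mul_assoc, inv_mul_cancel_left] at c1
        have := txy hy
        rw [cn_comm c1, left_eq_mul] at this
        exact ((f_ne h).2 ((eq_inv_of_mul_eq_one_right this).trans
          (inv_eq_of_mul_eq_one_right h.zz))).elim
  rcases mem_P h.toHyp hP with rfl | rfl | rfl | rfl
  · exact ⟨1, one_mem _, Or.inl (by simp)⟩
  · exact ⟨_, xZ h, Or.inl h.tx⟩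
  · by_cases hy : h.y = 1
    exacts [⟨1, one_mem _, Or.inr ⟨hy, by simp⟩⟩, ⟨_, yZ h, Or.inl (ty_ne h hy)⟩]
  · by_cases hy : h.y = 1
    exacts [⟨_, xZ h, Or.inr ⟨hy, by rw [cn_mul', h.tx, cn_comm h.xf.symm, mul_assoc]⟩⟩,
      ⟨_, mul_mem (xZ h) (yZ h), Or.inl (txy hy)⟩]

/-- the involutions of `t U` -/
theorem tcos {u : G} (hu : u ∈ h.U) (e : (h.t * u) * (h.t * u) = 1) :
    ∃ v ∈ h.U, cn h.t v = h.t * u ∨ (h.y = 1 ∧ cn (h.t * h.f) v = h.t * u) := by
  have fix : ∀ {s δ : G}, Commute h.t s → δ ∈ h.ZU → cn s u = s * δ → cn δ h.t = δ :=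
    fun {s δ} c hδ k => by
      have k1 : cn s (h.t * u) = s * δ := by rw [cn_mul, cn_comm c.symm, k]
      have k2 : cn (cn s (h.t * u)) (h.t * u) = s := by rw [← cn_mul, e]; simp
      rw [k1, cn_mul', k1, mul_assoc, mul_eq_left, cn_mul] at k2
      have k3 := (eq_inv_of_mul_eq_one_right k2).trans (inv_eq_of_mul_eq_one_right (eaZ h δ hδ))
      exact cn_inj (k3.trans (cn_comm (cZ h hδ hu)).symm)
  have key : ∀ v ∈ h.U, ∀ c ∈ h.ZU, h.t * u = cn h.t v * c →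
      ∃ v ∈ h.U, cn h.t v = h.t * u ∨ (h.y = 1 ∧ cn (h.t * h.f) v = h.t * u) := fun v hv c hc k => by
    have k1 : cn (h.t * c) v = h.t * u := by rw [cn_mul', cn_comm (cZ h hc hv), k]
    obtain ⟨v', hv', l⟩ := tcos0 h hc (cn_one (g := v) (by rw [cn_mul', k1, e]))
    exact ⟨_, mul_mem (ZUU h hv') hv, l.imp (fun l => by rw [cn_mul, l, k1])
      fun l => ⟨l.1, by rw [cn_mul, l.2, k1]⟩⟩
  obtain ⟨k, hk, l, hl, rfl⟩ := memU h hu
  obtain ⟨δ, hδ, e1, l1⟩ := act1 h hk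
  obtain ⟨ε, hε, e2, l2⟩ := act2 h hl
  obtain ⟨c, hc, m1⟩ := l1 (fix h.tb hδ (by
    rw [cn_mul, e1, cn_comm (c2 h (mul_mem (bK h) (ZK2 h hδ)) hl)]))
  obtain ⟨d, hd, m2⟩ := l2 (fix h.ta hε (by rw [cn_mul, cn_comm (c1 h (aK h) hk), e2]))
  have aU := K1U h (aK h)
  have bU := K2U h (bK h)
  rcases m1 with ⟨rfl, -⟩ | ⟨rfl, -⟩ <;> rcases m2 with ⟨rfl, -⟩ | ⟨rfl, -⟩
  · exact key 1 (one_mem _) _ (mul_mem hc hd) (by simp)
  · refine key _ (K2U h (nK h)) _ (mul_mem hc hd) ?_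
    rw [h.tn, ← mul_assoc k, (cZ h (mul_mem hc hd) bU).eq, mul_assoc h.t]
  · refine key _ (K1U h (mK h)) _ (mul_mem hc hd) ?_
    rw [h.tm, (cZ h hc aU).eq, mul_assoc h.t, mul_assoc h.a]
  · refine key _ (mul_mem (K1U h (mK h)) (K2U h (nK h))) _
      (mul_mem (inv_mem (wZ h)) (mul_mem (zZ h) (mul_mem hc hd))) ?_
    have ab : h.a * h.b = h.b * (h.a * h.z) := by rw [← h.ab]; simp [mul_assoc]
    rw [cn_mul, h.tm, cn_mul', h.tn, h.an, (cZ h hc aU).eq, mul_assoc h.a, ← mul_assoc c,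
      (cZ h (mul_mem hc hd) bU).eq, ← mul_assoc h.a, ab]
    simp only [mul_assoc, mul_inv_cancel_left]

theorem big (K : Kit h.toHyp) : h.Big h.T2 := by
  intro A h1 h2 h3 v hv
  have h4 : 32 ≤ Nat.card A := by rcases cards h with k | k <;> omega
  refine (memT2 h (h1 hv)).resolve_right ?_
  rintro ⟨u, hu, rfl⟩
  have cA : A ≤ centralizer {h.t * u} := fun x hx =>
    mem_centralizer_singleton_iff.2 (EA.comm h2 hx hv)
  obtain ⟨w, hw, e | ⟨-, e⟩⟩ := tcos h hu (h2 _ hv)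
  · exact no_ea32 K h2 h4 cA (isConj_iff.2 ⟨w⁻¹, by rw [← e, inv_inv]⟩)
  · have fT : ∀ x ∈ h.T2, Commute x h.f := fun x hx => by
      rcases memT2 h hx with k | ⟨y, k, rfl⟩
      exacts [(cZ h (fZ h) k).symm, h.tf.mul_left (cZ h (fZ h) k).symm]
    refine no_ea32 K h2 h4 (u := h.t * u * h.f) (fun x hx => mem_centralizer_singleton_iff.2
      (Commute.mul_right (EA.comm h2 hx hv) (fT x (h1 hx)))) (isConj_iff.2 ⟨w⁻¹, ?_⟩)
    rw [← e, cn_mul', cn_comm (cZ h (fZ h) hw), mul_assoc _ h.f, h.ff, mul_one, inv_inv]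

omit [Finite G] in
theorem g_act (hg : h.g ≠ 1) : cn h.a h.g = h.b ∧ cn h.b h.g = h.a ∧ cn h.f h.g = h.f * h.z ∧
    (cn h.t h.g = h.t ∨ cn h.t h.g = h.t * h.f * h.z) := by
  have he : h.g = h.e → cn h.a h.g = h.b ∧ cn h.b h.g = h.a ∧ cn h.f h.g = h.f * h.z ∧
      (cn h.t h.g = h.t ∨ cn h.t h.g = h.t * h.f * h.z) := fun e => by
    obtain ⟨a, b, c⟩ := e_of h.toHyp (e ▸ hg)
    exact e ▸ ⟨a, b, c, Or.inl (cn_comm h.te)⟩
  rcases h.alt with e | e | e
  exacts [he e.2.1, ⟨e.2.2.1, e.2.2.2.1, e.2.2.2.2.1, Or.inr e.2.2.2.2.2.1⟩, he e.2.1]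

theorem gN (K : Kit h.toHyp) : h.g ∈ normalizer (h.U : Set G) := by
  by_cases hg : h.g = 1
  · rw [hg]; exact one_mem _
  obtain ⟨e1, e2, e3, -⟩ := g_act h hg
  obtain ⟨e4, e5, -⟩ := h.sw hg
  have aU := K1U h (aK h)
  have bU := K2U h (bK h)
  refine mem_N_closure ?_
  rintro v (rfl | rfl | rfl | rfl | rfl | rfl | rfl | rfl)
  · have : cn h.z h.g = (cn h.a h.g)⁻¹ * cn (cn h.a h.g) (cn h.b h.g) := by
      rw [z_eq h.toHyp]; simp only [cn]; group
    rw [this, e1, e2]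
    exact mul_mem (inv_mem bU) (cn_mem (le_normalizer aU) bU)
  · exact e3 ▸ ZUU h (mul_mem (fZ h) (zZ h))
  · exact e4 ▸ ZUU h (wZ h)
  · refine (memT2 h (T1T2 h h.yg)).resolve_right ?_
    rintro ⟨u, hu, e⟩
    have y1 : h.y ≠ 1 := fun k => tU h (by
      rw [k] at e
      have : h.t = u⁻¹ := eq_inv_of_mul_eq_one_left (by simpa [cn] using e.symm)
      exact this ▸ inv_mem hu)
    obtain ⟨w, -, k | k⟩ := tcos h hu (by rw [← e, ← cn_mul', h.yy]; simp [cn])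
    · exact nD h K (ZUU h (yZ h)) (isConj_iff.2 ⟨h.g * w⁻¹, cn_inj (g := h.g) (by
        rw [e, ← k]; simp only [cn]; group)⟩)
    · exact y1 k.1
  · rw [e1]; exact bU
  · rw [e2]; exact aU
  · rw [e5]; exact K2U h (nK h)
  · have := cn_mem (T2N h (T1T2 h h.gg)) (K1U h (mK h))
    rwa [cn_mul, e5] at this

theorem gN2 (K : Kit h.toHyp) : h.g ∈ normalizer (h.T2 : Set G) := by
  by_cases hg : h.g = 1
  · rw [hg]; exact one_mem _
  rw [T2_eq]
  refine N_sup (fun v hv => mem_sup_left (cn_mem (gN h K) hv)) ?_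
  rcases (g_act h hg).2.2.2 with e | e <;> rw [e]
  exacts [mem_sup_right (mem_zpowers _), mul_mem (mul_mem (mem_sup_right (mem_zpowers _))
    (mem_sup_left (ZUU h (fZ h)))) (mem_sup_left (ZUU h (zZ h)))]

theorem pT3 (K : Kit h.toHyp) : IsPGroup 2 h.T3 := T3_eq h ▸
  (pquot_zp (gN2 h K) (k := 1) (by rw [pow_one, pow_two]; exact T1T2 h h.gg)).isPGroup (pT2 h)

omit [Finite G] in
theorem TT3 : h.T ≤ h.T3 := by
  rw [h.hT, closure_le]
  rintro v (rfl | rfl | rfl | rfl | rfl)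
  iterate 4 exact subset_closure (by simp)
  have gT : h.g ∈ h.T3 := subset_closure (by simp)
  rcases h.alt with e | e | e
  exacts [e.2.1 ▸ gT, e.2.1 ▸ one_mem _, e.2.1 ▸ gT]

end EE

theorem eu (hk : KitStmt.{u}) : EUStmt.{u} := fun G _ _ h =>
  have K := hk G h.toHyp
  ⟨fun _ => EE.nD h K, fun _ => EE.tcos h, EE.cards h, EE.pT3 h K,
    EE.T3_eq h ▸ sup_le (EE.T2N h) (zpowers_le_of_mem (EE.gN h K)), EE.big h K, EE.centU h,
    EE.TT3 h⟩

end Cfsg.Agent.H42.LT
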