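import Cfsg.Agent.H42.N7Defs

/-! The subgroups of `T`, the mirror symmetry and the Thompson subgroup. -/

set_option autoImplicit false

namespace Cfsg.Agent.H42.N3

open Subgroup Cfsg.Agent.H85 Cfsg.Agent.H42.N7

universe u

variable {G : Type u} [Group G]

theorem cn_comm {x g : G} (h : Commute x g) : cn x g = x := by
  rw [cn, mul_assoc, h.eq, inv_mul_cancel_left]

theorem comm_of_cn {x g : G} (h : cn x g = x) : x * g = g * x := by
  nth_rw 2 [← h]; group

theorem cn_mul (x g k : G) : cn x (g * k) = cn (cn x g) k := by simp only [cn]; group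

theorem cn_mul' (x y g : G) : cn (x * y) g = cn x g * cn y g := by simp only [cn]; group

theorem cn_mem {K : Subgroup G} {x g : G} (hg : g ∈ normalizer (K : Set G)) (hx : x ∈ K) :
    cn x g ∈ K := by simpa using (mem_normalizer_iff.1 (inv_mem hg) x).1 hx

theorem cn_mem' {K : Subgroup G} {x g : G} (hg : g ∈ normalizer (K : Set G)) (hx : cn x g ∈ K) :
    x ∈ K := by simpa [mul_assoc] using cn_mem (inv_mem hg) hx

theorem mem_N [Finite G] {K : Subgroup G} {g : G} (h : ∀ x ∈ K, cn x g ∈ K) :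
    g ∈ normalizer (K : Set G) :=
  inv_mem_iff.1 (mem_normalizer_of_cj_le fun x hx => by simpa [mul_assoc] using h _ (mem_cj.1 hx))

theorem mem_N_closure [Finite G] {s : Set G} {g : G} (h : ∀ x ∈ s, cn x g ∈ closure s) :
    g ∈ normalizer (closure s : Set G) :=
  mem_N fun _ hx => mem_cj.1 ((closure_le (cj g (closure s))).2 (fun x hx => mem_cj.2 (h x hx)) hx)

theorem EA.comm {E : Subgroup G} (h : EA E) {x y : G} (hx : x ∈ E) (hy : y ∈ E) : x * y = y * x := by
  rw [← inv_eq_of_mul_eq_one_right (h _ (mul_mem hx hy)), mul_inv_rev,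
    inv_eq_of_mul_eq_one_right (h x hx), inv_eq_of_mul_eq_one_right (h y hy)]

/-- the elements of `K` and of the coset `K a` -/
def Ka (K : Subgroup G) {a : G} (ha : ∀ x ∈ K, a * x * a ∈ K) (h2 : a * a = 1) : Subgroup G where
  carrier := {g | g ∈ K ∨ g * a ∈ K}
  one_mem' := Or.inl (one_mem _)
  mul_mem' := by
    rintro x y (hx | hx) (hy | hy)
    · exact Or.inl (mul_mem hx hy)
    · exact Or.inr (mul_assoc x y a ▸ mul_mem hx hy)
    · refine Or.inr ?_
      have e : x * y * a = x * (a * a) * y * a := by rw [h2, mul_one]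
      rw [e]; simpa only [mul_assoc] using mul_mem hx (ha y hy)
    · refine Or.inl ?_
      have e : x * y = x * (a * a) * y * (a * a) := by rw [h2, mul_one, mul_one]
      rw [e]; simpa only [mul_assoc] using mul_mem hx (ha _ hy)
  inv_mem' := by
    rintro x (hx | hx)
    · exact Or.inl (inv_mem hx)
    · refine Or.inr ?_
      have := ha _ (inv_mem hx)
      rwa [mul_inv_rev, ← mul_assoc, mul_inv_cancel, one_mul] at this

theorem cases_closure {K : Subgroup G} {a : G} (ha : a ∈ normalizer (K : Set G)) (h2 : a * a = 1)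
    {s : Set G} (hs : ∀ x ∈ s, x ∈ K ∨ x = a) {x : G} (hx : x ∈ closure s) : x ∈ K ∨ x * a ∈ K :=
  (closure_le (Ka K (fun x hx => by
    simpa only [cn, inv_eq_of_mul_eq_one_right h2] using cn_mem ha hx) h2)).2
    (fun x hx => (hs x hx).imp_right fun e => by rw [e, h2]; exact one_mem _) hx

theorem mul_mem_of_card [Finite G] {A B : Subgroup G} (h : A ≤ B)
    (hc : Nat.card B = 2 * Nat.card A) {x y : G} (hx : x ∈ B) (hy : y ∈ B) (hx' : x ∉ A)
    (hy' : y ∉ A) : x * y ∈ A := by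
  have h1 := (A.subgroupOf B).card_mul_index
  rw [Nat.card_congr (subgroupOfEquivOfLe h).toEquiv, hc, mul_comm 2] at h1
  exact (mul_mem_iff_of_index_two (H := A.subgroupOf B) (Nat.eq_of_mul_eq_mul_left Nat.card_pos h1)
    (a := ⟨x, hx⟩) (b := ⟨y, hy⟩)).2 (iff_of_false hx' hy')

variable (h : Hyp G)

theorem z_eq : h.z = h.a⁻¹ * cn h.a h.b := by rw [h.ab, inv_mul_cancel_left]

theorem z_mem {K : Subgroup G} (ha : h.a ∈ K) (hb : h.b ∈ K) : h.z ∈ K := by
  rw [z_eq]; exact mul_mem (inv_mem ha) (mul_mem (mul_mem (inv_mem hb) ha) hb)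

theorem comm_z {x : G} (ha : Commute x h.a) (hb : Commute x h.b) : Commute x h.z := by
  rw [z_eq]; exact ha.inv_right.mul_right ((hb.inv_right.mul_right ha).mul_right hb)

theorem tz : Commute h.t h.z := comm_z h h.ta h.tb
theorem fz : Commute h.f h.z := comm_z h h.fa h.fb

theorem ba : cn h.b h.a = h.b * h.z := by
  calc cn h.b h.a = h.a⁻¹ * h.b * h.a := rfl
    _ = h.b * cn h.a h.b * h.a := by rw [inv_eq_of_mul_eq_one_right h.aa]; group
    _ = h.b * h.z * (h.a * h.a) := by rw [h.ab, ← h.za.eq]; group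
    _ = _ := by rw [h.aa, mul_one]

theorem nab : h.a * h.b ≠ h.b * h.a := fun e => h.z1 (by rw [z_eq, cn_comm e, inv_mul_cancel])

theorem e_of (he : h.e ≠ 1) : cn h.a h.e = h.b ∧ cn h.b h.e = h.a ∧ cn h.f h.e = h.f * h.z :=
  let ⟨a, b, c, _⟩ := h.he.resolve_left he
  ⟨a, b, c⟩

theorem ze : cn h.z h.e = h.z := by
  by_cases he : h.e = 1
  · simp [he]
  obtain ⟨h1, h2, -⟩ := e_of h he
  calc cn h.z h.e = (cn h.a h.e)⁻¹ * cn (cn h.a h.e) (cn h.b h.e) := by
        rw [z_eq]; simp only [cn]; group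
    _ = _ := by rw [h1, h2, ba, inv_mul_cancel_left]

theorem fzz : h.f * h.z * h.z = h.f := by rw [mul_assoc, h.zz, mul_one]

theorem cl_swap {s s' : Set G} (h1 : s ⊆ closure s') (h2 : s' ⊆ closure s) :
    closure s = closure s' := le_antisymm ((closure_le _).2 h1) ((closure_le _).2 h2)

theorem cl_f {s : Set G} {x : G} (hz : h.z ∈ closure s) :
    closure (insert x (insert (h.f * h.z) s)) = closure (insert x (insert h.f s)) := by
  have m : ∀ y, closure s ≤ closure (insert x (insert y s)) := fun y =>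
    closure_mono fun _ k => Or.inr (Or.inr k)
  refine cl_swap ?_ ?_
  · rintro y (rfl | rfl | k)
    · exact subset_closure (Or.inl rfl)
    · exact mul_mem (subset_closure (Or.inr (Or.inl rfl))) (m _ hz)
    · exact m _ (subset_closure k)
  · rintro y (rfl | rfl | k)
    · exact subset_closure (Or.inl rfl)
    · exact (mul_mem_cancel_right (m (h.f * h.z) hz)).1 (subset_closure (Or.inr (Or.inl rfl)))
    · exact m _ (subset_closure k)

theorem zL : h.z ∈ h.L :=
  (h.LiT.ge (z_mem h (subset_closure (by simp)) (subset_closure (by simp)))).1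

/-- the mirror image -/
def mirror : Hyp G :=
  { h with
    f := h.f * h.z
    a := h.b
    b := h.a
    r := h.s
    s := h.r
    aa := h.bb
    bb := h.aa
    ab := ba h
    za := h.zb
    zb := h.za
    ta := h.tb
    tb := h.ta
    tf := h.tf.mul_right (tz h)
    fa := h.fb.mul_left h.zb
    fb := h.fa.mul_left h.za
    ff' := Or.inl (by rw [mul_assoc, ← mul_assoc h.z, ← (fz h).eq, fzz, h.ff])
    he' := h.he.imp_right fun k => ⟨k.2.1, k.1, Or.inl (by rw [cn_mul', k.2.2.1, ze]), k.2.2.2⟩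
    hT := by
      rw [h.hT, cl_f h (z_mem h (subset_closure (by simp)) (subset_closure (by simp))),
        Set.insert_comm h.a]
    LiT := by rw [h.LiT, Set.pair_comm]
    fL := fun k => h.fL ((mul_mem_cancel_right (zL h)).1 k)
    tfL := fun k => h.tfL ((mul_mem_cancel_right (zL h)).1 (mul_assoc _ _ h.z ▸ k))
    rt := h.st
    rf := h.sf
    zr := h.zs
    ar := h.bs
    ro := h.so
    st := h.rt
    sf := by rw [fzz]; exact h.rf
    zs := h.zr
    bs := h.ar
    so := h.ro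
    ff := by rw [mul_assoc, ← mul_assoc h.z, ← (fz h).eq, fzz, h.ff]
    he := h.he.imp_right fun k => ⟨k.2.1, k.1, by rw [cn_mul', k.2.2.1, ze], k.2.2.2⟩ }

theorem m_T0 : (mirror h).T0 = h.T0 := by
  change closure {h.t, h.f * h.z, h.b, h.a} = closure {h.t, h.f, h.a, h.b}
  rw [cl_f h (z_mem h (subset_closure (by simp)) (subset_closure (by simp))), Set.pair_comm]

theorem m_E (x : G) : closure {h.t, h.z, h.f * h.z, x} = closure {h.t, h.z, h.f, x} := by
  rw [Set.insert_comm h.z, Set.insert_comm h.z, cl_f h (subset_closure (by simp))]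

theorem m_E1 : (mirror h).E1 = h.E2 := m_E h _
theorem m_E2 : (mirror h).E2 = h.E1 := m_E h _

theorem m_Z : (mirror h).Z = h.Z := by
  change closure {h.t, h.z, h.f * h.z} = closure {h.t, h.z, h.f}
  rw [Set.pair_comm h.z, Set.pair_comm h.z, cl_f h (subset_closure (by simp))]

theorem m_D0 : (mirror h).D0 = h.D0 := congrArg Subgroup.closure (Set.pair_comm _ _)

theorem m_N0 {n : G} : (mirror h).N0 n ↔ h.N0 n := by
  rw [Pre.N0, m_E1, m_E2, and_comm]; rfl

variable {h}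

theorem kitA_mirror (k : KitA h) : KitA (mirror h) :=
  { k with
    aX := ⟨k.aX.2.1, k.aX.1, k.aX.2.2⟩
    cT0 := m_T0 h ▸ k.cT0
    cT := m_T0 h ▸ k.cT
    cE := by rw [m_E1, m_E2]; exact ⟨k.cE.2.1, k.cE.1, k.cE.2.2.2, k.cE.2.2.1⟩
    pi := m_D0 h ▸ k.pi
    big := m_Z h ▸ k.big
    j16 := fun E h1 h2 h3 => by rw [m_E1, m_E2]; exact (k.j16 E h1 h2 h3).symm }

variable (h)

theorem tZ : h.t ∈ h.Z := subset_closure (by simp)
theorem zZ : h.z ∈ h.Z := subset_closure (by simp)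
theorem fZ : h.f ∈ h.Z := subset_closure (by simp)
theorem aE : h.a ∈ h.E1 := subset_closure (by simp)
theorem bE : h.b ∈ h.E2 := subset_closure (by simp)
theorem aT0 : h.a ∈ h.T0 := subset_closure (by simp)
theorem bT0 : h.b ∈ h.T0 := subset_closure (by simp)
theorem Z_E1 : h.Z ≤ h.E1 := closure_mono (by intro x; simp; tauto)
theorem Z_E2 : h.Z ≤ h.E2 := closure_mono (by intro x; simp; tauto)

theorem E1_T0 : h.E1 ≤ h.T0 := (closure_le _).2 (by
  rintro x (rfl | rfl | rfl | rfl)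
  exacts [subset_closure (by simp), z_mem h (aT0 h) (bT0 h), subset_closure (by simp), aT0 h])

theorem E2_T0 : h.E2 ≤ h.T0 := m_E1 h ▸ m_T0 h ▸ E1_T0 (mirror h)

theorem T0_T : h.T0 ≤ h.T := h.hT ▸ closure_mono (by intro x; simp; tauto)

theorem eT : h.e ∈ h.T := h.hT ▸ subset_closure (by simp)

theorem T0_eq : h.T0 = h.E1 ⊔ h.E2 := le_antisymm ((closure_le _).2 (by
  rintro x (rfl | rfl | rfl | rfl)
  exacts [mem_sup_left (Z_E1 h (tZ h)), mem_sup_left (Z_E1 h (fZ h)), mem_sup_left (aE h),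
    mem_sup_right (bE h)])) (sup_le (E1_T0 h) (E2_T0 h))

theorem cent_T0 {x : G} (h1 : Commute h.t x) (h2 : Commute h.f x) (h3 : Commute h.a x)
    (h4 : Commute h.b x) : x ∈ centralizer (h.T0 : Set G) := by
  rw [Pre.T0, centralizer_closure]
  rintro y (rfl | rfl | rfl | rfl)
  exacts [h1, h2, h3, h4]

theorem cent_E1 {x : G} (h1 : Commute h.t x) (h2 : Commute h.z x) (h3 : Commute h.f x)
    (h4 : Commute h.a x) : x ∈ centralizer (h.E1 : Set G) := by
  rw [Pre.E1, centralizer_closure]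
  rintro y (rfl | rfl | rfl | rfl)
  exacts [h1, h2, h3, h4]

theorem Z_cent : h.Z ≤ centralizer (h.T0 : Set G) := (closure_le _).2 (by
  rintro x (rfl | rfl | rfl)
  exacts [cent_T0 h (Commute.refl _) h.tf.symm h.ta.symm h.tb.symm,
    cent_T0 h (tz h) (fz h) h.za.symm h.zb.symm,
    cent_T0 h h.tf (Commute.refl _) h.fa.symm h.fb.symm])

theorem mem_E1 {x : G} (hx : x ∈ h.E1) : x ∈ h.Z ∨ x * h.a ∈ h.Z :=
  cases_closure (centralizer_le_normalizer _ fun y hy => (Z_cent h hy _ (aT0 h)).symm) h.aa (by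
    rintro x (rfl | rfl | rfl | rfl)
    exacts [Or.inl (tZ h), Or.inl (zZ h), Or.inl (fZ h), Or.inr rfl]) hx

theorem N_E1 [Finite G] {g : G} (h1 : Commute h.t g) (h2 : Commute h.f g) (h3 : cn h.z g ∈ h.E1)
    (h4 : cn h.a g ∈ h.E1) : g ∈ normalizer (h.E1 : Set G) := mem_N_closure (by
  rintro x (rfl | rfl | rfl | rfl)
  exacts [(cn_comm h1).symm ▸ Z_E1 h (tZ h), h3, (cn_comm h2).symm ▸ Z_E1 h (fZ h), h4])

theorem b_N [Finite G] : h.b ∈ normalizer (h.E1 : Set G) :=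
  N_E1 h h.tb h.fb ((cn_comm h.zb).symm ▸ Z_E1 h (zZ h)) (h.ab ▸ mul_mem (aE h) (Z_E1 h (zZ h)))

theorem r_N [Finite G] : h.r ∈ normalizer (h.E1 : Set G) :=
  N_E1 h h.rt.symm h.rf.symm (h.zr ▸ aE h) (h.ar ▸ mul_mem (aE h) (Z_E1 h (zZ h)))

theorem mem_T0 [Finite G] {x : G} (hx : x ∈ h.T0) : x ∈ h.E1 ∨ x * h.b ∈ h.E1 :=
  cases_closure (b_N h) h.bb (by
    rintro x (rfl | rfl | rfl | rfl)
    exacts [Or.inl (Z_E1 h (tZ h)), Or.inl (Z_E1 h (fZ h)), Or.inl (aE h), Or.inr rfl]) hx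

theorem T0_N [Finite G] : h.T0 ≤ normalizer (h.E1 : Set G) := fun _ hx =>
  (mem_T0 h hx).elim (le_normalizer ·) fun k => (mul_mem_cancel_right (b_N h)).1 (le_normalizer k)

theorem mem_zp {x : G} (hx : x ∈ zpowers h.z) : x = 1 ∨ x = h.z := by
  have := cases_closure (K := ⊥) (a := h.z) (le_normalizer_of_normal (mem_top _)) h.zz (s := {h.z}) (fun x hx => Or.inr hx)
    (zpowers_eq_closure h.z ▸ hx)
  exact this.imp mem_bot.1 fun k =>
    (eq_inv_of_mul_eq_one_left (mem_bot.1 k)).trans (inv_eq_of_mul_eq_one_right h.zz)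

theorem mem_V1 {x : G} (hx : x ∈ h.V1) : x = 1 ∨ x = h.z ∨ x = h.a ∨ x = h.a * h.z := by
  have := cases_closure (K := zpowers h.z) (a := h.a) (centralizer_le_normalizer _ (by
    rintro _ ⟨n, rfl⟩; exact (h.za.zpow_left n).eq)) h.aa (s := {h.z, h.a}) (by
      rintro x (rfl | rfl); exacts [Or.inl (mem_zpowers _), Or.inr rfl]) hx
  have ai := inv_eq_of_mul_eq_one_right h.aa
  rcases this with k | k <;> rcases mem_zp h k with k | k
  · exact Or.inl k
  · exact Or.inr (Or.inl k)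
  · exact Or.inr (Or.inr (Or.inl ((eq_inv_of_mul_eq_one_left k).trans ai)))
  · exact Or.inr (Or.inr (Or.inr (by rw [eq_mul_inv_of_mul_eq k, ai, h.za.eq])))

theorem zV : h.z ∈ h.V1 := subset_closure (by simp)
theorem aV : h.a ∈ h.V1 := subset_closure (by simp)

theorem V1_E1 : h.V1 ≤ h.E1 := closure_mono (by intro x; simp; tauto)

theorem mem_D0 [Finite G] {x : G} (hx : x ∈ h.D0) : x ∈ h.V1 ∨ x * h.b ∈ h.V1 :=
  cases_closure (mem_N_closure (by
    rintro x (rfl | rfl)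
    exacts [(cn_comm h.zb).symm ▸ zV h, h.ab ▸ mul_mem (aV h) (zV h)])) h.bb (by
    rintro x (rfl | rfl); exacts [Or.inl (aV h), Or.inr rfl]) hx

variable {h}

theorem b_E1 (k : KitA h) : h.b ∉ h.E1 := fun e => nab h (EA.comm k.cE.2.2.1 (aE h) e)
theorem a_E2 (k : KitA h) : h.a ∉ h.E2 := fun e => nab h (EA.comm k.cE.2.2.2 e (bE h))

theorem inf_E (k : KitA h) {x : G} (h1 : x ∈ h.E1) (h2 : x ∈ h.E2) : x ∈ h.Z :=
  (mem_E1 h h1).resolve_right fun e => a_E2 k ((mul_mem_cancel_left h2).1 (Z_E2 h e))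

variable [Finite G]

theorem D0_E1 (k : KitA h) {x : G} (h1 : x ∈ h.D0) (h2 : x ∈ h.E1) : x ∈ h.V1 :=
  (mem_D0 h h1).resolve_right fun e => b_E1 k ((mul_mem_cancel_left h2).1 (V1_E1 h e))

theorem mem_T (k : KitA h) {x : G} (hx : x ∈ h.T) : x ∈ h.T0 ∨ h.e ≠ 1 ∧ x * h.e⁻¹ ∈ h.T0 := by
  rcases k.cT with e | ⟨e1, e2, e3⟩
  · exact Or.inl (e.2 ▸ hx)
  · exact or_iff_not_imp_left.2 fun c => ⟨e1, mul_mem_of_card (T0_T h) (by rw [e3, k.cT0]) hx
      (inv_mem (eT h)) c (mt inv_mem_iff.1 e2)⟩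

theorem NT_E1 (k : KitA h) {x : G} (hx : x ∈ h.T) (hn : x ∈ normalizer (h.E1 : Set G)) :
    x ∈ h.T0 := (mem_T k hx).resolve_right fun e => b_E1 k ((e_of h e.1).1 ▸ cn_mem
      (inv_mem_iff.1 ((mul_mem_cancel_left hn).1 (T0_N h e.2))) (aE h))

theorem CT_E1 (k : KitA h) {x : G} (hx : x ∈ h.T) (hn : x ∈ centralizer (h.E1 : Set G)) :
    x ∈ h.E1 := (mem_T0 h (NT_E1 k hx (centralizer_le_normalizer _ hn))).resolve_right fun e =>
  nab h (((mul_mem_cancel_left hn).1 (show x * h.b ∈ centralizer (h.E1 : Set G) from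
    fun _ hy => EA.comm k.cE.2.2.1 hy e)) _ (aE h))

omit [Finite G] in
theorem jay (k : KitA h) {d : G} (hd : cj d h.T0 ≤ h.T) : d ∈ normalizer (h.T0 : Set G) ∧
    (cj d h.E1 = h.E1 ∧ cj d h.E2 = h.E2 ∨ cj d h.E1 = h.E2 ∧ cj d h.E2 = h.E1) := by
  have key : ∀ E : Subgroup G, E ≤ h.T0 → EA E → Nat.card E = 16 → cj d E = h.E1 ∨ cj d E = h.E2 :=
    fun E h1 h2 h3 => k.j16 _ ((cj_mono d h1).trans hd) (by
      rintro _ ⟨x, hx, rfl⟩; rw [← map_mul, h2 x hx, map_one]) (by rw [card_cj, h3])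
  have ne : cj d h.E1 ≠ cj d h.E2 := fun e => b_E1 k (cj_inj d e ▸ bE h)
  have h3 : cj d h.E1 = h.E1 ∧ cj d h.E2 = h.E2 ∨ cj d h.E1 = h.E2 ∧ cj d h.E2 = h.E1 := by
    rcases key _ (E1_T0 h) k.cE.2.2.1 k.cE.1 with e1 | e1 <;>
      rcases key _ (E2_T0 h) k.cE.2.2.2 k.cE.2.1 with e2 | e2
    exacts [(ne (e1.trans e2.symm)).elim, Or.inl ⟨e1, e2⟩, Or.inr ⟨e1, e2⟩,
      (ne (e1.trans e2.symm)).elim]
  refine ⟨cj_eq_iff_mem_normalizer.1 ?_, h3⟩
  rw [T0_eq, cj_sup]
  rcases h3 with ⟨e1, e2⟩ | ⟨e1, e2⟩ <;> rw [e1, e2]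
  exact sup_comm _ _

omit [Finite G] in
theorem N0_of (k : KitA h) {d : G} (h1 : d ∈ normalizer (h.T0 : Set G))
    (h2 : d ∈ normalizer (h.E1 : Set G)) : h.N0 d := by
  rcases (jay k ((cj_eq_of_mem_normalizer h1).le.trans (T0_T h))).2 with e | e
  · exact ⟨h2, cj_eq_iff_mem_normalizer.1 e.2⟩
  · exact (b_E1 k (((cj_eq_of_mem_normalizer h2).symm.trans e.1) ▸ bE h)).elim

omit [Finite G] in
theorem T_N (k : KitA h) : h.T ≤ normalizer (h.T0 : Set G) := fun _ hx =>
  (jay k (cj_le_of_mem (T0_T h) hx)).1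

end Cfsg.Agent.H42.N3
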