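import Cfsg.Agent.H36.LTS2
import Cfsg.Agent.H42.N7KMir

/-! The side analysis in the cases (a) and (c''). -/

set_option autoImplicit false

namespace Cfsg.Agent.H42.N36

open Subgroup Cfsg.Agent.H36.LTS Cfsg.Agent.H85 Cfsg.Agent.H42.N7 Cfsg.Agent.H42.N81

universe u

variable {G : Type u} [Group G]

theorem b1 (h : Hyp G) : B1 h.t h.z h.f h.a h.b :=
  ⟨h.tt, h.zz, h.ff, h.aa, h.bb, (tz h).symm, h.tf.symm, h.ta.symm, h.tb, fz h, h.za.symm, h.zb,
    h.fa.symm, h.fb, h.ab.trans h.za.eq.symm⟩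

theorem b0 {h : Hyp G} (k : Kit h) : B0 h.t h.z h.f h.a h.b := (b1 h).b0 k.cE.1

theorem rr (h : Hyp G) : Rr h.t h.z h.f h.a h.r :=
  ⟨cv_of' h.rt, cv_of' h.rf, h.zr, h.ar.trans h.za.eq.symm, h.ro⟩

/-- New elements of odd order. -/
def setR (h : Hyp G) {ρ σ : G} (h1 : Rr h.t h.z h.f h.a ρ) (h2 : Rr h.t h.z (h.f * h.z) h.b σ) :
    Hyp G :=
  { h with
    r := ρ, s := σ, rt := (cm_of h1.tr).symm, rf := (cm_of h1.fr).symm, zr := h1.zr
    ar := h1.ar.trans h.za.eq, ro := h1.od, st := (cm_of h2.tr).symm, sf := (cm_of h2.fr).symm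
    zs := h2.zr, bs := h2.ar.trans h.zb.eq, so := h2.od }

theorem pg_ins {S : Set G} {c : G} (p : IsPGroup 2 (closure S)) (cc : c * c ∈ closure S)
    (hn : ∀ s ∈ S, cv s c ∈ closure S) : IsPGroup 2 (closure (insert c S)) := fun ⟨u, hu⟩ => by
  have : u * u ∈ closure S := by
    rcases mem_ins cc hn hu with h | ⟨w, h, rfl⟩
    · exact mul_mem h h
    · convert mul_mem (mul_mem cc (cv_closure hn h)) h using 1
      simp [cv, mul_assoc]
  obtain ⟨k, e⟩ := p ⟨_, this⟩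
  exact ⟨k + 1, by rw [pow_succ', pow_mul, pow_two]; exact Subtype.ext (congrArg (·.1) e :)⟩

theorem zT (h : Hyp G) {S : Set G} (ha : h.a ∈ closure S) (hb : h.b ∈ closure S) :
    h.z ∈ closure S := by
  rw [(b1 h).z_eq]; memc

variable [Finite G]

theorem nE {t z f a x t' z' a' : G} (A : Ac t z f a x t' z' a')
    (h1 : t' ∈ closure ({t, z, f, a} : Set G)) (h2 : z' ∈ closure ({t, z, f, a} : Set G))
    (h3 : a' ∈ closure ({t, z, f, a} : Set G)) :
    x ∈ normalizer ((closure ({t, z, f, a} : Set G) : Subgroup G) : Set G) :=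
  nrm_of fun _ => cv_closure (by
    rintro _ (rfl | rfl | rfl | rfl)
    exacts [A.ht.symm ▸ h1, A.hz.symm ▸ h2, A.hf.symm ▸ m3, A.ha.symm ▸ h3])

theorem T0N (h : Hyp G) : ∀ s ∈ ({h.t, h.f, h.a, h.b} : Set G),
    s ∈ normalizer ((closure ({h.t, h.z, h.f, h.a} : Set G) : Subgroup G) : Set G) := by
  have B := b1 h
  rintro _ (rfl | rfl | rfl | rfl)
  · exact le_normalizer m1
  · exact le_normalizer m3
  · exact le_normalizer (by memc)
  · exact nE (t' := h.t) (z' := h.z) (a' := h.z * h.a) (by constructor <;> en B []) m1 m2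
      (by memc)

theorem sideA {h : Hyp G} (k : Kit h) {x : G} (A : Ac h.t h.z h.f h.a x (h.t * h.z) h.z h.a)
    (bx : cv h.b x = h.b) (xP : x * x ∈ h.P)
    (orb : ∀ n, h.N0 n → cn h.t n = h.t ∨ cn h.t n = h.t * h.z) :
    ∃ ρ R, Sd h.t h.z h.f h.a h.b ρ R ∧ x ∈ R := by
  have B := b1 h
  have z0 : h.z ∈ closure ({h.t, h.f, h.a, h.b} : Set G) := zT h (by memc) (by memc)
  obtain ⟨ρ, R, S, e⟩ := side (b0 k) (rr h) k.sylE1 k.aut1 (hA_of B (rr h) fun n hn e => by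
      obtain ⟨m, hm, e⟩ := k.tr1 n hn e
      rcases orb m hm with e1 | e1
      · exact ⟨1, by unfold Gd; en B [true_and]; refine ⟨?_, ?_, ?_⟩ <;> memc,
          (cv_one' _).trans (e1.symm.trans e)⟩
      · exact ⟨x, by unfold Gd; en B [true_and, A.rw]; refine ⟨?_, ?_, ?_⟩ <;> memc,
          A.ht.trans (e1.symm.trans e)⟩)
    (T := closure (insert x {h.t, h.f, h.a, h.b}))
    (pg_ins (IsPGroup.of_card (n := 5) k.cT0)
      ((closure_le _).2 (by rintro _ (rfl | rfl) <;> memc) xP)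
      (by rintro _ (rfl | rfl | rfl | rfl) <;> en B [A.rw, bx] <;> memc))
    ((closure_le _).2 (Set.insert_subset (nE A (by memc) m2 (by memc)) (T0N h))) (by memc)
  exact ⟨ρ, R, S, e x m1 (.inl A.hz) (.inl A.ha)⟩

omit [Finite G] in
theorem finE (h : Hyp G) {x y g w ρ σ m l n k : G} (N : SN h.t h.z h.f h.a h.b ρ x m l)
    (E : m * l = x) (N' : SN h.t h.z (h.f * h.z) h.b h.a σ w n k) (E' : n * k = w)
    (yy : y * y = 1) (yf : Commute y h.f) (ya : Commute y h.a) (yb : Commute y h.b)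
    (wx : x⁻¹ * w ∈ h.P)
    (alt : (y = 1 ∧ g = h.e ∧ ∀ u ∈ h.Z, IsConj h.t u → u = h.t ∨ u = h.t * h.z) ∨
      (y = 1 ∧ h.e = 1 ∧ cn h.a g = h.b ∧ cn h.b g = h.a ∧ cn h.f g = h.f * h.z ∧
        cn h.t g = h.t * h.f * h.z ∧ (∀ u ∈ h.P, ¬ IsConj h.t u) ∧
        ∀ c, h.N0 c → cn h.t c = h.t ∨ cn h.t c = h.t * h.z) ∨
      (cn h.t y = h.t * h.f ∧ g = h.e ∧ ∀ u ∈ h.P, ¬ IsConj h.t u))
    (xg : cn x g ∈ closure {h.t, h.f, h.a, h.b, x, y})
    (yg : cn y g ∈ closure {h.t, h.f, h.a, h.b, x, y})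
    (gg : g * g ∈ closure {h.t, h.f, h.a, h.b, x, y}) (fX : True) (xy : Commute x y)
    (yr : Commute ρ y) (ny : Commute n y) (ys : y⁻¹ * cn y σ ∈ closure {h.z, h.b, w, n})
    (sw : g ≠ 1 → cv x g = w ∧ cv ρ g = σ) : ∃ k : EE0 G, Same h k.toHyp ∧ k.y = y := by
  have B := b1 h
  obtain ⟨e1, e2, e3⟩ := N.cE B E
  obtain ⟨d1, d2, d3⟩ := N'.cE B.mir E'
  have Am := N.Am B
  have An := N'.Am B.mir
  have nf : cv h.f n = h.f := by simpa only [cv_mul, An.hz, mul_left_inj] using An.hf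
  have nx : Commute n x := by
    obtain ⟨p, hp, rfl⟩ : ∃ p ∈ closure ({h.z, h.f} : Set G), x = w * p :=
      ⟨_, inv_mem wx, by simp⟩
    refine (cm_of ?_).symm
    rcases B.memP hp with rfl | rfl | rfl | rfl <;> en B [d2, nf, An.hz]
  exact ⟨
    { setR h N.toRr N'.toRr with
      x := x, y := y, g := g, m := m, w := w, n := n, tx := N.A.ht, xx := N.xx
      xf := (cm_of N.A.hf).symm, xa := (cm_of N.A.ha).symm, xb := (cm_of N.bx).symm
      yy := yy, yf := yf, ya := ya, yb := yb, wx := wx, alt := alt, xg := xg, yg := yg, gg := gg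
      fX := fX, tm := Am.ht, mf := (cm_of Am.hf).symm, mz := (cm_of Am.hz).symm
      ma := (cm_of Am.ha).symm, tn := An.ht, nf := (cm_of nf).symm, nz := (cm_of An.hz).symm
      nb := (cm_of An.ha).symm, xy := xy, mm := N.mm, mx := (cm_of e2).symm
      my := by have := cm_cv xy ρ; rwa [N.xr, cv_of' yr] at this
      bm := e3, xr := N.xr, mr := N.mr.trans (e1.trans (cm_of e2).eq.symm), yr := yr
      nn := N'.mm, nx := nx, ny := ny, an := d3, ws := N'.xr
      ns := N'.mr.trans (d1.trans (cm_of d2).eq.symm), ys := ys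
      sw := fun e => ⟨(sw e).1, by
        have := cv_tr N.xr g
        rwa [(sw e).1, (sw e).2, N'.xr, eq_comm] at this, (sw e).2⟩ }, ⟨rfl, rfl, rfl⟩, rfl⟩

omit [Finite G] in
theorem SN_hh {t z f a b r x m l : G} (N : SN t z f a b r x m l) (B : B1 t z f a b)
    (H : m * l = x * (t * a)) : Ac t z f a (m * t) (t * a) z a ∧ m * t * (m * t) = a ∧
      cv x (m * t) = x * a ∧ cv (m * t) b = (x * t * (m * t))⁻¹ ∧ cv (x * t) r = m * t ∧
      cv (m * t) r = (x * t * (m * t))⁻¹ := by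
  obtain ⟨e1, e2, -⟩ := N.cH B H
  have Am := N.Am B
  have xt : cv x t = x * z := by rw [cvd]; en B [N.A.rw]
  refine ⟨by constructor <;> en B [Am.rw], by en B [Am.rw, ri N.mm], by en B [e2, xt], ?_,
    by en B [N.xr, N.tr], ?_⟩
  · rw [cv_mul, N.mb, e1]; en B [Am.rw, N.A.rw, ri N.mm, ri N.xx, rk e2]
  · rw [cv_mul, N.mr, e1]; en B [Am.rw, N.A.rw, ri N.mm, ri N.xx, rk e2, N.tr]

omit [Finite G] in
theorem finH (h : Hyp G) {x y g w ρ σ m l n k : G} (N : SN h.t h.z h.f h.a h.b ρ x m l)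
    (E : m * l = x * (h.t * h.a)) (N' : SN h.t h.z (h.f * h.z) h.b h.a σ w n k)
    (E' : n * k = w * (h.t * h.b))
    (yy : y * y = 1) (yf : Commute y h.f) (ya : Commute y h.a) (yb : Commute y h.b)
    (wx : x⁻¹ * w ∈ h.P)
    (alt : (y = 1 ∧ g = h.e ∧ ∀ u ∈ h.Z, IsConj h.t u → u = h.t ∨ u = h.t * h.z) ∨
      (y = 1 ∧ h.e = 1 ∧ cn h.a g = h.b ∧ cn h.b g = h.a ∧ cn h.f g = h.f * h.z ∧
        cn h.t g = h.t * h.f * h.z ∧ (∀ u ∈ h.P, ¬ IsConj h.t u) ∧
        ∀ c, h.N0 c → cn h.t c = h.t ∨ cn h.t c = h.t * h.z) ∨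
      (cn h.t y = h.t * h.f ∧ g = h.e ∧ ∀ u ∈ h.P, ¬ IsConj h.t u))
    (xg : cn x g ∈ closure {h.t, h.f, h.a, h.b, x, y})
    (yg : cn y g ∈ closure {h.t, h.f, h.a, h.b, x, y})
    (gg : g * g ∈ closure {h.t, h.f, h.a, h.b, x, y}) (fX : True)
    (xy : y ≠ 1 → cn x y = x * h.f * h.z) (ym : y ≠ 1 → cn y (m * h.t) = y * h.a)
    (yr : Commute ρ y) (yn : y ≠ 1 → cn y (n * h.t) = y * h.b)
    (ys : y ≠ 1 → ∃ p ∈ h.P, Commute σ (y * x * h.t * p)) :
    ∃ k : HH G, Same h k.toHyp ∧ k.y = y := by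
  have B := b1 h
  obtain ⟨Am, e1, e2, e3, e4, e5⟩ := SN_hh N B E
  obtain ⟨An, d1, d2, d3, d4, d5⟩ := SN_hh N' B.mir E'
  have nf : cv h.f (n * h.t) = h.f := by simpa only [cv_mul, An.hz, mul_left_inj] using An.hf
  have xn : cv x (n * h.t) = x * h.b := by
    obtain ⟨p, hp, rfl⟩ : ∃ p ∈ closure ({h.z, h.f} : Set G), x = w * p :=
      ⟨_, inv_mem wx, by simp⟩
    generalize n * h.t = n at d2 nf An
    rcases B.memP hp with rfl | rfl | rfl | rfl <;> en B [d2, nf, An.hz]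
  exact ⟨
    { setR h N.toRr N'.toRr with
      x := x, y := y, g := g, m := m * h.t, w := w, n := n * h.t, tx := N.A.ht, xx := N.xx
      xf := (cm_of N.A.hf).symm, xa := (cm_of N.A.ha).symm, xb := (cm_of N.bx).symm
      yy := yy, yf := yf, ya := ya, yb := yb, wx := wx, alt := alt, xg := xg, yg := yg, gg := gg
      fX := fX, tm := Am.ht, mf := (cm_of Am.hf).symm, mz := (cm_of Am.hz).symm
      ma := (cm_of Am.ha).symm, tn := An.ht, nf := (cm_of nf).symm, nz := (cm_of An.hz).symm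
      nb := (cm_of An.ha).symm, xy := xy, mm := e1, xm := e2, ym := ym, mb := e3, xr := e4
      mr := e5, yr := yr, nn := d1, xn := xn, yn := yn, na := d3, ws := d4, ns := d5
      ys := ys }, ⟨rfl, rfl, rfl⟩, rfl⟩

omit [Finite G] in
theorem gact (h : RA G) : h.g = 1 ∨ (cv h.a h.g = h.b ∧ cv h.b h.g = h.a ∧
    cv h.f h.g = h.f * h.z ∧ cv h.z h.g = h.z ∧
    (cv h.t h.g = h.t ∨ cv h.t h.g = h.t * (h.f * h.z))) := by
  rcases h.alt with ⟨e, -⟩ | ⟨-, e1, e2, e3, e4, -⟩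
  · rw [e]
    exact h.he.imp_right fun ⟨e1, e2, e3, _⟩ => ⟨e1, e2, e3, ze _, .inl (cv_of h.te)⟩
  · refine .inr ⟨e1, e2, e3, ?_, .inr (mul_assoc h.t _ _ ▸ e4)⟩
    have B := b1 h.toHyp
    replace e1 : cv h.a h.g = h.b := e1
    replace e2 : cv h.b h.g = h.a := e2
    refine (congrArg (cv · h.g) B.z_eq).trans ?_
    simp only [cv_mul, e1, e2]
    en B []

omit [Finite G] in
theorem dpA {h : RA G} (k : Kit h.toHyp) : ∀ v ∈ h.P, ¬ IsConj h.t v := fun v hv c => by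
  rcases h.alt with ⟨-, e⟩ | ⟨-, -, -, -, -, e⟩
  · have B := b0 k
    rcases e v (closure_mono (Set.subset_insert _ _) hv) c with e | e <;>
      rcases B.toB1.memP hv with rfl | e' | e' | e' <;> (try rw [e'] at e) <;> eno B [] e
  · exact e v hv c

omit [Finite G] in
theorem acx (h : RA G) : Ac h.t h.z h.f h.a h.x (h.t * h.z) h.z h.a :=
  ⟨h.tx, cv_of' (comm_z _ h.xa h.xb), cv_of' h.xf, cv_of' h.xa⟩

omit [Finite G] in
theorem ren_le (h : Hyp G) {x c : G} (hc : c ∈ h.Z) :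
    h.Z ≤ closure {h.t, h.f, h.a, h.b, x * c} ∧
      closure {h.t, h.f, h.a, h.b, x} ≤ closure {h.t, h.f, h.a, h.b, x * c} := by
  have z0 : h.z ∈ closure ({h.t, h.f, h.a, h.b, x * c} : Set G) := zT h (by memc) (by memc)
  have : h.Z ≤ closure {h.t, h.f, h.a, h.b, x * c} :=
    (closure_le _).2 (by rintro _ (rfl | rfl | rfl) <;> memc)
  refine ⟨this, (closure_le _).2 ?_⟩
  rintro _ (rfl | rfl | rfl | rfl | rfl)
  iterate 4 exact subset_closure (by simp)
  exact (mul_mem_cancel_right (this hc)).1 (subset_closure (by simp))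

/-- Renaming `x`. -/
def renA (h : RA G) {c : G} (hc : c = h.t ∨ c = h.f) : RA G :=
  have B := b1 h.toHyp
  have A := acx h
  have hZ : c ∈ h.Z := by rcases hc with rfl | rfl <;> exact subset_closure (by simp)
  { h with
    x := h.x * c
    tx := show cv _ _ = _ by rcases hc with rfl | rfl <;> en B [A.rw]
    xf := (cm_of (by rcases hc with rfl | rfl <;> en B [A.rw])).symm
    xa := (cm_of (by rcases hc with rfl | rfl <;> en B [A.rw])).symm
    xb := (cm_of (by rcases hc with rfl | rfl <;> en B [cv_of' h.xb])).symm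
    xP := by
      have := h.xP
      unfold H42.N7.Pre.P at this ⊢
      rcases hc with rfl | rfl <;> en B [A.rw] <;> (try rw [← mul_assoc]) <;> memc
    xg := by
      rw [cn_mul]
      refine mul_mem ((ren_le h.toHyp hZ).2 h.xg) ((ren_le h.toHyp hZ).1 ?_)
      change cv _ _ ∈ Subgroup.closure _
      rcases gact h with e | ⟨-, -, e1, -, e | e⟩ <;> rcases hc with rfl | rfl <;>
        simp only [*, cv_one'] <;> memc
    gg := (ren_le h.toHyp hZ).2 h.gg }

theorem na1 (hk : KitStmt.{u}) (h : RA G) {ρ m l : G}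
    (N : SN h.t h.z h.f h.a h.b ρ h.x m l) (ty : m * l = h.x ∨ m * l = h.x * (h.t * h.a)) :
    (∃ k : EE0 G, k.y = 1) ∨ ∃ k : HH G, k.y = 1 := by
  have k := hk G h.toHyp
  have B := b0 k
  have B' := B.toB1
  have fX := trivial
  have alt := h.alt.imp (fun e => And.intro (rfl : (1 : G) = 1) e)
    fun ⟨e1, e2, e3, e4, e5, e6⟩ => Or.inl (b := cn h.t 1 = h.t * h.f ∧ h.g = h.e ∧
      ∀ u ∈ h.P, ¬ IsConj h.t u) (And.intro (rfl : (1 : G) = 1) (And.intro e1 (And.intro e2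
        (And.intro e3 (And.intro e4 (And.intro e5 (And.intro e6 h.orb)))))))
  have le : closure {h.t, h.f, h.a, h.b, h.x} ≤ closure {h.t, h.f, h.a, h.b, h.x, 1} :=
    closure_mono (by rintro _ (rfl | rfl | rfl | rfl | rfl) <;> simp)
  have fE := fun (E : m * l = h.x) {σ w n k : G} (N' : SN h.t h.z (h.f * h.z) h.b h.a σ w n k) E'
      wx sw => (finE h.toHyp N E N' E' (one_mul 1) (.one_left _) (.one_left _) (.one_left _) wx alt
        (le h.xg) (by simp [cn]) (le h.gg) fX (.one_right _) (.one_right _) (.one_right _) (by simp [cn])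
        sw).imp fun _ e => e.2
  have fH := fun (E : m * l = h.x * (h.t * h.a)) {σ w n k : G}
      (N' : SN h.t h.z (h.f * h.z) h.b h.a σ w n k) E' wx =>
      (finH h.toHyp N E N' E' (one_mul 1) (.one_left _) (.one_left _) (.one_left _) wx alt
        (le h.xg) (by simp [cn]) (le h.gg) fX (absurd rfl) (absurd rfl) (.one_right _) (absurd rfl)
        (absurd rfl)).imp fun _ e => e.2
  rcases gact h with g1 | ⟨e1, e2, e3, e4, e5⟩
  · have k' := hk G (mir h.toHyp)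
    have A : Ac h.t h.z (h.f * h.z) h.b h.x (h.t * h.z) h.z h.b :=
      ⟨N.A.ht, N.A.hz, by en B' [N.A.rw], N.bx⟩
    obtain ⟨σ, R, S, hx⟩ := sideA k' A N.A.ha (N.xx ▸ one_mem _) fun n hn =>
      h.orb n ((mir_N0 _).1 hn)
    obtain ⟨c, n, k0, hc, N', ty'⟩ := coreN (t := h.t) (z := h.z) (f := h.f * h.z) (a := h.b)
      (b := h.a) (b0 k') S hx N.xx A N.A.ha
    have wx : h.x⁻¹ * (h.x * c) ∈ closure ({h.z, h.f} : Set G) := by
      rw [inv_mul_cancel_left]
      rcases hc with rfl | rfl <;> memc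
    rcases ty with E | E <;> rcases ty' with E' | E'
    · exact .inl (fE E N' E' wx (absurd g1))
    · obtain ⟨v, hv, c⟩ := mixed B' N E N' E' wx
      exact (dpA k v hv c).elim
    · obtain ⟨v, hv, c⟩ := mixed B'.mir N' E' (by rwa [fzz]) E
        ((mir_P h.toHyp).ge (by simpa [H42.N7.Pre.P] using wx))
      exact (dpA k v ((mir_P h.toHyp).le hv) c).elim
    · exact .inr (fH E N' E' wx)
  · have N0 := N.cj h.g
    rw [e1, e2, e3, e4] at N0
    have N' : SN h.t h.z (h.f * h.z) h.b h.a (cv ρ h.g) (cv h.x h.g) (cv m h.g) (cv l h.g) := by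
      rcases e5 with e | e <;> rw [e] at N0
      exacts [N0, N0.tf B'.mir]
    have wx : h.x⁻¹ * cv h.x h.g ∈ closure ({h.z, h.f} : Set G) := by
      have z0 : h.z ∈ closure ({h.t, h.f, h.a, h.b} : Set G) := zT h.toHyp (by memc) (by memc)
      have h1 := N'.A.ht
      have h2 := N'.A.ha
      have h3 := N'.bx
      have h4 := N'.xx
      rcases mem_ins (c := h.x) (S := {h.t, h.f, h.a, h.b}) (u := cv h.x h.g) (N.xx ▸ one_mem _)
        (by rintro _ (rfl | rfl | rfl | rfl) <;> en B' [N.A.rw, N.bx] <;> memc)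
        (closure_mono (by rintro _ (rfl | rfl | rfl | rfl | rfl) <;> simp) h.xg) with
        hu | ⟨u, hu, e⟩
      · obtain ⟨w, hw, e | e⟩ := B'.memT hu <;> rw [e] at h1 <;> en B' [B'.cE m1 hw] at h1 <;>
          eno B [] h1
      · rw [e] at h2 h3 h4 ⊢
        obtain ⟨w, hw, rfl | rfl⟩ := B'.memT hu
        · obtain ⟨v, hv, e⟩ := B'.memE hw
          rw [cv_cv, N.bx, cvd] at h2
          rcases B'.memW hv with rfl | rfl | rfl | rfl | rfl | rfl | rfl | rfl <;>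
            rcases e with rfl | rfl <;> en B' [N.A.rw, ri N.xx] at h2 h4 ⊢ <;>
            first | (memc; done) | eno B [] h4 | eno B [] h2
        · en B' [N.A.rw, B'.cE m2 hw, B'.cE (u := h.a) (by memc) hw] at h3
          eno B [] h3
    rcases ty with E | E
    · exact .inl (fE E N' (by rw [← cv_mul, E]) wx fun _ => ⟨rfl, rfl⟩)
    · have E' := congrArg (cv · h.g) E
      simp only [cv_mul, e1] at E'
      rcases e5 with e | e <;> rw [e] at E'
      · exact .inr (fH E N' E' wx)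
      · refine .inr (fH E (N'.mf B'.mir) ?_ (by
          rw [← mul_assoc]; exact mul_mem wx (by unfold H42.N7.Pre.P; memc)))
        rw [mul_assoc, ← mul_assoc (h.f * h.z), (cm_of (N'.Al B'.mir).hf).eq, mul_assoc _ (_ * _),
          B'.mir.ff, mul_one, E']
        en B' []

theorem na (hk : KitStmt.{u}) : NAStmt.{u} := by
  intro G _ _ h
  have k := hk G h.toHyp
  obtain ⟨ρ, R, S, hx⟩ := sideA k (acx h) (cv_of' h.xb) h.xP h.orb
  have key : ∀ h' : RA G, h'.toHyp = h.toHyp → h'.x ∈ R → h'.x * h'.x = 1 →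
      (∃ k : EE0 G, k.y = 1) ∨ ∃ k : HH G, k.y = 1 := fun h' e hx xx => by
    rw [← e] at k S
    obtain ⟨c, m, l, rfl | rfl, N, ty⟩ := coreN (b0 k) S hx xx (acx h') (cv_of' h'.xb)
    · rw [mul_one] at N ty
      exact na1 hk h' N ty
    · exact na1 hk (renA h' (.inr rfl)) N ty
  rcases coreX (b0 k) S hx (acx h) (one_mem _) ((cv_of h.xb).trans (mul_one _).symm) h.xP rfl with
    e | e
  · exact key h rfl hx e
  · refine key (renA h (.inl rfl)) rfl (mul_mem hx (S.ER m1)) ?_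
    have B := b1 h.toHyp
    change h.x * h.t * (h.x * h.t) = 1
    en B [(acx h).rw, rs e]

end Cfsg.Agent.H42.N36
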